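import Cfsg.Agent.Lib.PGroup.RepWeights
import Cfsg.Agent.Lib.Coprime.PGroupFrattini
import Mathlib.GroupTheory.Frattini
import Mathlib.LinearAlgebra.Dimension.Finrank

/-!
# Chains of augmentation images along a derived series

`chain ρ T i` is spanned by the vectors `(g_{i-1} - 1) ⋯ (g_0 - 1) w` with `g_j` in the `j`-th derived
subgroup of `T`.  A member of a decomposition permuted by `T` that is moved at each step lies in the
chain modulo the other members.
-/

set_option autoImplicit false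
set_option linter.style.haveILetI false
set_option linter.unusedSectionVars false

open Subgroup
open scoped commutatorElement

namespace CfsgLib.PGroup.DerivedTwo

universe u v w

variable {H : Type u} [Group H]

/-- The derived series of a subgroup, as subgroups of the ambient group. -/
def dser (T : Subgroup H) : ℕ → Subgroup H
  | 0 => T
  | i + 1 => ⁅dser T i, dser T i⁆

@[simp] theorem dser_zero (T : Subgroup H) : dser T 0 = T := rfl

theorem dser_succ (T : Subgroup H) (i : ℕ) : dser T (i + 1) = ⁅dser T i, dser T i⁆ := rfl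

theorem dser_map {H' : Type*} [Group H'] (f : H →* H') (T : Subgroup H) :
    ∀ i, (dser T i).map f = dser (T.map f) i
  | 0 => rfl
  | i + 1 => by rw [dser_succ, dser_succ, map_commutator, dser_map f T i]

theorem dser_eq (T : Subgroup H) : ∀ i, dser T i = (derivedSeries T i).map T.subtype
  | 0 => by rw [derivedSeries_zero, ← MonoidHom.range_eq_map, range_subtype]; rfl
  | i + 1 => by rw [dser_succ, derivedSeries_succ, map_commutator, dser_eq T i]

theorem dser_mono {T T' : Subgroup H} (h : T ≤ T') : ∀ i, dser T i ≤ dser T' i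
  | 0 => h
  | i + 1 => commutator_mono (dser_mono h i) (dser_mono h i)

theorem dser_succ_le (T : Subgroup H) (i : ℕ) : dser T (i + 1) ≤ dser T i :=
  commutator_le_self _

theorem dser_anti (T : Subgroup H) {i j : ℕ} (h : i ≤ j) : dser T j ≤ dser T i := by
  induction h with
  | refl => exact le_rfl
  | step _ ih => exact (dser_succ_le T _).trans ih

theorem dser_le (T : Subgroup H) (i : ℕ) : dser T i ≤ T := dser_anti T (Nat.zero_le i)

theorem conj_mem_dser {T : Subgroup H} {g : H} (hg : g ∈ normalizer (T : Set H)) (i : ℕ) {x : H}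
    (hx : x ∈ dser T i) : g * x * g⁻¹ ∈ dser T i := by
  have h := mem_map_of_mem (MulAut.conj g).toMonoidHom hx
  have e : T.map (MulAut.conj g).toMonoidHom = T := mem_normalizer_iff_map_conj_eq.1 hg
  rwa [dser_map, e] at h

theorem conj_mem_dser_self {T : Subgroup H} {g : H} (hg : g ∈ T) (i : ℕ) {x : H}
    (hx : x ∈ dser T i) : g * x * g⁻¹ ∈ dser T i :=
  conj_mem_dser (le_normalizer hg) i hx

variable {k : Type v} [Field k] {W : Type w} [AddCommGroup W] [Module k W]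
  (ρ : H →* Module.End k W)

/-- The span of the images of `g - 1`, `g ∈ G`, on `U`. -/
def aug (G : Subgroup H) (U : Submodule k W) : Submodule k W := ⨆ g ∈ G, U.map (ρ g - 1)

/-- The chain. -/
def chain (T : Subgroup H) : ℕ → Submodule k W
  | 0 => ⊤
  | i + 1 => aug ρ (dser T i) (chain T i)

theorem mem_aug {G : Subgroup H} {U : Submodule k W} {g : H} (hg : g ∈ G) {u : W} (hu : u ∈ U) :
    ρ g u - u ∈ aug ρ G U :=
  Submodule.mem_iSup_of_mem g (Submodule.mem_iSup_of_mem hg ⟨u, hu, rfl⟩)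

theorem aug_le {G : Subgroup H} {U S : Submodule k W} (h : ∀ g ∈ G, ∀ u ∈ U, ρ g u - u ∈ S) :
    aug ρ G U ≤ S := by
  refine iSup₂_le fun g hg => ?_
  rintro _ ⟨u, hu, rfl⟩
  exact h g hg u hu

theorem mem_chain_succ {T : Subgroup H} {i : ℕ} {g : H} (hg : g ∈ dser T i) {u : W}
    (hu : u ∈ chain ρ T i) : ρ g u - u ∈ chain ρ T (i + 1) :=
  mem_aug ρ hg hu

theorem chain_invariant {T : Subgroup H} : ∀ (i : ℕ) {t : H}, t ∈ T → ∀ {u : W}, u ∈ chain ρ T i →
    ρ t u ∈ chain ρ T i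
  | 0, _, _, _, _ => Submodule.mem_top
  | i + 1, t, ht, u, hu => by
    have hle : chain ρ T (i + 1) ≤ (chain ρ T (i + 1)).comap (ρ t) := aug_le ρ fun g hg v hv => by
      rw [Submodule.mem_comap, map_sub, ← Module.End.mul_apply, ← map_mul,
        show t * g = t * g * t⁻¹ * t by group, map_mul, Module.End.mul_apply]
      exact mem_chain_succ ρ (conj_mem_dser_self ht i hg) (chain_invariant i ht hv)
    exact hle hu

/-- The elements of the `i`-th derived subgroup move every vector into the `i`-th term. -/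
theorem sub_mem_chain {T : Subgroup H} : ∀ (i : ℕ) {g : H}, g ∈ dser T i → ∀ w : W,
    ρ g w - w ∈ chain ρ T i
  | 0, _, _, _ => Submodule.mem_top
  | i + 1, g, hg, w => by
    let M : Subgroup H :=
      { carrier := {g | g ∈ T ∧ ∀ w, ρ g w - w ∈ chain ρ T (i + 1)}
        one_mem' := ⟨one_mem _, fun w => by rw [map_one, Module.End.one_apply, sub_self]; exact zero_mem _⟩
        mul_mem' := fun {a b} ha hb => ⟨mul_mem ha.1 hb.1, fun w => by
          rw [map_mul, Module.End.mul_apply, show ρ a (ρ b w) - w = ρ a (ρ b w - w) + (ρ a w - w) by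
            rw [map_sub]; abel]
          exact add_mem (chain_invariant ρ (i + 1) ha.1 (hb.2 w)) (ha.2 w)⟩
        inv_mem' := fun {a} ha => ⟨inv_mem ha.1, fun w => by
          rw [show ρ a⁻¹ w - w = - ρ a⁻¹ (ρ a w - w) by
            rw [map_sub, neg_sub, rep_inv_apply]]
          exact neg_mem (chain_invariant ρ (i + 1) (inv_mem ha.1) (ha.2 w))⟩ }
    have hle : dser T (i + 1) ≤ M := by
      rw [dser_succ, commutator_le]
      intro x hx y hy
      have hxT := dser_le T i hx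
      have hyT := dser_le T i hy
      refine ⟨mul_mem (mul_mem (mul_mem hxT hyT) (inv_mem hxT)) (inv_mem hyT), fun w => ?_⟩
      set v := ρ (x⁻¹ * y⁻¹) w with hv
      have e1 : ρ ⁅x, y⁆ w = ρ x (ρ y v) := by
        rw [hv, ← rep_mul_apply, ← rep_mul_apply, commutatorElement_def]; congr 2; group
      have e2 : w = ρ y (ρ x v) := by
        rw [hv, ← rep_mul_apply, ← rep_mul_apply, show y * x * (x⁻¹ * y⁻¹) = 1 by group, map_one,
          Module.End.one_apply]
      rw [e1]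
      nth_rewrite 1 [e2]
      rw [show ρ x (ρ y v) - ρ y (ρ x v) =
        (ρ x (ρ y v - v) - (ρ y v - v)) - (ρ y (ρ x v - v) - (ρ x v - v)) by
          rw [map_sub, map_sub]; abel]
      exact sub_mem (mem_chain_succ ρ hx (sub_mem_chain i hy v))
        (mem_chain_succ ρ hy (sub_mem_chain i hx v))
    exact (hle hg).2 w

theorem chain_triple {T : Subgroup H} {d : ℕ} (h : chain ρ T (d + 2) = ⊥) {a b b' : H}
    (ha : a ∈ dser T (d + 1)) (hb : b ∈ dser T d) (hb' : b' ∈ dser T d) :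
    (ρ a - 1) * (ρ b - 1) * (ρ b' - 1) = 0 := by
  refine LinearMap.ext fun w => ?_
  have h1 := mem_chain_succ ρ ha (mem_chain_succ ρ hb (sub_mem_chain ρ d hb' w))
  rw [h, Submodule.mem_bot] at h1
  exact h1

/-- In a group whose derived subgroup lies in the Frattini subgroup, an orbit of the derived subgroup is
proper as soon as it is nontrivial. -/
theorem exists_moved {H : Type u} [Group H] [Finite H] {p : ℕ} [Fact p.Prime] {G S : Subgroup H}
    (hG : IsPGroup p G) (hne : ¬ G ≤ S) : ∃ g ∈ G, ∀ c ∈ ⁅G, G⁆, c * g ∉ S := by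
  by_contra h
  push Not at h
  refine hne ?_
  have hK : frattini G ⊔ S.subgroupOf G = ⊤ := by
    refine eq_top_iff.2 fun x _ => ?_
    obtain ⟨c, hc, hcx⟩ := h x x.2
    have hcG : c ∈ G := commutator_le_self G hc
    rw [show x = (⟨c, hcG⟩ : G)⁻¹ * (⟨c, hcG⟩ * x) by group]
    refine mul_mem (mem_sup_left (inv_mem ?_)) (mem_sup_right (mem_subgroupOf.2 hcx))
    refine CfsgLib.Coprime.commutator_le_frattini hG ?_
    rw [← map_subtype_commutator] at hc
    obtain ⟨c', hc', e⟩ := hc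
    rwa [show (⟨c, hcG⟩ : G) = c' from Subtype.ext e.symm]
  have h1 : S.subgroupOf G = ⊤ := frattini_nongenerating (by rwa [sup_comm] at hK)
  exact subgroupOf_eq_top.1 h1

variable (𝒮 : Set (Submodule k W))

/-- The members of `𝒮` off the `G`-orbit of `S`. -/
def others (G : Subgroup H) (S : Submodule k W) : Submodule k W :=
  sSup {U | U ∈ 𝒮 ∧ ∀ g ∈ G, U ≠ S.map (ρ g)}

theorem map_map_rep (g h : H) (S : Submodule k W) : (S.map (ρ h)).map (ρ g) = S.map (ρ (g * h)) := by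
  rw [← Submodule.map_comp, map_mul]; rfl

theorem map_rep_one (S : Submodule k W) : S.map (ρ 1) = S := by
  rw [map_one]; exact Submodule.map_id S

/-- The stabiliser of a submodule. -/
def fixer (S : Submodule k W) : Subgroup H where
  carrier := {g | S.map (ρ g) = S}
  one_mem' := map_rep_one ρ S
  mul_mem' := fun {a b} ha hb => by
    show S.map (ρ (a * b)) = S
    rw [← map_map_rep, hb, ha]
  inv_mem' := fun {a} ha => by
    show S.map (ρ a⁻¹) = S
    conv_lhs => rw [← ha]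
    rw [map_map_rep, inv_mul_cancel, map_rep_one]

theorem mem_fixer {S : Submodule k W} {g : H} : g ∈ fixer ρ S ↔ S.map (ρ g) = S := Iff.rfl

theorem rep_mem_of_fixer {S : Submodule k W} {g : H} (hg : g ∈ fixer ρ S) {w : W} (hw : w ∈ S) :
    ρ g w ∈ S := hg ▸ Submodule.mem_map_of_mem hw

variable {𝒮}

theorem others_invariant {G : Subgroup H} {S : Submodule k W} {t : H}
    (h𝒮 : ∀ U ∈ 𝒮, U.map (ρ t) ∈ 𝒮) (ht : ∀ g ∈ G, ∃ g' ∈ G, S.map (ρ (t⁻¹ * g)) = S.map (ρ g'))
    {o : W} (ho : o ∈ others ρ 𝒮 G S) : ρ t o ∈ others ρ 𝒮 G S := by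
  have hle : others ρ 𝒮 G S ≤ (others ρ 𝒮 G S).comap (ρ t) := by
    refine sSup_le fun U hU => ?_
    rw [← Submodule.map_le_iff_le_comap]
    refine le_sSup ⟨h𝒮 U hU.1, fun g hg e => ?_⟩
    obtain ⟨g', hg', e'⟩ := ht g hg
    refine hU.2 g' hg' ?_
    rw [← e', ← map_map_rep, ← e, map_map_rep, inv_mul_cancel, map_rep_one]
  exact hle ho

/-- A member moved at each step lies in the chain modulo the other members. -/
theorem le_chain_sup [Finite H] {T : Subgroup H} (hT : IsPGroup 2 T) (h𝒮 : ∀ t ∈ T, ∀ U ∈ 𝒮, U.map (ρ t) ∈ 𝒮)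
    {S : Submodule k W} (hS : S ∈ 𝒮) : ∀ j, (j = 0 ∨ ∃ i, i + 1 = j ∧ ¬ dser T i ≤ fixer ρ S) →
      S ≤ chain ρ T j ⊔ others ρ 𝒮 (dser T j) S := by
  haveI : Fact (Nat.Prime 2) := ⟨Nat.prime_two⟩
  intro j
  induction j with
  | zero => exact fun _ => le_sup_of_le_left le_top
  | succ j ih =>
    intro h
    have hmoved : ¬ dser T j ≤ fixer ρ S := by
      obtain ⟨i, hi, hi'⟩ := h.resolve_left (Nat.succ_ne_zero j)
      obtain rfl : i = j := by omega
      exact hi'
    obtain ⟨g, hg, hgm⟩ := exists_moved (hT.to_le (dser_le T j)) hmoved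
    have hprev := ih (by
      rcases j with _ | i
      · exact Or.inl rfl
      · exact Or.inr ⟨i, rfl, fun h' => hmoved ((dser_succ_le T i).trans h')⟩)
    intro v hv
    obtain ⟨c, hc, o, ho, e⟩ := Submodule.mem_sup.1 (hprev hv)
    have hsub : others ρ 𝒮 (dser T j) S ≤ others ρ 𝒮 (dser T (j + 1)) S :=
      sSup_le fun U hU => le_sSup ⟨hU.1, fun g' hg' => hU.2 g' (dser_succ_le T j hg')⟩
    rw [show v = (- (ρ g c - c)) + (ρ g v - ρ g o + o) by rw [← e, map_add]; abel]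
    refine Submodule.mem_sup.2 ⟨_, neg_mem (mem_chain_succ ρ hg hc), _, add_mem (sub_mem ?_ ?_) (hsub ho), rfl⟩
    · refine (le_sSup (s := {U | U ∈ 𝒮 ∧ ∀ g' ∈ dser T (j + 1), U ≠ S.map (ρ g')})
        ⟨h𝒮 g (dser_le T j hg) S hS, fun g' hg' e' => hgm g'⁻¹ (inv_mem hg') ?_⟩)
        (Submodule.mem_map_of_mem hv)
      rw [mem_fixer, ← map_map_rep, e', map_map_rep, inv_mul_cancel, map_rep_one]
    · exact hsub (others_invariant ρ (h𝒮 g (dser_le T j hg))
        (fun g' hg' => ⟨g⁻¹ * g', mul_mem (inv_mem hg) hg', rfl⟩) ho)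

/-- The maps `g - 1` carry a sum of a chain term and other members one step down. -/
theorem sub_mem_step {T : Subgroup H} (h𝒮 : ∀ t ∈ T, ∀ U ∈ 𝒮, U.map (ρ t) ∈ 𝒮) {S : Submodule k W}
    {j i : ℕ} (hji : j ≤ i) (hfix : dser T j ≤ fixer ρ S) {g : H} (hg : g ∈ dser T i) {v : W}
    (hv : v ∈ chain ρ T i ⊔ others ρ 𝒮 (dser T j) S) :
    ρ g v - v ∈ chain ρ T (i + 1) ⊔ others ρ 𝒮 (dser T j) S := by
  obtain ⟨c, hc, o, ho, rfl⟩ := Submodule.mem_sup.1 hv
  rw [show ρ g (c + o) - (c + o) = (ρ g c - c) + (ρ g o - o) by rw [map_add]; abel]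
  refine Submodule.mem_sup.2 ⟨_, mem_chain_succ ρ hg hc, _, sub_mem ?_ ho, rfl⟩
  exact others_invariant ρ (h𝒮 g (dser_le T i hg))
    (fun g' hg' => ⟨g⁻¹ * g', mul_mem (inv_mem (dser_anti T hji hg)) hg', rfl⟩) ho

theorem eq_zero_of_chain_sup {T : Subgroup H} {d : ℕ} (hzero : chain ρ T d = ⊥) {S : Submodule k W}
    {G : Subgroup H} (hsep : Disjoint S (sSup (𝒮 \ {S}))) {v : W} (hvS : v ∈ S)
    (hv : v ∈ chain ρ T d ⊔ others ρ 𝒮 G S) : v = 0 := by
  rw [hzero, bot_sup_eq] at hv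
  refine (Submodule.disjoint_def.1 hsep) v hvS (sSup_le_sSup
    (s := {U | U ∈ 𝒮 ∧ ∀ g ∈ G, U ≠ S.map (ρ g)}) (t := 𝒮 \ {S}) (fun U hU => ?_) hv)
  exact ⟨hU.1, fun e => hU.2 1 (one_mem _) (by rw [map_rep_one]; exact e)⟩

/-- What the chain says about a member of a decomposition. -/
theorem fixed_levels [Finite H] {T : Subgroup H} (hT : IsPGroup 2 T)
    (h𝒮 : ∀ t ∈ T, ∀ U ∈ 𝒮, U.map (ρ t) ∈ 𝒮) {d : ℕ} (hzero : chain ρ T d = ⊥) {S : Submodule k W}
    (hS : S ∈ 𝒮) (hsep : Disjoint S (sSup (𝒮 \ {S}))) {j : ℕ} (hj : j ≤ d)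
    (hmoved : j = 0 ∨ ∃ i, i + 1 = j ∧ ¬ dser T i ≤ fixer ρ S) (hfix : dser T j ≤ fixer ρ S) :
    (j = d → S = ⊥) ∧
    (j + 1 = d → ∀ a ∈ dser T j, ∀ w ∈ S, ρ a w = w) ∧
    (j + 2 = d → ∀ a ∈ dser T (j + 1), ∀ b ∈ dser T j, ∀ w ∈ S, (ρ a - 1) ((ρ b - 1) w) = 0) ∧
    (j + 3 = d → ∀ a ∈ dser T (j + 2), ∀ b ∈ dser T (j + 1), ∀ c ∈ dser T j, ∀ w ∈ S,
      (ρ a - 1) ((ρ b - 1) ((ρ c - 1) w)) = 0) := by
  have h0 := le_chain_sup ρ hT h𝒮 hS j hmoved
  have hin : ∀ {i : ℕ}, j ≤ i → ∀ {g : H}, g ∈ dser T i → ∀ {w : W}, w ∈ S → ρ g w - w ∈ S :=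
    fun hji g hg w hw => sub_mem (rep_mem_of_fixer ρ (hfix (dser_anti T hji hg)) hw) hw
  refine ⟨?_, ?_, ?_, ?_⟩
  · rintro rfl
    exact (Submodule.eq_bot_iff _).2 fun v hv => eq_zero_of_chain_sup ρ hzero hsep hv (h0 hv)
  · rintro rfl a ha w hw
    exact sub_eq_zero.1 (eq_zero_of_chain_sup ρ hzero hsep (hin le_rfl ha hw)
      (sub_mem_step ρ h𝒮 le_rfl hfix ha (h0 hw)))
  · rintro rfl a ha b hb w hw
    exact eq_zero_of_chain_sup ρ hzero hsep (hin (Nat.le_succ j) ha (hin le_rfl hb hw))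
      (sub_mem_step ρ h𝒮 (Nat.le_succ j) hfix ha (sub_mem_step ρ h𝒮 le_rfl hfix hb (h0 hw)))
  · rintro rfl a ha b hb c hc w hw
    exact eq_zero_of_chain_sup ρ hzero hsep
      (hin (by omega) ha (hin (Nat.le_succ j) hb (hin le_rfl hc hw)))
      (sub_mem_step ρ h𝒮 (by omega) hfix ha
        (sub_mem_step ρ h𝒮 (Nat.le_succ j) hfix hb (sub_mem_step ρ h𝒮 le_rfl hfix hc (h0 hw))))

end CfsgLib.PGroup.DerivedTwo
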