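import Cfsg.Agent.Lib.Coprime.PGroupFrattini
import Cfsg.Agent.Lib.Coprime.Solvable
import Mathlib.GroupTheory.Frattini
import Mathlib.GroupTheory.Perm.Basic
import Mathlib.Data.Fintype.Perm

/-!
# Two-groups: central involutions below the derived subgroup, and groups with one involution

`exists_central_involution`: a nonabelian normal subgroup below the derived subgroup has a central
involution other than a given one, central modulo that one (Burnside).
`structure_of_unique`: a `2`-group with a single involution over a normal nonabelian subgroup with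
commutators in `⟨ζ⟩`.  `diag_false`: such a group is no diagonal derived section.
-/

set_option autoImplicit false
set_option linter.style.haveILetI false
set_option linter.unusedSectionVars false

open Subgroup
open scoped commutatorElement

namespace CfsgLib.PGroup.DerivedTwo

universe u v

variable {G : Type u} [Group G]

/-- With one involution, elements of smaller order are powers of those of larger order. -/
theorem mem_zpowers_of_unique [Finite G] (hG : IsPGroup 2 G) {M : Subgroup G} {z : G}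
    (hc : ∀ a ∈ M, ∀ b ∈ M, Commute a b) (hu : ∀ g ∈ M, g * g = 1 → g = 1 ∨ g = z) :
    ∀ (n : ℕ) {p q : G}, p ∈ M → q ∈ M → p ≠ 1 → orderOf q = n → n ≤ orderOf p → q ∈ zpowers p := by
  haveI : Fact (Nat.Prime 2) := ⟨Nat.prime_two⟩
  intro n
  induction n using Nat.strong_induction_on with
  | _ n ih =>
  intro p q hp hq hp1 hn hle
  obtain ⟨m, hm⟩ := IsPGroup.iff_orderOf.1 hG p
  obtain ⟨l, hl⟩ := IsPGroup.iff_orderOf.1 hG q
  rcases l with _ | l
  · rw [pow_zero, orderOf_eq_one_iff] at hl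
    rw [hl]; exact one_mem _
  rcases m with _ | m
  · exact absurd (orderOf_eq_one_iff.1 (by rw [hm, pow_zero])) hp1
  have hz : z ∈ zpowers p := by
    have h1 : orderOf (p ^ 2 ^ m) = 2 := by
      rw [orderOf_pow' p (pow_ne_zero m two_ne_zero), hm, Nat.gcd_eq_right (pow_dvd_pow 2 (Nat.le_succ m)),
        pow_succ', Nat.mul_div_cancel _ (pow_pos two_pos m)]
    rcases hu _ (pow_mem hp _) (by rw [← pow_two, ← h1, pow_orderOf_eq_one]) with e | e
    · rw [e, orderOf_one] at h1; omega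
    · rw [← e]; exact pow_mem (mem_zpowers p) _
  have hq2 : orderOf (q * q) = 2 ^ l := by
    rw [← pow_two, orderOf_pow' q two_ne_zero, hl, Nat.gcd_eq_right (dvd_pow_self 2 (Nat.succ_ne_zero l)),
      pow_succ, Nat.mul_div_cancel _ two_pos]
  have hlt : 2 ^ l < n := by rw [← hn, hl]; exact Nat.pow_lt_pow_right (by norm_num) (Nat.lt_succ_self l)
  obtain ⟨t, ht⟩ := mem_zpowers_iff.1 (ih _ hlt hp (mul_mem hq hq) hp1 hq2 (by omega))
  obtain ⟨s, hs⟩ | ⟨s, hs⟩ := Int.even_or_odd t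
  · have hg : (q * (p ^ s)⁻¹) * (q * (p ^ s)⁻¹) = 1 := by
      rw [(hc q hq (p ^ s)⁻¹ (inv_mem (zpow_mem hp s))).symm.mul_mul_mul_comm, ← ht, hs, zpow_add]
      group
    have hmem : q * (p ^ s)⁻¹ ∈ zpowers p := by
      rcases hu _ (mul_mem hq (inv_mem (zpow_mem hp s))) hg with e | e <;> rw [e]
      · exact one_mem _
      · exact hz
    have := mul_mem hmem (zpow_mem (mem_zpowers p) s)
    rwa [inv_mul_cancel_right] at this
  · -- an odd power has the full order
    exfalso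
    have h1 : (p ^ t) ^ 2 ^ l = 1 := by rw [ht, ← hq2, pow_orderOf_eq_one]
    have h2 : (orderOf p : ℤ) ∣ t * (2 ^ l : ℕ) := orderOf_dvd_iff_zpow_eq_one.2 (by
      rw [zpow_mul, zpow_natCast, h1])
    have h3 : IsCoprime (orderOf p : ℤ) t := by
      rw [hm, Nat.cast_pow]
      exact (IsCoprime.pow_left (by
        rw [hs]; exact ⟨-s, 1, by push_cast; ring⟩))
    have h4 := Nat.le_of_dvd (pow_pos two_pos l) (Int.natCast_dvd_natCast.1 (h3.dvd_of_dvd_mul_left h2))
    omega

/-- An element conjugated into its coset of a central involution is centralized by commutators. -/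
theorem commutator_fixes_of_two_values {z f : G} (hz : z ∈ center G)
    (h : ∀ d : G, d * f * d⁻¹ = f ∨ d * f * d⁻¹ = f * z) {x : G} (hx : x ∈ commutator G) :
    Commute x f := by
  have hmem : ∀ d : G, f⁻¹ * (d * f * d⁻¹) ∈ center G := fun d => by
    rcases h d with e | e <;> rw [e]
    · rw [inv_mul_cancel]; exact one_mem _
    · rwa [inv_mul_cancel_left]
  let χ : G →* center G := MonoidHom.mk' (fun d => ⟨_, hmem d⟩) fun a b => Subtype.ext (by
    show f⁻¹ * (a * b * f * (a * b)⁻¹) = f⁻¹ * (a * f * a⁻¹) * (f⁻¹ * (b * f * b⁻¹))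
    set w := f⁻¹ * (b * f * b⁻¹) with hw
    have hc : a * w * a⁻¹ = w := by rw [mem_center_iff.1 (hmem b) a, mul_inv_cancel_right]
    calc f⁻¹ * (a * b * f * (a * b)⁻¹) = f⁻¹ * (a * f * a⁻¹) * (a * w * a⁻¹) := by rw [hw]; group
      _ = _ := by rw [hc])
  have hker : commutator G ≤ χ.ker := by
    rw [_root_.commutator_def, commutator_le]
    intro a _ b _
    rw [MonoidHom.mem_ker, map_commutatorElement, commutatorElement_eq_one_iff_mul_comm]
    exact Subtype.ext (mem_center_iff.1 (χ b).2 (χ a : G))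
  have h1 : f⁻¹ * (x * f * x⁻¹) = 1 := congrArg Subtype.val (MonoidHom.mem_ker.1 (hker hx))
  exact mul_inv_eq_iff_eq_mul.1 (inv_mul_eq_one.1 h1).symm

/-- **Burnside.**  A nonabelian normal subgroup below the derived subgroup has a second central
involution. -/
theorem exists_central_involution [Finite G] (hG : IsPGroup 2 G) (N : Subgroup G) [N.Normal]
    (hN : N ≤ commutator G) (hne : ∃ x ∈ N, ∃ y ∈ N, ¬ Commute x y) {z : G} (hz : z ∈ center G)
    (hzN : z ∈ N) (hzz : z * z = 1) :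
    ∃ e ∈ N, (∀ n ∈ N, Commute n e) ∧ e * e = 1 ∧ e ≠ 1 ∧ e ≠ z ∧
      ∀ d : G, d * e * d⁻¹ = e ∨ d * e * d⁻¹ = e * z := by
  classical
  haveI : Fact (Nat.Prime 2) := ⟨Nat.prime_two⟩
  haveI : Group.IsNilpotent G := hG.isNilpotent
  set C := N ⊓ centralizer (N : Set G) with hC
  haveI hCn : C.Normal := normal_inf_normal N _
  have hCc : ∀ a ∈ C, ∀ b ∈ C, Commute a b := fun a ha b hb => (mem_centralizer_iff.1 hb.2 a ha.1)
  let E : Subgroup G :=
    { carrier := {e | e ∈ C ∧ e * e = 1}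
      one_mem' := ⟨one_mem _, one_mul 1⟩
      mul_mem' := fun {a b} ha hb => ⟨mul_mem ha.1 hb.1, by
        rw [(hCc b hb.1 a ha.1).mul_mul_mul_comm, ha.2, hb.2, one_mul]⟩
      inv_mem' := fun {a} ha => ⟨inv_mem ha.1, by rw [← mul_inv_rev, ha.2, inv_one]⟩ }
  haveI hEn : E.Normal := ⟨fun e he g => ⟨hCn.conj_mem e he.1 g, by
    rw [show g * e * g⁻¹ * (g * e * g⁻¹) = g * (e * e) * g⁻¹ by group, he.2, mul_one, mul_inv_cancel]⟩⟩
  haveI hzn : (zpowers z).Normal := ⟨fun x hx g => by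
    have hxc : x ∈ center G := zpowers_le.2 hz hx
    rwa [mem_center_iff.1 hxc g, mul_inv_cancel_right]⟩
  have hzmem : ∀ x ∈ zpowers z, x = 1 ∨ x = z := by
    intro x hx
    obtain ⟨i, rfl⟩ := mem_zpowers_iff.1 hx
    obtain ⟨s, rfl⟩ | ⟨s, rfl⟩ := Int.even_or_odd i
    · exact Or.inl (by rw [← two_mul, zpow_mul, zpow_two, hzz, one_zpow])
    · exact Or.inr (by rw [zpow_add, zpow_mul, zpow_two, hzz, one_zpow, one_mul, zpow_one])
  set q := QuotientGroup.mk' (zpowers z) with hq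
  haveI : Group.IsNilpotent (G ⧸ zpowers z) := Group.nilpotent_of_surjective q (QuotientGroup.mk'_surjective _)
  by_cases hE : E ≤ zpowers z
  swap
  · haveI : (E.map q).Normal := hEn.map q (QuotientGroup.mk'_surjective _)
    have h1 : E.map q ≠ ⊥ := fun e => hE (by
      rwa [Subgroup.map_eq_bot_iff, QuotientGroup.ker_mk'] at e)
    obtain ⟨⟨v, hv⟩, hv1'⟩ := Subgroup.ne_bot_iff_exists_ne_one.1
      (CfsgLib.Coprime.nilpotent_inf_center_ne_bot (E.map q) h1)
    have hv1 : v ≠ 1 := fun e => hv1' (Subtype.ext e)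
    obtain ⟨⟨e, he, rfl⟩, hvc⟩ := hv
    refine ⟨e, he.1.1, fun n hn => mem_centralizer_iff.1 he.1.2 n hn, he.2, ?_, ?_, fun d => ?_⟩
    · rintro rfl; exact hv1 (map_one q)
    · rintro rfl; exact hv1 ((QuotientGroup.eq_one_iff _).2 (mem_zpowers e))
    · have h2 : q (e⁻¹ * (d * e * d⁻¹)) = 1 := by
        rw [map_mul, map_mul, map_mul, map_inv, map_inv, mem_center_iff.1 hvc (q d),
          mul_inv_cancel_right, inv_mul_cancel]
      rcases hzmem _ ((QuotientGroup.eq_one_iff _).1 h2) with e' | e'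
      · exact Or.inl (inv_mul_eq_one.1 e').symm
      · exact Or.inr (inv_mul_eq_iff_eq_mul.1 e')
  -- otherwise the centre has one involution
  exfalso
  obtain ⟨a₀, ha₀, b₀, hb₀, hab₀⟩ := hne
  have huC : ∀ g ∈ C, g * g = 1 → g = 1 ∨ g = z := fun g hg hgg => hzmem g (hE ⟨hg, hgg⟩)
  set qC := QuotientGroup.mk' C with hqC
  haveI : Group.IsNilpotent (G ⧸ C) := Group.nilpotent_of_surjective qC (QuotientGroup.mk'_surjective _)
  haveI : (N.map qC).Normal := (inferInstance : N.Normal).map qC (QuotientGroup.mk'_surjective _)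
  have h1 : N.map qC ≠ ⊥ := fun e => hab₀ (by
    rw [Subgroup.map_eq_bot_iff, QuotientGroup.ker_mk'] at e
    exact (mem_centralizer_iff.1 (e hb₀).2 a₀ ha₀))
  have h2 : N.map qC ⊓ center (G ⧸ C) ≠ ⊥ := CfsgLib.Coprime.nilpotent_inf_center_ne_bot _ h1
  obtain ⟨m, hm⟩ := IsPGroup.iff_card.1 ((hG.to_quotient C).to_subgroup (N.map qC ⊓ center (G ⧸ C)))
  obtain ⟨⟨v, hv⟩, hvord⟩ := exists_prime_orderOf_dvd_card'
    (G := (N.map qC ⊓ center (G ⧸ C) : Subgroup (G ⧸ C))) 2 (by
      rw [hm]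
      exact dvd_pow_self 2 fun e0 => h2 (card_eq_one.1 (by rw [hm, e0, pow_zero])))
  rw [Subgroup.orderOf_mk] at hvord
  obtain ⟨⟨x, hxN, rfl⟩, hxc⟩ := hv
  have hxC : x ∉ C := fun h => by
    rw [show qC x = 1 from (QuotientGroup.eq_one_iff x).2 h, orderOf_one] at hvord
    omega
  have hxx : x * x ∈ C := (QuotientGroup.eq_one_iff _).1 (by
    show qC (x * x) = 1
    rw [map_mul, ← pow_two, ← hvord, pow_orderOf_eq_one])
  have hxd : ∀ d : G, x⁻¹ * (d * x * d⁻¹) ∈ C := fun d => (QuotientGroup.eq_one_iff _).1 (by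
    show qC (x⁻¹ * (d * x * d⁻¹)) = 1
    rw [map_mul, map_mul, map_mul, map_inv, map_inv, mem_center_iff.1 hxc (qC d),
      mul_inv_cancel_right, inv_mul_cancel])
  have hCx : ∀ c ∈ C, Commute x c := fun c hc => mem_centralizer_iff.1 hc.2 x hxN
  let M : Subgroup G :=
    { carrier := {g | g ∈ C ∨ x⁻¹ * g ∈ C}
      one_mem' := Or.inl (one_mem _)
      mul_mem' := by
        rintro a b (ha | ha) (hb | hb)
        · exact Or.inl (mul_mem ha hb)
        · exact Or.inr (by
            rw [← mul_assoc, show x⁻¹ * a = a * x⁻¹ from (hCx a ha).inv_left.eq, mul_assoc]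
            exact mul_mem ha hb)
        · exact Or.inr (by rw [← mul_assoc]; exact mul_mem ha hb)
        · refine Or.inl ?_
          rw [show a * b = x * x * ((x⁻¹ * a) * (x⁻¹ * b)) by
            rw [← mul_assoc (x * x), mul_assoc x x, mul_inv_cancel_left, mul_assoc,
              ← mul_assoc a x⁻¹ b]
            rw [show x * (a * x⁻¹ * b) = x * a * x⁻¹ * b by group]
            have hxa : Commute x a := by
              rw [show a = x * (x⁻¹ * a) by group]
              exact (Commute.refl x).mul_right (hCx _ ha)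
            rw [hxa.eq, mul_inv_cancel_right]]
          exact mul_mem hxx (mul_mem ha hb)
      inv_mem' := by
        rintro a (ha | ha)
        · exact Or.inl (inv_mem ha)
        · refine Or.inr ?_
          rw [show x⁻¹ * a⁻¹ = (x * x)⁻¹ * (x * (x⁻¹ * a)⁻¹ * x⁻¹) by group,
            show x * (x⁻¹ * a)⁻¹ * x⁻¹ = (x⁻¹ * a)⁻¹ by rw [(hCx _ (inv_mem ha)).eq, mul_inv_cancel_right]]
          exact mul_mem (inv_mem hxx) (inv_mem ha) }
  have hCM : ∀ c ∈ C, c ∈ M := fun c hc => Or.inl hc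
  have hxM : x ∈ M := Or.inr (by rw [inv_mul_cancel]; exact one_mem _)
  have hMc : ∀ a ∈ M, ∀ b ∈ M, Commute a b := by
    have hsplit : ∀ a ∈ M, ∃ c ∈ C, a = c ∨ a = x * c := by
      rintro a (ha | ha)
      · exact ⟨a, ha, Or.inl rfl⟩
      · exact ⟨_, ha, Or.inr (mul_inv_cancel_left x a).symm⟩
    intro a ha b hb
    obtain ⟨c, hc, rfl | rfl⟩ := hsplit a ha <;> obtain ⟨c', hc', rfl | rfl⟩ := hsplit b hb
    · exact hCc _ hc _ hc'
    · exact (hCx _ hc).symm.mul_right (hCc _ hc _ hc')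
    · exact (hCx _ hc').mul_left (hCc _ hc _ hc')
    · exact ((Commute.refl x).mul_right (hCx _ hc')).mul_left
        ((hCx _ hc).symm.mul_right (hCc _ hc _ hc'))
  have hMn : ∀ d : G, ∀ g ∈ M, d * g * d⁻¹ ∈ M := by
    rintro d g (hg | hg)
    · exact Or.inl (hCn.conj_mem g hg d)
    · refine Or.inr ?_
      rw [show x⁻¹ * (d * g * d⁻¹) = x⁻¹ * (d * x * d⁻¹) * (d * (x⁻¹ * g) * d⁻¹) by group]
      exact mul_mem (hxd d) (hCn.conj_mem _ hg d)
  have hMN : ∀ g ∈ M, g ∈ N := by
    rintro g (hg | hg)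
    · exact hg.1
    · exact mul_inv_cancel_left x g ▸ mul_mem hxN hg.1
  by_cases huM : ∀ g ∈ M, g * g = 1 → g = 1 ∨ g = z
  · -- cyclic
    obtain ⟨p, hpM, hpmax⟩ := Set.exists_max_image {g : G | g ∈ M} orderOf (Set.toFinite _) ⟨x, hxM⟩
    have hp1 : p ≠ 1 := by
      rintro rfl
      have h3 := hpmax x hxM
      rw [orderOf_one] at h3
      have h4 : orderOf x = 1 := le_antisymm h3 (orderOf_pos x)
      exact hxC (orderOf_eq_one_iff.1 h4 ▸ one_mem C)
    have hgen : ∀ g ∈ M, g ∈ zpowers p := fun g hg =>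
      mem_zpowers_of_unique hG hMc huM _ hpM hg hp1 rfl (hpmax g hg)
    have hfix : ∀ n ∈ N, Commute n p := by
      intro n hn
      have hle : commutator G ≤ centralizer ({p} : Set G) := by
        rw [_root_.commutator_def, commutator_le]
        intro a _ b _
        rw [mem_centralizer_singleton_iff]
        have hpow : ∀ d : G, ∃ i : ℤ, d * p * d⁻¹ = p ^ i := fun d =>
          (mem_zpowers_iff.1 (hgen _ (hMn d p hpM))).imp fun _ e => e.symm
        have hstep : ∀ (d : G) (i j : ℤ), d * p * d⁻¹ = p ^ i → d * p ^ j * d⁻¹ = p ^ (i * j) :=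
          fun d i j e => by rw [← conj_zpow, e, zpow_mul]
        obtain ⟨i, hi⟩ := hpow a
        obtain ⟨j, hj⟩ := hpow b
        obtain ⟨i', hi'⟩ := hpow a⁻¹
        obtain ⟨j', hj'⟩ := hpow b⁻¹
        have ea : p = p ^ (i * i') := by
          rw [← hstep a i i' hi, ← hi']; group
        have eb : p = p ^ (j * j') := by
          rw [← hstep b j j' hj, ← hj']; group
        refine mul_inv_eq_iff_eq_mul.1 ?_
        calc ⁅a, b⁆ * p * ⁅a, b⁆⁻¹ = a * (b * (a⁻¹ * (b⁻¹ * p * b⁻¹⁻¹) * a⁻¹⁻¹) * b⁻¹) * a⁻¹ := by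
              simp only [commutatorElement_def]; group
          _ = p ^ (i * (j * (i' * j'))) := by
              rw [hj', hstep a⁻¹ i' j' hi', hstep b j _ hj, hstep a i _ hi]
          _ = (p ^ (i * i')) ^ (j * j') := by rw [← zpow_mul]; congr 1; ring
          _ = p := by rw [← ea, ← eb]
      exact mem_centralizer_singleton_iff.1 (hle (hN hn))
    refine hxC ⟨hxN, mem_centralizer_iff.2 fun n hn => ?_⟩
    obtain ⟨i, hi⟩ := mem_zpowers_iff.1 (hgen x hxM)
    exact hi ▸ (hfix n hn).zpow_right i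
  · push Not at huM
    obtain ⟨f, hfM, hff, hf1, hfz⟩ := huM
    have hfC : f ∉ C := fun h => (huC f h hff).elim hf1 hfz
    have hfx : x⁻¹ * f ∈ C := hfM.resolve_left hfC
    have hinv : ∀ g ∈ M, g ∉ C → g * g = 1 → g = f ∨ g = f * z := by
      intro g hg hgC hgg
      have hgx : x⁻¹ * g ∈ C := hg.resolve_left hgC
      have hfg : f * g ∈ C := by
        rw [show f * g = x * (x⁻¹ * f) * (x * (x⁻¹ * g)) by group,
          (hCx _ hfx).eq, mul_assoc, ← mul_assoc x x]
        exact mul_mem hfx (mul_mem hxx hgx)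
      have e0 : g = f * (f * g) := by rw [← mul_assoc, hff, one_mul]
      rcases huC _ hfg (by rw [(hMc g hg f hfM).mul_mul_mul_comm, hff, hgg, one_mul]) with e | e
      · exact Or.inl (by rw [e0, e, mul_one])
      · exact Or.inr (by rw [e0, e])
    refine hfC ⟨hMN f hfM, mem_centralizer_iff.2 fun n hn => ?_⟩
    refine commutator_fixes_of_two_values hz (fun d => hinv _ (hMn d f hfM) (fun h => hfC ?_) ?_) (hN hn)
    · have := hCn.conj_mem _ h d⁻¹
      rwa [show d⁻¹ * (d * f * d⁻¹) * d⁻¹⁻¹ = f by group] at this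
    · rw [show d * f * d⁻¹ * (d * f * d⁻¹) = d * (f * f) * d⁻¹ by group, hff, mul_one, mul_inv_cancel]


section OneInvolution

variable {P : Type v} [Group P] [Finite P] (hP : IsPGroup 2 P) {ζ : P} (hζ : ζ ∈ center P)
  (hζζ : ζ * ζ = 1) (hu : ∀ g : P, g * g = 1 → g = 1 ∨ g = ζ) (Y : Subgroup P) [hYn : Y.Normal]
  (hne : ∃ x ∈ Y, ∃ y ∈ Y, ¬ Commute x y)
  (hYY : ∀ a ∈ Y, ∀ b ∈ Y, ⁅a, b⁆ = 1 ∨ ⁅a, b⁆ = ζ)
include hP hζ hζζ hu hYn hne hYY

/-- The shape of `P`: `Y` is a quaternion group of index at most two, and if the index is two the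
elements with square off `⟨ζ⟩` form one coset of a cyclic subgroup `N` of order four. -/
theorem structure_of_unique :
    ∃ N : Subgroup P, N.Normal ∧ N ≤ Y ∧ (∀ g : P, g * g ∈ N) ∧ (∀ a ∈ N, ∀ b ∈ N, Commute a b) ∧
      zpowers ζ ≤ N ∧ (∀ y ∈ Y, y * y ∈ zpowers ζ) ∧
      ((∀ g, g ∈ Y) ∨ ∃ t : P, t ∉ Y ∧ t * t ∉ zpowers ζ ∧
        (∀ n ∈ N, n ∈ zpowers ζ ∨ n * (t * t) ∈ zpowers ζ) ∧
        (∀ g ∉ Y, t⁻¹ * g ∈ Y) ∧
        (∀ g ∉ Y, g * g ∉ zpowers ζ → t⁻¹ * g ∈ N) ∧
        (∀ y ∈ Y, ∀ y' ∈ Y, y ∉ N → y' ∉ N → y⁻¹ * y' ∈ N)) := by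
  classical
  haveI : Fact (Nat.Prime 2) := ⟨Nat.prime_two⟩
  have hzc : ∀ g : P, Commute g ζ := fun g => mem_center_iff.1 hζ g
  have hzmem : ∀ {x : P}, x ∈ zpowers ζ ↔ x = 1 ∨ x = ζ := by
    intro x
    refine ⟨fun hx => ?_, ?_⟩
    · obtain ⟨i, rfl⟩ := mem_zpowers_iff.1 hx
      obtain ⟨s, rfl⟩ | ⟨s, rfl⟩ := Int.even_or_odd i
      · exact Or.inl (by rw [← two_mul, zpow_mul, zpow_two, hζζ, one_zpow])
      · exact Or.inr (by rw [zpow_add, zpow_mul, zpow_two, hζζ, one_zpow, one_mul, zpow_one])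
    · rintro (rfl | rfl)
      · exact one_mem _
      · exact mem_zpowers _
  have hYcomm : ∀ a ∈ Y, ∀ b ∈ Y, ¬ Commute a b → a * b = ζ * (b * a) := by
    intro a ha b hb hab
    rcases hYY a ha b hb with e | e
    · exact absurd (commutatorElement_eq_one_iff_commute.1 e) hab
    · rw [← e, commutatorElement_def]; group
  obtain ⟨x₀, hx₀, y₀, hy₀, hxy₀⟩ := hne
  have hζY : ζ ∈ Y := by
    rcases hYY x₀ hx₀ y₀ hy₀ with e | e
    · exact absurd (commutatorElement_eq_one_iff_commute.1 e) hxy₀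
    · rw [← e, commutatorElement_def]
      exact mul_mem (mul_mem (mul_mem hx₀ hy₀) (inv_mem hx₀)) (inv_mem hy₀)
  -- squares of `Y` are central in `Y`
  have hsqc : ∀ a ∈ Y, ∀ b ∈ Y, Commute (a * a) b := by
    intro a ha b hb
    by_cases hab : Commute a b
    · exact hab.mul_left hab
    · have e := hYcomm a ha b hb hab
      show a * a * b = b * (a * a)
      rw [mul_assoc, e, ← mul_assoc, (hzc a).eq, mul_assoc, ← mul_assoc a b a, e, mul_assoc, ← mul_assoc ζ,
        hζζ, one_mul, mul_assoc]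
  -- an element of order four that is not central in `Y`
  have key : ∀ x ∈ Y, ∀ y ∈ Y, ¬ Commute x y → orderOf y ≤ orderOf x →
      ∃ i ∈ Y, i * i = ζ ∧ ∃ j ∈ Y, ¬ Commute i j := by
    intro x hx y hy hxy hle
    have hnt : ∀ w ∈ Y, ∀ w' ∈ Y, ¬ Commute w w' → w * w ≠ 1 := fun w _ w' _ hw e => by
      rcases hu w e with rfl | rfl
      · exact hw (Commute.one_left _)
      · exact hw (hzc w').symm
    have hmem : ∀ w ∈ Y, w * w ∈ Y ⊓ centralizer (Y : Set P) := fun w hw =>
      ⟨mul_mem hw hw, mem_centralizer_iff.2 fun v hv => (hsqc w hw v hv).symm⟩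
    have ho : ∀ w : P, w * w ≠ 1 → orderOf (w * w) * 2 = orderOf w := by
      intro w hw
      obtain ⟨n, hn⟩ := IsPGroup.iff_orderOf.1 hP w
      rcases n with _ | n
      · rw [pow_zero, orderOf_eq_one_iff] at hn
        exact absurd (by rw [hn, one_mul]) hw
      rw [← pow_two, orderOf_pow' w two_ne_zero, hn, Nat.gcd_eq_right (dvd_pow_self 2 (Nat.succ_ne_zero n)),
        pow_succ, Nat.mul_div_cancel _ two_pos]
    have hy1 : y * y ≠ 1 := hnt y hy x hx fun h => hxy h.symm
    have hx1 : x * x ≠ 1 := hnt x hx y hy hxy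
    obtain ⟨s, hs⟩ := mem_zpowers_iff.1 (mem_zpowers_of_unique hP (M := Y ⊓ centralizer (Y : Set P))
      (z := ζ) (fun a ha b hb => mem_centralizer_iff.1 hb.2 a ha.1) (fun g _ => hu g) _ (hmem x hx) (hmem y hy)
      hx1 rfl (by have := ho x hx1; have := ho y hy1; omega))
    have hs' : y * y = x ^ s * x ^ s := by rw [← hs, (Commute.refl x).mul_zpow]
    have hxsY : x ^ s ∈ Y := zpow_mem hx s
    set i := y * (x ^ s)⁻¹ with hi
    have hix : ¬ Commute i x := fun h => hxy (by
      have := (h.mul_left ((Commute.refl x).zpow_left s) : Commute (i * x ^ s) x)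
      rw [hi, inv_mul_cancel_right] at this
      exact this.symm)
    by_cases hys : Commute y (x ^ s)
    · exfalso
      have hii : i * i = 1 := by rw [hi, hys.inv_right.symm.mul_mul_mul_comm, hs']; group
      rcases hu i hii with e | e
      · exact hix (e ▸ Commute.one_left x)
      · exact hix (e ▸ (hzc x).symm)
    · refine ⟨i, mul_mem hy (inv_mem hxsY), ?_, x, hx, hix⟩
      have e := hYcomm y hy (x ^ s) hxsY hys
      have e' : (x ^ s)⁻¹ * y = ζ * (y * (x ^ s)⁻¹) := by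
        rw [inv_mul_eq_iff_eq_mul, ← mul_assoc, (hzc (x ^ s)).eq, mul_assoc, ← mul_assoc (x ^ s) y,
          show x ^ s * y = ζ * (y * x ^ s) by rw [e, ← mul_assoc, hζζ, one_mul], ← mul_assoc ζ,
          ← mul_assoc ζ, hζζ]
        group
      calc i * i = y * ((x ^ s)⁻¹ * y) * (x ^ s)⁻¹ := by rw [hi]; group
        _ = ζ * (y * y * ((x ^ s)⁻¹ * (x ^ s)⁻¹)) := by
          rw [e', ← mul_assoc y ζ, (hzc y).eq]; group
        _ = ζ := by rw [hs']; group
  obtain ⟨i, hi, hiζ, j₀, hj₀, hij₀⟩ : ∃ i ∈ Y, i * i = ζ ∧ ∃ j ∈ Y, ¬ Commute i j := by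
    rcases le_total (orderOf y₀) (orderOf x₀) with hle | hle
    · exact key x₀ hx₀ y₀ hy₀ hxy₀ hle
    · exact key y₀ hy₀ x₀ hx₀ (fun h => hxy₀ h.symm) hle
  have hcent : ∀ g : P, Commute g i → Commute g j₀ → g ∈ zpowers ζ := by
    intro g hgi hgj
    rw [hzmem]
    refine hu g ?_
    by_contra hgg
    obtain ⟨n, hn⟩ := IsPGroup.iff_orderOf.1 hP g
    rcases n with _ | _ | n
    · rw [pow_zero, orderOf_eq_one_iff] at hn
      exact hgg (by rw [hn, one_mul])
    · exact hgg (by rw [← pow_two, show (2:ℕ) = 2 ^ (0 + 1) from rfl, ← hn, pow_orderOf_eq_one])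
    set m := g ^ 2 ^ n with hm
    have hmo : orderOf m = 4 := by
      rw [hm, orderOf_pow' g (pow_ne_zero n two_ne_zero), hn,
        Nat.gcd_eq_right (pow_dvd_pow 2 (by omega)), show n + 1 + 1 = 2 + n by omega, pow_add,
        Nat.mul_div_cancel _ (pow_pos two_pos n)]
      rfl
    have hmm : m * m = ζ := by
      have h4 : m * m * (m * m) = 1 := by
        rw [← pow_two, ← pow_two, ← pow_mul, show 2 * 2 = orderOf m by rw [hmo], pow_orderOf_eq_one]
      refine (hu _ h4).resolve_left fun e => ?_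
      have := Nat.le_of_dvd two_pos (orderOf_dvd_of_pow_eq_one (x := m) (n := 2) (by rw [pow_two]; exact e))
      omega
    have hmi : Commute m i := hgi.pow_left _
    have hmj : Commute m j₀ := hgj.pow_left _
    have h1 : m * i * (m * i) = 1 := by rw [hmi.symm.mul_mul_mul_comm, hmm, hiζ, hζζ]
    rcases hu _ h1 with e | e
    · exact hij₀ ((inv_eq_of_mul_eq_one_right e) ▸ hmj.inv_left)
    · have e' : i = m⁻¹ * ζ := by rw [← e, inv_mul_cancel_left]
      exact hij₀ (e' ▸ hmj.inv_left.mul_left (hzc j₀).symm)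
  have hsq : ∀ a ∈ Y, a * a ∈ zpowers ζ := fun a ha => hcent _ (hsqc a ha i hi) (hsqc a ha j₀ hj₀)
  have hCY : ∀ g : P, (∀ y ∈ Y, Commute g y) → g ∈ zpowers ζ := fun g h => hcent g (h i hi) (h j₀ hj₀)
  -- the classes
  have hjj : j₀ * j₀ = ζ := by
    refine (hzmem.1 (hsq _ hj₀)).resolve_left fun e => ?_
    rcases hu _ e with e' | e'
    · exact hij₀ (e' ▸ Commute.one_right i)
    · exact hij₀ (e' ▸ hzc i)
  let S : Set (Subgroup P) := {zpowers i, zpowers j₀, zpowers (i * j₀)}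
  have hS3 : ∀ y ∈ Y, y ∉ zpowers ζ → zpowers y ∈ S := by
    intro y hy hyζ
    have hadj : ∀ a ∈ Y, ∀ b ∈ Y, ∀ c ∈ Y, ¬ Commute a c → ¬ Commute b c → Commute (a * b) c := by
      intro a ha b hb c hc hac hbc
      show a * b * c = c * (a * b)
      rw [mul_assoc, hYcomm b hb c hc hbc, ← mul_assoc, (hzc a).eq, mul_assoc, ← mul_assoc a c b,
        hYcomm a ha c hc hac, mul_assoc, ← mul_assoc ζ, hζζ, one_mul, mul_assoc]
    have hnz : ∀ {a : P}, a * a = ζ → ∀ {b : P}, b = a ∨ b = a * ζ → zpowers b = zpowers a := by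
      intro a ha b hb
      rcases hb with rfl | rfl
      · rfl
      · rw [show a * ζ = a ^ 3 by rw [← ha, ← pow_two, ← pow_succ']]
        refine le_antisymm (zpowers_le.2 (pow_mem (mem_zpowers a) 3)) (zpowers_le.2 ?_)
        have h4 : a ^ 8 = 1 := by
          rw [show 8 = 2 * (2 * 2) from rfl, pow_mul, pow_mul, pow_two a, ha, pow_two ζ, hζζ, one_pow]
        have : a = (a ^ 3) ^ 3 := by rw [← pow_mul, show 3 * 3 = 8 + 1 from rfl, pow_add, h4, one_mul, pow_one]
        exact (congrArg (· ∈ zpowers (a ^ 3)) this).mpr (pow_mem (mem_zpowers _) 3)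
    have hijc : ¬ Commute (i * j₀) i := fun h => hij₀ (by
      have := ((Commute.refl i).inv_left.mul_left h : Commute (i⁻¹ * (i * j₀)) i)
      rw [inv_mul_cancel_left] at this
      exact this.symm)
    have hijj : (i * j₀) * (i * j₀) = ζ := by
      calc i * j₀ * (i * j₀) = i * (j₀ * i) * j₀ := by group
        _ = i * (ζ * (i * j₀)) * j₀ := by rw [hYcomm j₀ hj₀ i hi (fun h => hij₀ h.symm)]
        _ = ζ * ((i * i) * (j₀ * j₀)) := by rw [← mul_assoc i ζ, (hzc i).eq]; group
        _ = ζ := by rw [hiζ, hjj, hζζ, mul_one]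
    have hof : ∀ {a : P}, a * a = ζ → Commute (y * a) i → Commute (y * a) j₀ → zpowers y = zpowers a := by
      intro a ha h1 h2
      refine hnz ha ?_
      rcases hzmem.1 (hcent _ h1 h2) with e | e
      · refine Or.inr ?_
        rw [show y = a⁻¹ from eq_inv_of_mul_eq_one_left e, inv_eq_iff_mul_eq_one, ← mul_assoc, ha, hζζ]
      · refine Or.inl ?_
        rw [show y = ζ * a⁻¹ from eq_mul_inv_of_mul_eq e, ← ha, mul_inv_cancel_right]
    by_cases h1 : Commute y i <;> by_cases h2 : Commute y j₀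
    · exact absurd (hcent y h1 h2) hyζ
    · left
      exact hof hiζ (h1.mul_left (Commute.refl i)) (hadj y hy i hi j₀ hj₀ h2 hij₀)
    · right; left
      exact hof hjj (hadj y hy j₀ hj₀ i hi h1 fun h => hij₀ h.symm) (h2.mul_left (Commute.refl j₀))
    · right; right
      refine Set.mem_singleton_iff.2 (hof hijj (hadj y hy _ (mul_mem hi hj₀) i hi h1 hijc) ?_)
      refine hadj y hy _ (mul_mem hi hj₀) j₀ hj₀ h2 fun h => hij₀ ?_
      have := (h.mul_left (Commute.refl j₀).inv_left : Commute (i * j₀ * j₀⁻¹) j₀)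
      rwa [mul_inv_cancel_right] at this
  have hfixY : ∀ g : P, (∀ y ∈ Y, y * y = ζ → g * y * g⁻¹ = y ∨ g * y * g⁻¹ = y * ζ) → g ∈ Y := by
    intro g hc
    -- correct `g` by an element of `Y`
    have hcor : ∀ y ∈ Y, ∀ a ∈ Y, ¬ Commute y a → g * a * g⁻¹ = a * ζ → Commute (y * g) a := by
      intro y hy a ha hya hga
      show y * g * a = a * (y * g)
      calc y * g * a = y * (g * a * g⁻¹) * g := by group
        _ = y * a * ζ * g := by rw [hga]; group
        _ = ζ * (a * y) * ζ * g := by rw [hYcomm y hy a ha hya]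
        _ = a * y * (ζ * ζ) * g := by rw [← (hzc (a * y)).eq]; group
        _ = a * (y * g) := by rw [hζζ]; group
    have hcom : ∀ a, g * a * g⁻¹ = a → Commute g a := fun a h => mul_inv_eq_iff_eq_mul.1 h
    rcases hc i hi hiζ with e1 | e1 <;> rcases hc j₀ hj₀ hjj with e2 | e2
    · exact (zpowers_le.2 hζY) (hcent g (hcom _ e1) (hcom _ e2))
    · have h := hcent (i * g) ((Commute.refl i).mul_left (hcom _ e1)) (hcor i hi j₀ hj₀ hij₀ e2)
      exact inv_mul_cancel_left i g ▸ mul_mem (inv_mem hi) (zpowers_le.2 hζY h)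
    · have h := hcent (j₀ * g) (hcor j₀ hj₀ i hi (fun h => hij₀ h.symm) e1)
        ((Commute.refl j₀).mul_left (hcom _ e2))
      exact inv_mul_cancel_left j₀ g ▸ mul_mem (inv_mem hj₀) (zpowers_le.2 hζY h)
    · have hn1 : ¬ Commute (i * j₀) i := fun h => hij₀ (by
        have := ((Commute.refl i).inv_left.mul_left h : Commute (i⁻¹ * (i * j₀)) i)
        rw [inv_mul_cancel_left] at this
        exact this.symm)
      have hn2 : ¬ Commute (i * j₀) j₀ := fun h => hij₀ (by
        have := (h.mul_left (Commute.refl j₀).inv_left : Commute (i * j₀ * j₀⁻¹) j₀)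
        rwa [mul_inv_cancel_right] at this)
      have h := hcent (i * j₀ * g) (hcor _ (mul_mem hi hj₀) i hi hn1 e1)
        (hcor _ (mul_mem hi hj₀) j₀ hj₀ hn2 e2)
      exact inv_mul_cancel_left (i * j₀) g ▸ mul_mem (inv_mem (mul_mem hi hj₀)) (zpowers_le.2 hζY h)
  -- the index of `Y`
  have hidx : ∀ g ∉ Y, ∀ g' ∉ Y, g⁻¹ * g' ∈ Y := by
    let X := {Q : Subgroup P // ∃ y ∈ Y, y ∉ zpowers ζ ∧ zpowers y = Q}
    have hmapz : ∀ (g y : P), (zpowers y).map (MulAut.conj g).toMonoidHom = zpowers (g * y * g⁻¹) :=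
      fun g y => by rw [MonoidHom.map_zpowers]; rfl
    have hmove : ∀ (g : P) (Q : X), ∃ y ∈ Y, y ∉ zpowers ζ ∧
        zpowers y = (Q : Subgroup P).map (MulAut.conj g).toMonoidHom := by
      rintro g ⟨_, y, hy, hyζ, rfl⟩
      refine ⟨g * y * g⁻¹, hYn.conj_mem y hy g, fun h => hyζ ?_, (hmapz g y).symm⟩
      rcases hzmem.1 h with e | e
      · rw [show y = g⁻¹ * (g * y * g⁻¹) * g by group, e]; group; exact one_mem _
      · rw [show y = g⁻¹ * (g * y * g⁻¹) * g by group, e, (hzc g⁻¹).eq, inv_mul_cancel_right]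
        exact mem_zpowers _
    let f : P → X → X := fun g Q => ⟨_, hmove g Q⟩
    have hf : ∀ g h Q, f (g * h) Q = f g (f h Q) := fun g h Q => Subtype.ext (by
      show (Q : Subgroup P).map (MulAut.conj (g * h)).toMonoidHom = ((Q : Subgroup P).map (MulAut.conj h).toMonoidHom).map (MulAut.conj g).toMonoidHom
      rw [map_map]
      congr 1
      refine MonoidHom.ext fun z => ?_
      show g * h * z * (g * h)⁻¹ = g * (h * z * h⁻¹) * g⁻¹
      group)
    have hf1 : ∀ Q, f 1 Q = Q := fun Q => Subtype.ext (by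
      show (Q : Subgroup P).map (MulAut.conj (1 : P)).toMonoidHom = Q
      rw [map_one]; exact map_id _)
    let θ : P →* Equiv.Perm X := MonoidHom.mk'
      (fun g => ⟨f g, f g⁻¹, fun Q => by rw [← hf, inv_mul_cancel, hf1],
        fun Q => by rw [← hf, mul_inv_cancel, hf1]⟩) fun g h => Equiv.ext fun Q => hf g h Q
    have hker : ∀ g, θ g = 1 → g ∈ Y := by
      intro g hg
      have hc : ∀ y ∈ Y, y * y = ζ → g * y * g⁻¹ = y ∨ g * y * g⁻¹ = y * ζ := by
        intro y hy hyy
        have hyζ : y ∉ zpowers ζ := fun h => by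
          rcases hzmem.1 h with rfl | rfl
          · rw [one_mul] at hyy; exact hxy₀ (absurd hyy.symm (fun e => hij₀ (by
              have : i * i = 1 := hiζ.trans e
              rcases hu i this with rfl | rfl
              · exact Commute.one_left _
              · exact (hzc _).symm)))
          · rw [hζζ] at hyy; exact hij₀ (by
              rcases hu i (hiζ.trans hyy.symm) with rfl | rfl
              · exact Commute.one_left _
              · exact (hzc _).symm)
        have h1 : (zpowers y).map (MulAut.conj g).toMonoidHom = zpowers y :=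
          congrArg Subtype.val (DFunLike.congr_fun hg (⟨_, y, hy, hyζ, rfl⟩ : X))
        have h2 : g * y * g⁻¹ ∈ zpowers y := h1 ▸ (hmapz g y).symm ▸ mem_zpowers _
        obtain ⟨n, hn⟩ := mem_zpowers_iff.1 h2
        obtain ⟨s, rfl⟩ | ⟨s, rfl⟩ := Int.even_or_odd n
        · exfalso
          rw [← two_mul, zpow_mul, zpow_two, hyy] at hn
          refine hyζ ?_
          rw [show y = g⁻¹ * (g * y * g⁻¹) * g by group, ← hn, ((hzc g⁻¹).zpow_right s).eq,
            inv_mul_cancel_right]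
          exact zpow_mem (mem_zpowers ζ) s
        · rw [zpow_add, zpow_mul, zpow_two, hyy, zpow_one] at hn
          rcases hzmem.1 (zpow_mem (mem_zpowers ζ) s) with e | e <;> rw [e] at hn
          · exact Or.inl (hn.symm.trans (one_mul y))
          · exact Or.inr (hn.symm.trans (hzc y).symm.eq)
      exact hfixY g hc
    haveI : Fintype X := Fintype.ofFinite X
    have hX : Nat.card X ≤ 3 := by
      have hsub : {Q : Subgroup P | ∃ y ∈ Y, y ∉ zpowers ζ ∧ zpowers y = Q} ⊆ S := by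
        rintro _ ⟨y, hy, hyζ, rfl⟩
        exact hS3 y hy hyζ
      refine le_trans (Nat.card_le_card_of_injective (fun Q : X => (⟨Q.1, hsub Q.2⟩ : S))
        fun a b e => Subtype.ext (congrArg (fun q : S => (q : Subgroup P)) e)) ?_
      rw [Nat.card_coe_set_eq]
      refine (Set.ncard_insert_le _ _).trans (Nat.succ_le_succ ?_)
      refine (Set.ncard_insert_le _ _).trans (Nat.succ_le_succ ?_)
      rw [Set.ncard_singleton]
    obtain ⟨e, he⟩ := IsPGroup.iff_card.1
      (hP.of_surjective θ.rangeRestrict θ.rangeRestrict_surjective)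
    have hle : Nat.card θ.range ≤ 2 := by
      have hd : 2 ^ e ∣ (Nat.card X).factorial := he ▸ Nat.card_perm (α := X) ▸ card_subgroup_dvd_card θ.range
      have h6 : (Nat.card X).factorial ∣ 6 := Nat.factorial_dvd_factorial hX
      have h26 : 2 ^ e ∣ 6 := hd.trans h6
      rw [he]
      by_contra hgt
      have he2 : 2 ≤ e := by
        by_contra h
        have : 2 ^ e ≤ 2 ^ 1 := Nat.pow_le_pow_right two_pos (by omega)
        omega
      have h46 := (pow_dvd_pow 2 he2).trans h26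
      norm_num at h46
    intro g hg g' hg'
    refine hker _ ?_
    rw [map_mul, map_inv, inv_mul_eq_one]
    by_contra hne'
    haveI := Fintype.ofFinite θ.range
    have h2 := Fintype.two_lt_card_iff.2 ⟨(1 : θ.range), ⟨θ g, g, rfl⟩, ⟨θ g', g', rfl⟩,
      fun e => hg (hker g (congrArg Subtype.val e).symm),
      fun e => hg' (hker g' (congrArg Subtype.val e).symm),
      fun e => hne' (congrArg Subtype.val e)⟩
    rw [← Nat.card_eq_fintype_card] at h2
    omega
  by_cases hall : ∀ g, g ∈ Y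
  · refine ⟨zpowers ζ, ⟨fun x hx g => ?_⟩, zpowers_le.2 hζY, fun g => hsq g (hall g), fun a ha b hb => ?_, le_rfl, hsq,
      Or.inl hall⟩
    · have hxc : x ∈ center P := zpowers_le.2 hζ hx
      rwa [mem_center_iff.1 hxc g, mul_inv_cancel_right]
    · exact (mem_center_iff.1 (zpowers_le.2 hζ hb : b ∈ center P) a)
  push Not at hall
  obtain ⟨t₀, ht₀⟩ := hall
  have hsqY : ∀ g : P, g * g ∈ Y := fun g => by
    by_cases hg : g ∈ Y
    · exact mul_mem hg hg
    · have := hidx g⁻¹ (fun h => hg (inv_mem_iff.1 h)) g hg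
      rwa [inv_inv] at this
  -- an outer element with square off the centre
  obtain ⟨t, ht, htt⟩ : ∃ t, t ∉ Y ∧ t * t ∉ zpowers ζ := by
    by_contra hcon
    push Not at hcon
    have h0 := hcon t₀ ht₀
    refine ht₀ (hfixY t₀ fun a ha haa => ?_)
    have hta : t₀ * a ∉ Y := fun h => ht₀ (mul_inv_cancel_right t₀ a ▸ mul_mem h (inv_mem ha))
    obtain ⟨w, hw⟩ : ∃ w, w = t₀ * a * t₀⁻¹ * a := ⟨_, rfl⟩
    have h2 : w ∈ zpowers ζ := by
      have h1 := hcon _ hta
      rw [show t₀ * a * (t₀ * a) = t₀ * a * t₀⁻¹ * (t₀ * t₀) * a by group,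
        mul_assoc _ (t₀ * t₀), show t₀ * t₀ * a = a * (t₀ * t₀) from
          ((mem_center_iff.1 (zpowers_le.2 hζ h0 : t₀ * t₀ ∈ center P) a)).symm, ← mul_assoc, ← hw] at h1
      have := mul_mem h1 (inv_mem h0)
      rwa [mul_inv_cancel_right] at this
    rcases hzmem.1 h2 with e | e
    · refine Or.inr ?_
      rw [eq_inv_of_mul_eq_one_left (hw ▸ e : t₀ * a * t₀⁻¹ * a = 1), inv_eq_iff_mul_eq_one, ← mul_assoc,
        haa, hζζ]
    · refine Or.inl ?_
      rw [eq_mul_inv_of_mul_eq (hw ▸ e : t₀ * a * t₀⁻¹ * a = ζ), ← haa, mul_inv_cancel_right]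
  set c := t * t with hc
  have hcY : c ∈ Y := hsqY t
  have hcc : c * c = ζ := by
    refine (hzmem.1 (hsq c hcY)).resolve_left fun e => htt (hzmem.2 (hu c e))
  have htc : Commute t c := (Commute.refl t).mul_right (Commute.refl t)
  let N : Subgroup P := Y ⊓ centralizer ({c} : Set P)
  have hNmem : ∀ {g : P}, g ∈ N ↔ g ∈ Y ∧ Commute g c := fun {g} => by
    rw [mem_inf, mem_centralizer_singleton_iff]; rfl
  have hNc : ∀ n ∈ N, n ∈ zpowers ζ ∨ n * c ∈ zpowers ζ := by
    intro n hn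
    rw [hNmem] at hn
    rcases hzmem.1 (hsq n hn.1) with e | e
    · exact Or.inl (hzmem.2 (hu n e))
    · refine Or.inr (hzmem.2 (hu _ ?_))
      rw [hn.2.symm.mul_mul_mul_comm, e, hcc, hζζ]
  have hdiv : ∀ y ∈ Y, ∀ y' ∈ Y, y ∉ N → y' ∉ N → y⁻¹ * y' ∈ N := by
    intro y hy y' hy' hyN hy'N
    refine hNmem.2 ⟨mul_mem (inv_mem hy) hy', ?_⟩
    show y⁻¹ * y' * c = c * (y⁻¹ * y')
    have e1 := hYcomm c hcY y hy fun h => hyN (hNmem.2 ⟨hy, h.symm⟩)
    have e2 := hYcomm c hcY y' hy' fun h => hy'N (hNmem.2 ⟨hy', h.symm⟩)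
    have e3 : c * y⁻¹ = ζ * (y⁻¹ * c) := by
      calc c * y⁻¹ = y⁻¹ * (y * c) * y⁻¹ := by group
        _ = y⁻¹ * (ζ * (c * y)) * y⁻¹ := by
          rw [show y * c = ζ * (c * y) by rw [e1, ← mul_assoc ζ ζ, hζζ, one_mul]]
        _ = ζ * (y⁻¹ * c) := by rw [← mul_assoc y⁻¹ ζ, (hzc y⁻¹).eq]; group
    refine Eq.symm ?_
    calc c * (y⁻¹ * y') = (c * y⁻¹) * y' := by group
      _ = ζ * y⁻¹ * (c * y') := by rw [e3]; group
      _ = ζ * (y⁻¹ * ζ) * (y' * c) := by rw [e2]; group
      _ = ζ * ζ * (y⁻¹ * y' * c) := by rw [(hzc y⁻¹).eq]; group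
      _ = y⁻¹ * y' * c := by rw [hζζ, one_mul]
  have hNn : ∀ y ∈ Y, ∀ n ∈ N, y * n * y⁻¹ ∈ N := by
    intro y hy n hn
    rw [hNmem] at hn ⊢
    refine ⟨hYn.conj_mem n hn.1 y, ?_⟩
    rcases hYY y hy n hn.1 with e | e <;>
      rw [show y * n * y⁻¹ = ⁅y, n⁆ * n by rw [commutatorElement_def]; group, e]
    · rw [one_mul]; exact hn.2
    · exact (hzc c).symm.mul_left hn.2
  have hNnormal : N.Normal := ⟨fun n hn g => by
    by_cases hg : g ∈ Y
    · exact hNn g hg n hn
    · have hy : t⁻¹ * g ∈ Y := hidx t ht g hg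
      have h1 := hNn _ hy n hn
      rw [hNmem] at h1 ⊢
      refine ⟨hYn.conj_mem n (hNmem.1 hn).1 g, ?_⟩
      have h2 : Commute (t * (t⁻¹ * g * n * (t⁻¹ * g)⁻¹) * t⁻¹) (t * c * t⁻¹) := by
        show t * _ * t⁻¹ * (t * c * t⁻¹) = t * c * t⁻¹ * (t * _ * t⁻¹)
        rw [show ∀ a b : P, t * a * t⁻¹ * (t * b * t⁻¹) = t * (a * b) * t⁻¹ from fun a b => by group,
          show ∀ a b : P, t * a * t⁻¹ * (t * b * t⁻¹) = t * (a * b) * t⁻¹ from fun a b => by group, h1.2.eq]
      rwa [show t * (t⁻¹ * g * n * (t⁻¹ * g)⁻¹) * t⁻¹ = g * n * g⁻¹ by group, htc.eq,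
        mul_inv_cancel_right] at h2⟩
  -- squares of the outer elements
  have hout : ∀ y ∈ Y, (y ∈ N → t * y * (t * y) ∈ N) ∧ (y ∉ N → t * y * (t * y) ∈ zpowers ζ) := by
    intro y hy
    have htyn : y ∈ N ↔ t * y * t⁻¹ ∈ N := by
      refine ⟨fun h => hNnormal.conj_mem y h t, fun h => ?_⟩
      have := hNnormal.conj_mem _ h t⁻¹
      rwa [show t⁻¹ * (t * y * t⁻¹) * t⁻¹⁻¹ = y by group] at this
    set y' := t * y * t⁻¹ with hy'
    have e : t * y * (t * y) = y' * c * y := by rw [hy', hc]; group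
    rw [e]
    refine ⟨fun h => mul_mem (mul_mem (htyn.1 h) (hNmem.2 ⟨hcY, Commute.refl c⟩)) h, fun h => ?_⟩
    have hy'Y : y' ∈ Y := hYn.conj_mem y hy t
    have hy'N : y' ∉ N := fun h' => h (htyn.2 h')
    -- the class of the image is not the class of `y`
    have hn := hdiv y hy y' hy'Y h hy'N
    obtain ⟨n, hn', rfl'⟩ : ∃ n, n ∈ N ∧ y' = y * n := ⟨_, hn, (mul_inv_cancel_left y y').symm⟩
    rw [rfl']
    rcases hNc n hn' with hnz | hncz
    · exfalso
      -- then `t` fixes every class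
      refine ht (hfixY t fun a ha haa => ?_)
      by_cases haN : a ∈ N
      · left
        refine mul_inv_eq_iff_eq_mul.2 ?_
        rcases hNc a haN with h' | h'
        · exact (mem_center_iff.1 (zpowers_le.2 hζ h' : a ∈ center P) t)
        · have h'' : Commute t (a * c * c⁻¹) := (show Commute t (a * c) from mem_center_iff.1
            (zpowers_le.2 hζ h' : a * c ∈ center P) t).mul_right htc.inv_right
          rw [mul_inv_cancel_right] at h''
          exact h''
      · obtain ⟨m, hm, rfl⟩ : ∃ m, m ∈ N ∧ a = y * m :=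
          ⟨_, hdiv y hy a ha h haN, (mul_inv_cancel_left y a).symm⟩
        have htm : t * m * t⁻¹ = m := by
          refine mul_inv_eq_iff_eq_mul.2 ?_
          rcases hNc m hm with h' | h'
          · exact (mem_center_iff.1 (zpowers_le.2 hζ h' : m ∈ center P) t)
          · have h'' : Commute t (m * c * c⁻¹) := (show Commute t (m * c) from mem_center_iff.1
              (zpowers_le.2 hζ h' : m * c ∈ center P) t).mul_right htc.inv_right
            rw [mul_inv_cancel_right] at h''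
            exact h''
        have he : t * (y * m) * t⁻¹ = y * m * n := by
          rw [show t * (y * m) * t⁻¹ = (t * y * t⁻¹) * (t * m * t⁻¹) by group, htm, ← hy', rfl', mul_assoc,
            (mem_center_iff.1 (zpowers_le.2 hζ hnz : n ∈ center P) m).symm, ← mul_assoc]
        rcases hzmem.1 hnz with rfl | rfl
        · exact Or.inl (by rw [he, mul_one])
        · exact Or.inr he
    ·
      rw [show y * n * c * y = y * (n * c) * y by group,
        mul_assoc, (mem_center_iff.1 (zpowers_le.2 hζ hncz : n * c ∈ center P) y).symm, ← mul_assoc]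
      exact mul_mem (hsq y hy) hncz
  refine ⟨N, hNnormal, inf_le_left, fun g => ?_, fun a ha b hb => ?_,
    zpowers_le.2 (hNmem.2 ⟨hζY, (hzc c).symm⟩), hsq, Or.inr ⟨t, ht, htt, hNc, hidx t ht, ?_, hdiv⟩⟩
  · by_cases hg : g ∈ Y
    · exact hNmem.2 ⟨mul_mem hg hg, hsqc g hg c hcY⟩
    · have hy := hidx t ht g hg
      rw [show g * g = t * (t⁻¹ * g) * (t * (t⁻¹ * g)) by group]
      by_cases hyN : t⁻¹ * g ∈ N
      · exact (hout _ hy).1 hyN
      · exact hNmem.2 ⟨(zpowers_le.2 hζY) ((hout _ hy).2 hyN),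
          (mem_center_iff.1 (zpowers_le.2 hζ ((hout _ hy).2 hyN) : _ ∈ center P) c).symm⟩
  · have hsplit : ∀ n ∈ N, ∀ v : P, Commute v c → Commute v n := by
      intro n hn v hv
      rcases hNc n hn with h' | h'
      · exact mem_center_iff.1 (zpowers_le.2 hζ h' : n ∈ center P) v
      · have h'' : Commute v (n * c * c⁻¹) := (show Commute v (n * c) from mem_center_iff.1
          (zpowers_le.2 hζ h' : n * c ∈ center P) v).mul_right hv.inv_right
        rwa [mul_inv_cancel_right] at h''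
    exact hsplit b hb a (hNmem.1 ha).2
  · intro g hg hgg
    by_contra hyN
    refine hgg ?_
    rw [show g * g = t * (t⁻¹ * g) * (t * (t⁻¹ * g)) by group]
    exact (hout _ (hidx t ht g hg)).2 hyN

/-- The second derived subgroup is trivial. -/
theorem commutator_commute : ∀ a ∈ commutator P, ∀ b ∈ commutator P, Commute a b := by
  obtain ⟨N, hN, -, hsq, hab, -⟩ := structure_of_unique hP hζ hζζ hu Y hne hYY
  have hle : commutator P ≤ N := by
    rw [_root_.commutator_def, commutator_le]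
    intro g _ h _
    rw [show ⁅g, h⁆ = g * g * (g⁻¹ * h * (g⁻¹ * h)) * (h⁻¹ * h⁻¹) by simp only [commutatorElement_def]; group]
    exact mul_mem (mul_mem (hsq _) (hsq _)) (hsq _)
  exact fun a ha b hb => hab a (hle ha) b (hle hb)

/-- The derived subgroup of a `2`-group does not embed diagonally as `Y`. -/
theorem diag_false {D : Type u} [Group D] [Finite D] (hD : IsPGroup 2 D) (D₀ : Subgroup D) [D₀.Normal]
    (c₀ : D) (hD₀ : ∀ d, d ∈ D₀ ∨ c₀⁻¹ * d ∈ D₀) (f : D₀ →* P) (hf : Function.Surjective f)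
    (hinv : ∀ d : D₀, f d ∈ zpowers ζ → f (MulAut.conjNormal c₀ d) ∈ zpowers ζ)
    (hY : ∀ y, y ∈ Y ↔ ∃ d : D₀, (d : D) ∈ commutator D ∧ f d = y) : False := by
  classical
  haveI : Fact (Nat.Prime 2) := ⟨Nat.prime_two⟩
  haveI : Group.IsNilpotent D := hD.isNilpotent
  obtain ⟨N, hN, hNY, hsq, hab, hζN, hYsq, hcase⟩ := structure_of_unique hP hζ hζζ hu Y hne hYY
  obtain ⟨x₁, hx₁, y₁, hy₁, hxy₁⟩ := hne
  set ψ : MulAut D₀ := MulAut.conjNormal c₀ with hψ
  have hback : ∀ S : Subgroup D₀, (∀ x ∈ S, ψ x ∈ S) → ∀ x, ψ x ∈ S → x ∈ S := by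
    intro S hS x hx
    have h1 : S.map ψ.toMonoidHom = S := eq_of_le_of_card_ge
      (by rintro _ ⟨y, hy, rfl⟩; exact hS y hy) (card_map_of_injective ψ.injective).ge
    rw [← h1] at hx
    obtain ⟨y, hy, e⟩ := hx
    exact ψ.injective e ▸ hy
  -- a normal subgroup of `D` from a normal `ψ`-invariant one of `P`
  have hnormal : ∀ S : Subgroup P, S.Normal → (∀ d : D₀, f d ∈ S → f (ψ d) ∈ S) →
      ((S.comap f).map D₀.subtype).Normal := by
    intro S hS hψS
    refine ⟨?_⟩
    rintro _ ⟨x, hx, rfl⟩ d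
    rcases hD₀ d with h | h
    · exact ⟨⟨d, h⟩ * x * ⟨d, h⟩⁻¹, (hS.comap f).conj_mem x hx _, rfl⟩
    · refine ⟨ψ (⟨_, h⟩ * x * ⟨_, h⟩⁻¹), hψS _ ((hS.comap f).conj_mem x hx _), ?_⟩
      show c₀ * (c₀⁻¹ * d * (x : D) * (c₀⁻¹ * d)⁻¹) * c₀⁻¹ = d * (x : D) * d⁻¹
      group
  -- a normal subgroup over which `D` is generated by `c₀` and commuting elements contains `⁅D, D⁆`
  have hcomm : ∀ (S : Subgroup D), S.Normal → (∀ a : D₀, ∀ b : D₀, ⁅(a : D), (b : D)⁆ ∈ S) →
      (∀ a : D₀, ⁅c₀, (a : D)⁆ ∈ S) → commutator D ≤ S := by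
    intro S hS h1 h2
    haveI := hS
    set q := QuotientGroup.mk' S
    have hq : ∀ a b : D, ⁅a, b⁆ ∈ S → Commute (q a) (q b) := fun a b h =>
      commutatorElement_eq_one_iff_commute.1 ((map_commutatorElement q a b).symm.trans
        ((QuotientGroup.eq_one_iff _).2 h))
    have hgen : ∀ d : D, ∃ a : D₀, q d = q a ∨ q d = q c₀ * q a := fun d => by
      rcases hD₀ d with h | h
      · exact ⟨⟨d, h⟩, Or.inl rfl⟩
      · exact ⟨⟨_, h⟩, Or.inr (by rw [← map_mul, mul_inv_cancel_left])⟩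
    rw [_root_.commutator_def, commutator_le]
    intro a _ b _
    refine (QuotientGroup.eq_one_iff _).1 ((map_commutatorElement q a b).trans
      (commutatorElement_eq_one_iff_commute.2 ?_))
    obtain ⟨a', ha⟩ := hgen a
    obtain ⟨b', hb⟩ := hgen b
    have e1 := hq _ _ (h1 a' b')
    have e2 := hq _ _ (h2 a')
    have e3 := hq _ _ (h2 b')
    rcases ha with ha | ha <;> rcases hb with hb | hb <;> rw [ha, hb]
    · exact e1
    · exact e2.symm.mul_right e1
    · exact e3.mul_left e1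
    · exact ((Commute.refl _).mul_right e3).mul_left (e2.symm.mul_right e1)
  -- the contradiction
  have hfin : ∀ S : Subgroup P, (∀ a ∈ S, ∀ b ∈ S, Commute a b) →
      commutator D ≤ (S.comap f).map D₀.subtype → False := by
    intro S hS hle
    have hYS : ∀ y ∈ Y, y ∈ S := by
      intro y hy
      obtain ⟨d, hd, rfl⟩ := (hY y).1 hy
      obtain ⟨d', hd', e⟩ := hle hd
      rwa [← (Subtype.ext e : d' = d)]
    exact hxy₁ (hS _ (hYS _ hx₁) _ (hYS _ hy₁))
  have hz : (zpowers ζ).Normal := ⟨fun x hx g => by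
    have hxc : x ∈ center P := zpowers_le.2 hζ hx
    rwa [mem_center_iff.1 hxc g, mul_inv_cancel_right]⟩
  rcases hcase with hall | ⟨t, ht, htt, hNc, hidx, hclass, hdiv⟩
  · -- then `D` is cyclic modulo the preimage of `⟨ζ⟩`
    set K := ((zpowers ζ).comap f).map D₀.subtype with hK
    haveI hKn : K.Normal := hnormal _ hz hinv
    refine hfin (zpowers ζ) (fun a ha b hb => mem_center_iff.1 (zpowers_le.2 hζ hb : b ∈ center P) a) ?_
    have hgen : (zpowers c₀ ⊔ K) ⊔ frattini D = ⊤ := by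
      refine eq_top_iff.2 fun d _ => ?_
      have hD₀mem : ∀ a : D₀, (a : D) ∈ (zpowers c₀ ⊔ K) ⊔ frattini D := by
        intro a
        obtain ⟨e, he, hea⟩ := (hY (f a)).1 (hall _)
        rw [show (a : D) = (a : D) * (e : D)⁻¹ * e by group]
        refine mul_mem (mem_sup_left (mem_sup_right ⟨a * e⁻¹, ?_, rfl⟩))
          (mem_sup_right (CfsgLib.Coprime.commutator_le_frattini hD he))
        rw [SetLike.mem_coe, mem_comap, map_mul, map_inv, hea, mul_inv_cancel]
        exact one_mem _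
      rcases hD₀ d with h | h
      · exact hD₀mem ⟨d, h⟩
      · rw [show d = c₀ * (c₀⁻¹ * d) by group]
        exact mul_mem (mem_sup_left (mem_sup_left (mem_zpowers c₀))) (hD₀mem ⟨_, h⟩)
    have h1 := frattini_nongenerating hgen
    have hd : ∀ d : D, ∃ i : ℤ, QuotientGroup.mk' K d = QuotientGroup.mk' K c₀ ^ i := by
      intro d
      have hdK : d ∈ zpowers c₀ ⊔ K := h1 ▸ mem_top d
      obtain ⟨x, hx, y, hy, e⟩ := Subgroup.mem_sup_of_normal_right.1 hdK
      obtain ⟨i, rfl⟩ := mem_zpowers_iff.1 hx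
      exact ⟨i, by rw [← e, map_mul, map_zpow, (show QuotientGroup.mk' K y = 1 from (QuotientGroup.eq_one_iff y).2 hy), mul_one]⟩
    rw [_root_.commutator_def, commutator_le]
    intro a _ b _
    refine (QuotientGroup.eq_one_iff _).1 ((map_commutatorElement (QuotientGroup.mk' K) a b).trans
      (commutatorElement_eq_one_iff_commute.2 ?_))
    obtain ⟨i, hi⟩ := hd a
    obtain ⟨j, hj⟩ := hd b
    rw [hi, hj]
    exact (Commute.refl _).zpow_zpow i j
  · obtain ⟨dt, rfl⟩ := hf t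
    have hNψ : ∀ d : D₀, f d ∈ N → f (ψ d) ∈ N := by
      intro d hd
      rcases hNc _ hd with h | h
      · exact hζN (hinv d h)
      · have h1 := hζN (hinv (d * (dt * dt)) (by rw [map_mul, map_mul]; exact h))
        have h2 : f (ψ d) * (f (ψ dt) * f (ψ dt)) ∈ N := by
          rw [← map_mul, ← map_mul, ← map_mul ψ, ← map_mul ψ]
          exact h1
        have h3 := mul_mem h2 (inv_mem (hsq (f (ψ dt))))
        rwa [mul_inv_cancel_right] at h3
    have hYψ : ∀ d : D₀, f d ∈ Y → f (ψ d) ∈ Y := by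
      intro d hd
      obtain ⟨e, he, hed⟩ := (hY _).1 hd
      rw [show d = e * (e⁻¹ * d) by group, map_mul, map_mul]
      refine mul_mem ((hY _).2 ⟨ψ e, ?_, rfl⟩) (hNY (hζN (hinv _ ?_)))
      · exact (inferInstance : (commutator D).Normal).conj_mem _ he c₀
      · rw [map_mul, map_inv, hed, inv_mul_cancel]; exact one_mem _
    haveI := hnormal N hN hNψ
    refine hfin N hab (hcomm _ inferInstance (fun a b => ⟨⁅a, b⁆, ?_, map_commutatorElement D₀.subtype a b⟩)
      fun a => ⟨ψ a * a⁻¹, ?_, by show c₀ * (a : D) * c₀⁻¹ * (a : D)⁻¹ = ⁅c₀, (a : D)⁆; rw [commutatorElement_def]⟩)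
    · rw [SetLike.mem_coe, mem_comap, map_commutatorElement,
        show ⁅f a, f b⁆ = f a * f a * ((f a)⁻¹ * f b * ((f a)⁻¹ * f b)) * ((f b)⁻¹ * (f b)⁻¹) by
          simp only [commutatorElement_def]; group]
      exact mul_mem (mul_mem (hsq _) (hsq _)) (hsq _)
    rw [SetLike.mem_coe, mem_comap, map_mul, map_inv]
    -- elements over `Y`
    have hY0 : ∀ y : D₀, f y ∈ Y → f (ψ y) * (f y)⁻¹ ∈ N := by
      intro y hy
      by_cases hyN : f y ∈ N
      · exact mul_mem (hNψ y hyN) (inv_mem hyN)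
      · have hψN : f (ψ y) ∉ N := fun h => hyN (hback (N.comap f) (fun x hx => hNψ x hx) y h)
        have h1 := hN.conj_mem _ (hdiv _ hy _ (hYψ y hy) hyN hψN) (f y)
        rwa [mul_inv_cancel_left] at h1
    have ht0 : f (ψ dt) * (f dt)⁻¹ ∈ N := by
      have h1 : f (ψ dt) * f (ψ dt) ∉ zpowers ζ := fun h => htt (by
        have h' := hback ((zpowers ζ).comap f) (fun x hx => hinv x hx) (dt * dt) (by
          rw [mem_comap, map_mul, map_mul]; exact h)
        rwa [mem_comap, map_mul] at h')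
      have h2 : f (ψ dt) ∉ Y := fun h => h1 (hYsq _ h)
      have h3 := hN.conj_mem _ (hclass _ h2 h1) (f dt)
      rwa [mul_inv_cancel_left] at h3
    by_cases ha : f a ∈ Y
    · exact hY0 a ha
    · have hy : f (dt⁻¹ * a) ∈ Y := by rw [map_mul, map_inv]; exact hidx _ ha
      rw [show a = dt * (dt⁻¹ * a) by group, map_mul ψ, map_mul f, map_mul f dt, mul_inv_rev,
        show f (ψ dt) * f (ψ (dt⁻¹ * a)) * ((f (dt⁻¹ * a))⁻¹ * (f dt)⁻¹) =
          f (ψ dt) * (f (ψ (dt⁻¹ * a)) * (f (dt⁻¹ * a))⁻¹) * (f (ψ dt))⁻¹ * (f (ψ dt) * (f dt)⁻¹) by group]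
      exact mul_mem (hN.conj_mem _ (hY0 _ hy) _) ht0

end OneInvolution

end CfsgLib.PGroup.DerivedTwo
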