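import Cfsg.Agent.Lib.PGroup.DerivedTwo.Frame
import Cfsg.Agent.Lib.Coprime.PGroupFrattini

/-!
# Passing to a frame

On an invariant subspace where `K` is scalar, the fixed vectors of the elements of a `2`-group that are
trivial on `Q` modulo `K` carry a frame on which the `2`-group acts faithfully on the image of `Q`.
-/

set_option autoImplicit false
set_option linter.style.haveILetI false
set_option linter.unusedSectionVars false

open Subgroup
open scoped commutatorElement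

namespace CfsgLib.PGroup.DerivedTwo

universe u v w

variable {H : Type u} [Group H] [Finite H] {k : Type v} [Field k] [CharP k 2]
  {W : Type w} [AddCommGroup W] [Module k W]

/-- A `2`-group in characteristic two fixes a nonzero vector of an invariant subspace. -/
theorem exists_fixed (ρ : H →* Module.End k W) :
    ∀ (n : ℕ) (E : Subgroup H), Nat.card E ≤ n → IsPGroup 2 E → ∀ S : Submodule k W, S ≠ ⊥ →
      (∀ g ∈ E, ∀ w ∈ S, ρ g w ∈ S) → ∃ w ∈ S, w ≠ 0 ∧ ∀ g ∈ E, ρ g w = w := by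
  haveI : Fact (Nat.Prime 2) := ⟨Nat.prime_two⟩
  intro n
  induction n with
  | zero => exact fun E h => absurd h (Nat.not_le.2 Nat.card_pos)
  | succ n ih =>
    intro E hn hE S hS hinv
    rcases eq_or_ne E ⊥ with rfl | hne
    · obtain ⟨w, hw, hw0⟩ := Submodule.exists_mem_ne_zero_of_ne_bot hS
      exact ⟨w, hw, hw0, fun g hg => by rw [mem_bot.1 hg, map_one, Module.End.one_apply]⟩
    haveI : Nontrivial E := (nontrivial_iff_ne_bot E).2 hne
    obtain ⟨M, hM, -⟩ := (eq_top_or_exists_le_coatom (⊥ : Subgroup E)).resolve_left bot_ne_top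
    obtain ⟨hMn, hi⟩ := CfsgLib.Coprime.coatom_data_of_pGroup hE hM
    haveI := hMn
    obtain ⟨g, hg⟩ : ∃ g : E, g ∉ M := by
      by_contra h
      push Not at h
      exact hM.1 (eq_top_iff.2 fun x _ => h x)
    have hg2 : g * g ∈ M := by
      have h := M.pow_index_mem g
      rw [show M.index = 2 from hi, pow_two] at h
      exact h
    set M' := M.map E.subtype
    have hM'E : M' ≤ E := map_subtype_le _
    have hlt : Nat.card M' ≤ n := by
      have h1 : Nat.card M' = Nat.card M := card_map_of_injective E.subtype_injective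
      have h2 : Nat.card M < Nat.card E := by
        rw [← Subgroup.card_top (G := E)]
        refine lt_of_le_of_ne (card_le_card_group M |>.trans (Subgroup.card_top (G := E)).ge) fun e => hM.1 ?_
        exact eq_of_le_of_card_ge le_top e.ge
      omega
    obtain ⟨w, hw, hw0, hwfix⟩ := ih M' hlt (hE.to_le hM'E) S hS fun a ha => hinv a (hM'E ha)
    by_cases hgw : ρ (g : H) w = w
    · refine ⟨w, hw, hw0, fun x hx => ?_⟩
      have hcase : (⟨x, hx⟩ : E) ∈ M ∨ g⁻¹ * ⟨x, hx⟩ ∈ M := by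
        by_cases h : (⟨x, hx⟩ : E) ∈ M
        · exact Or.inl h
        · exact Or.inr ((mul_mem_iff_of_index_two (show M.index = 2 from hi)).2
            ⟨fun h' => absurd (inv_mem_iff.1 h') hg, fun h' => absurd h' h⟩)
      rcases hcase with h | h
      · exact hwfix x (mem_map_of_mem E.subtype h)
      · have h1 := hwfix _ (mem_map_of_mem E.subtype h)
        rw [show E.subtype (g⁻¹ * ⟨x, hx⟩) = (g : H)⁻¹ * x from rfl, map_mul, Module.End.mul_apply] at h1
        have h2 := congrArg (ρ (g : H)) h1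
        rwa [← Module.End.mul_apply, ← map_mul, mul_inv_cancel, map_one, Module.End.one_apply, hgw] at h2
    · refine ⟨ρ (g : H) w - w, sub_mem (hinv g g.2 w hw) hw, sub_ne_zero.2 hgw, fun x hx => ?_⟩
      -- `ρ g w` is fixed by the normal subgroup
      have hgM : ∀ a ∈ M', ρ a (ρ (g : H) w) = ρ (g : H) w := by
        rintro _ ⟨a, ha, rfl⟩
        have h1 := hwfix _ (mem_map_of_mem E.subtype (hMn.conj_mem a ha g⁻¹))
        rw [← Module.End.mul_apply, ← map_mul]
        conv_rhs => rw [← h1]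
        rw [← Module.End.mul_apply, ← map_mul]
        congr 2
        show (a : H) * g = g * ((g : H)⁻¹ * a * (g : H)⁻¹⁻¹)
        group
      have hgg : ρ (g : H) (ρ (g : H) w) = w := by
        rw [← Module.End.mul_apply, ← map_mul]
        exact hwfix _ (mem_map_of_mem E.subtype hg2)
      have hgv : ρ (g : H) (ρ (g : H) w - w) = ρ (g : H) w - w := by
        rw [map_sub, hgg]
        have hneg : ∀ u : W, -u = u := fun u => by
          rw [← neg_one_smul k u, CharTwo.neg_eq, one_smul]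
        rw [← neg_sub, hneg]
      by_cases h : (⟨x, hx⟩ : E) ∈ M
      · rw [map_sub, hgM x (mem_map_of_mem E.subtype h), hwfix x (mem_map_of_mem E.subtype h)]
      · have h' : (⟨x, hx⟩ : E) * g⁻¹ ∈ M := (mul_mem_iff_of_index_two (show M.index = 2 from hi)).2
          ⟨fun h' => absurd h' h, fun h' => absurd (inv_mem_iff.1 h') hg⟩
        have hm := mem_map_of_mem E.subtype h'
        rw [show x = E.subtype (⟨x, hx⟩ * g⁻¹) * g by simp, map_mul, Module.End.mul_apply, hgv, map_sub,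
          hgM _ hm, hwfix _ hm]

variable [FiniteDimensional k W]

/-- To prove something it suffices to prove it with a frame at hand. -/
theorem of_frame {P : Prop} (ρ : H →* Module.End k W) {r : ℕ} (hr : r.Prime) (hr2 : r ≠ 2)
    {Q K D : Subgroup H} (S : Submodule k W) (hS : S ≠ ⊥) (hKQ : K ≤ Q)
    (hcomm : ∀ x ∈ Q, ∀ y ∈ Q, ⁅x, y⁆ ∈ K) (hpow : ∀ x ∈ Q, x ^ r ∈ K)
    (hQS : ∀ g ∈ Q, ∀ w ∈ S, ρ g w ∈ S) (hDS : ∀ g ∈ D, ∀ w ∈ S, ρ g w ∈ S)
    (hscal : ∀ x ∈ K, ∃ c : k, ∀ w ∈ S, ρ x w = c • w)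
    (hnd : ∀ x ∈ Q, (∀ y ∈ Q, ∀ w ∈ S, ρ ⁅x, y⁆ w = w) → x ∈ K)
    (hD : IsPGroup 2 D) (hDQ : D ≤ normalizer (Q : Set H))
    (h : ∀ (G : Type u) [Group G] [Finite G] (W₀ : Submodule k W) [Nontrivial W₀] (Γ : Subgroup H)
      (f : Γ →* G) (ρ₀ : G →* Module.End k W₀), Function.Surjective f → Q ≤ Γ → D ≤ Γ → W₀ ≤ S →
      (∀ (g : Γ) (w : W₀), ((ρ₀ (f g) w : W₀) : W) = ρ (g : H) w) →
      Frame ρ₀ r ((Q.subgroupOf Γ).map f) ((K.subgroupOf Γ).map f) →
      (∀ g x : Γ, (g : H) ∈ D → (x : H) ∈ Q → (Commute (f g) (f x) ↔ ⁅(g : H), (x : H)⁆ ∈ K)) →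
      (∀ g : Γ, (g : H) ∈ D → (∀ x : Γ, (x : H) ∈ Q → Commute (f g) (f x)) → f g = 1) → P) : P := by
  classical
  have hSne : ∃ w ∈ S, w ≠ 0 := Submodule.exists_mem_ne_zero_of_ne_bot hS
  have hQn : ∀ g ∈ D, ∀ x ∈ Q, g * x * g⁻¹ ∈ Q := fun g hg x hx => (mem_normalizer_iff.1 (hDQ hg) x).1 hx
  -- the elements trivial on `Q` modulo `K` commute with `Q` on `S`
  have hexact : ∀ g ∈ D, ∀ x ∈ Q, ⁅g, x⁆ ∈ K → ∀ w ∈ S, ρ g (ρ x w) = ρ x (ρ g w) := by
    intro g hg x hx hgx w hw
    obtain ⟨c, hc⟩ := hscal _ hgx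
    have hstep : ∀ v ∈ S, ρ g (ρ x v) = c • ρ x (ρ g v) := fun v hv => by
      rw [← hc _ (hQS x hx _ (hDS g hg v hv)), ← Module.End.mul_apply, ← Module.End.mul_apply,
        ← Module.End.mul_apply, ← map_mul, ← map_mul, ← map_mul]
      congr 2
      rw [commutatorElement_def]; group
    have hiter : ∀ (n : ℕ), ∀ v ∈ S, ρ (g ^ n) (ρ x v) = c ^ n • ρ x (ρ (g ^ n) v) := by
      intro n
      induction n with
      | zero => intro v _; simp
      | succ n ih =>
        intro v hv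
        rw [pow_succ g, map_mul, Module.End.mul_apply, hstep v hv, map_smul, ih _ (hDS g hg v hv),
          smul_smul, ← pow_succ', Module.End.mul_apply]
    obtain ⟨i, hi⟩ := hD ⟨g, hg⟩
    replace hi : g ^ 2 ^ i = 1 := congrArg Subtype.val hi
    obtain ⟨v, hv, hv0⟩ := hSne
    have e := hiter (2 ^ i) v hv
    rw [hi, map_one, Module.End.one_apply, Module.End.one_apply] at e
    have hc1 : c ^ 2 ^ i = 1 := by
      have e' : (1 : k) • ρ x v = c ^ 2 ^ i • ρ x v := by rw [one_smul]; exact e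
      exact (smul_left_injective k (fun e0 => hv0 (rep_injective ρ x (by rw [map_zero]; exact e0))) e').symm
    have hc' : c = 1 := by
      clear e hiter hi hstep hc
      induction i with
      | zero => simpa using hc1
      | succ i ih =>
        refine ih ?_
        rw [pow_succ, pow_mul, pow_two] at hc1
        rcases mul_self_eq_one_iff.1 hc1 with e | e
        · exact e
        · rw [e, CharTwo.neg_eq]
    rw [hstep w hw, hc', one_smul]
  let E : Subgroup H :=
    { carrier := {g | g ∈ D ∧ ∀ x ∈ Q, ⁅g, x⁆ ∈ K}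
      one_mem' := ⟨one_mem _, fun x _ => by rw [commutatorElement_one_left]; exact one_mem _⟩
      mul_mem' := fun {a b} ha hb => ⟨mul_mem ha.1 hb.1, fun x hx => by
        rw [show ⁅a * b, x⁆ = ⁅a, b * x * b⁻¹⁆ * ⁅b, x⁆ by simp only [commutatorElement_def]; group]
        exact mul_mem (ha.2 _ (hQn b hb.1 x hx)) (hb.2 x hx)⟩
      inv_mem' := fun {a} ha => ⟨inv_mem ha.1, fun x hx => by
        have h1 := ha.2 _ (hQn a⁻¹ (inv_mem ha.1) x hx)
        rw [show ⁅a⁻¹, x⁆ = (⁅a, a⁻¹ * x * a⁻¹⁻¹⁆)⁻¹ by simp only [commutatorElement_def]; group]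
        exact inv_mem h1⟩ }
  let W₀ : Submodule k W :=
    { carrier := {w | w ∈ S ∧ ∀ g ∈ E, ρ g w = w}
      add_mem' := fun {a b} ha hb => ⟨add_mem ha.1 hb.1, fun g hg => by rw [map_add, ha.2 g hg, hb.2 g hg]⟩
      zero_mem' := ⟨zero_mem _, fun g _ => map_zero _⟩
      smul_mem' := fun c {a} ha => ⟨S.smul_mem c ha.1, fun g hg => by rw [map_smul, ha.2 g hg]⟩ }
  obtain ⟨w₀, hw₀, hw₀0, hw₀fix⟩ := exists_fixed ρ (Nat.card E) E le_rfl (hD.to_le fun g hg => hg.1) S hS
    (fun g hg => hDS g hg.1)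
  haveI : Nontrivial W₀ := ⟨⟨⟨w₀, hw₀, hw₀fix⟩, 0, fun e => hw₀0 (congrArg Subtype.val e)⟩⟩
  let Γ : Subgroup H := Q ⊔ D
  have hΓ : ∀ g ∈ Γ, ∀ w ∈ W₀, ρ g w ∈ W₀ := by
    intro g hg
    let M : Subgroup H :=
      { carrier := {g | ∀ w, w ∈ W₀ ↔ ρ g w ∈ W₀}
        one_mem' := fun w => by rw [map_one, Module.End.one_apply]
        mul_mem' := fun {a b} ha hb w => by rw [map_mul, Module.End.mul_apply, hb w]; exact ha _
        inv_mem' := fun {a} ha w => by
          rw [ha (ρ a⁻¹ w), ← Module.End.mul_apply, ← map_mul, mul_inv_cancel, map_one, Module.End.one_apply] }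
    have hone : ∀ a : H, (∀ w ∈ W₀, ρ a w ∈ W₀) → (∀ w ∈ W₀, ρ a⁻¹ w ∈ W₀) → a ∈ M := fun a h1 h2 w =>
      ⟨h1 w, fun hw => by
        have := h2 _ hw
        rwa [← Module.End.mul_apply, ← map_mul, inv_mul_cancel, map_one, Module.End.one_apply] at this⟩
    have hQW : ∀ a ∈ Q, ∀ w ∈ W₀, ρ a w ∈ W₀ := fun a ha w hw =>
      ⟨hQS a ha w hw.1, fun g hg => by rw [hexact g hg.1 a ha (hg.2 a ha) w hw.1, hw.2 g hg]⟩
    have hDW : ∀ a ∈ D, ∀ w ∈ W₀, ρ a w ∈ W₀ := fun a ha w hw => ⟨hDS a ha w hw.1, fun g hg => by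
      have hg' : a⁻¹ * g * a ∈ E := by
        refine ⟨mul_mem (mul_mem (inv_mem ha) hg.1) ha, fun x hx => ?_⟩
        obtain ⟨c, hc⟩ : ∃ c, c = ⁅g, a * x * a⁻¹⁆ := ⟨_, rfl⟩
        have h1 : ⁅a⁻¹ * g * a, x⁆ = a⁻¹ * c * a := by
          rw [hc]; simp only [commutatorElement_def]; group
        have hcK : c ∈ K := hc ▸ hg.2 _ (hQn a ha x hx)
        rw [h1]
        refine hnd _ ?_ fun y hy v hv => ?_
        · have := hQn a⁻¹ (inv_mem ha) c (hKQ hcK)
          rwa [inv_inv] at this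
        · -- a conjugate of a scalar
          obtain ⟨γ, hγ⟩ := hscal c hcK
          have hsc : ∀ v ∈ S, ρ (a⁻¹ * c * a) v = γ • v := fun v hv => by
            rw [map_mul, map_mul, Module.End.mul_apply, Module.End.mul_apply, hγ _ (hDS a ha v hv), map_smul,
              ← Module.End.mul_apply, ← map_mul, inv_mul_cancel, map_one, Module.End.one_apply]
          obtain ⟨q, hq⟩ : ∃ q, q = a⁻¹ * c * a := ⟨_, rfl⟩
          rw [← hq] at hsc ⊢
          have hu : ρ ⁅q, y⁆ v = v := by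
            have hvi : ρ y⁻¹ v ∈ S := hQS _ (inv_mem hy) v hv
            have hqi : ∀ v ∈ S, ρ q (ρ q⁻¹ v) = v := fun v _ => by
              rw [← Module.End.mul_apply, ← map_mul, mul_inv_cancel, map_one, Module.End.one_apply]
            have hqR : q ∈ Q := by
              have := hQn a⁻¹ (inv_mem ha) c (hKQ hcK)
              rwa [inv_inv, ← hq] at this
            have hvq : ρ q⁻¹ (ρ y⁻¹ v) ∈ S := hQS _ (inv_mem hqR) _ hvi
            rw [show ⁅q, y⁆ = q * (y * (q⁻¹ * y⁻¹)) by rw [commutatorElement_def]; group, map_mul, map_mul, map_mul,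
              Module.End.mul_apply, Module.End.mul_apply, Module.End.mul_apply,
              hsc _ (hQS y hy _ hvq), ← map_smul, ← hsc _ hvq, hqi _ hvi, ← Module.End.mul_apply, ← map_mul,
              mul_inv_cancel, map_one, Module.End.one_apply]
          exact hu
      have h2 := congrArg (ρ a) (hw.2 _ hg')
      rwa [← Module.End.mul_apply, ← map_mul, show a * (a⁻¹ * g * a) = g * a by group, map_mul,
        Module.End.mul_apply] at h2⟩
    have hle : Γ ≤ M := sup_le (fun a ha => hone a (hQW a ha) (hQW _ (inv_mem ha)))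
      fun a ha => hone a (hDW a ha) (hDW _ (inv_mem ha))
    exact fun w hw => (hle hg w).1 hw
  obtain ⟨σ, hσv⟩ : ∃ σ : Γ →* Module.End k W₀, ∀ (g : Γ) (w : W₀), ((σ g w : W₀) : W) = ρ (g : H) w :=
    ⟨subRep ρ W₀ Γ hΓ, fun g w => rfl⟩
  let ρ₀ : Γ ⧸ σ.ker →* Module.End k W₀ := QuotientGroup.lift σ.ker σ le_rfl
  let f : Γ →* Γ ⧸ σ.ker := QuotientGroup.mk' σ.ker
  have hρ₀f : ∀ g : Γ, ρ₀ (f g) = σ g := fun g => rfl
  have hval : ∀ (g : Γ) (w : W₀), ((ρ₀ (f g) w : W₀) : W) = ρ (g : H) w := fun g w => by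
    rw [hρ₀f]; exact hσv g w
  have hinj : Function.Injective ρ₀ := by
    intro a b e
    obtain ⟨a, rfl⟩ := QuotientGroup.mk'_surjective σ.ker a
    obtain ⟨b, rfl⟩ := QuotientGroup.mk'_surjective σ.ker b
    refine QuotientGroup.eq.2 (MonoidHom.mem_ker.2 ?_)
    have e' : σ a = σ b := e
    rw [map_mul, ← e', ← map_mul, inv_mul_cancel, map_one]
  have heq : ∀ g g' : Γ, (∀ w : W₀, ρ (g : H) (w : W) = ρ (g' : H) (w : W)) → f g = f g' :=
    fun g g' e => hinj (LinearMap.ext fun w => Subtype.ext (by rw [hval, hval]; exact e w))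
  have hscal1 : ∀ x ∈ K, (∀ w : W₀, ρ x (w : W) = w) → ∀ w ∈ S, ρ x w = w := by
    intro x hx e w hw
    obtain ⟨c, hc⟩ := hscal x hx
    have hc1 : c = 1 := by
      refine smul_left_injective k hw₀0 ?_
      show c • w₀ = (1 : k) • w₀
      rw [one_smul, ← hc w₀ hw₀]
      exact e ⟨w₀, hw₀, hw₀fix⟩
    rw [hc w hw, hc1, one_smul]
  have hmemK : ∀ x ∈ Q, (∀ w : W₀, ρ x (w : W) = w) → x ∈ K := fun x hx e => hnd x hx fun y hy w hw => by
    refine hscal1 _ (hcomm x hx y hy) (fun v => ?_) w hw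
    rw [commutatorElement_def, map_mul, map_mul, map_mul, Module.End.mul_apply, Module.End.mul_apply,
      Module.End.mul_apply]
    have h1 : ρ x⁻¹ (ρ y⁻¹ v) = ρ y⁻¹ v := by
      refine rep_injective ρ x ?_
      rw [← Module.End.mul_apply, ← map_mul, mul_inv_cancel, map_one, Module.End.one_apply]
      exact (e ⟨_, hΓ _ (inv_mem (mem_sup_left hy)) _ v.2⟩).symm
    rw [h1, ← Module.End.mul_apply (ρ y), ← map_mul, mul_inv_cancel, map_one, Module.End.one_apply]
    exact e v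
  refine h (Γ ⧸ σ.ker) W₀ Γ f ρ₀ (QuotientGroup.mk'_surjective _) le_sup_left le_sup_right
    (fun w hw => hw.1) hval ⟨hinj, map_mono (comap_mono hKQ), ?_, ?_, ?_, ?_, hr, hr2⟩ ?_ ?_
  · rintro _ ⟨x, hx, rfl⟩
    obtain ⟨c, hc⟩ := hscal _ (mem_subgroupOf.1 hx)
    exact ⟨c, LinearMap.ext fun w => Subtype.ext ((hval x w).trans (hc _ w.2.1))⟩
  · rintro _ ⟨x, hx, rfl⟩ _ ⟨y, hy, rfl⟩
    exact ⟨⁅x, y⁆, hcomm _ hx _ hy, map_commutatorElement f x y⟩
  · rintro _ ⟨x, hx, rfl⟩
    exact ⟨x ^ r, hpow _ hx, map_pow f x r⟩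
  · rintro _ ⟨x, hx, rfl⟩ hc
    refine ⟨x, hnd _ hx fun y hy w hw => ?_, rfl⟩
    refine hscal1 _ (hcomm _ hx y hy) (fun v => ?_) w hw
    have h1 := (map_commutatorElement f x ⟨y, mem_sup_left hy⟩).trans (commutatorElement_eq_one_iff_commute.2
      (hc _ ⟨⟨y, mem_sup_left hy⟩, hy, rfl⟩))
    have h2 := hval ⁅x, ⟨y, mem_sup_left hy⟩⁆ v
    rw [h1, map_one, Module.End.one_apply] at h2
    exact h2.symm
  · intro g x hg hx
    constructor
    · intro hc
      have hq : ⁅(g : H), (x : H)⁆ ∈ Q := by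
        rw [commutatorElement_def]
        exact mul_mem (hQn g hg x hx) (inv_mem hx)
      refine hmemK _ hq fun w => ?_
      have h1 := (map_commutatorElement f g x).trans (commutatorElement_eq_one_iff_commute.2 hc)
      have h2 := hval ⁅g, x⁆ w
      rw [h1, map_one, Module.End.one_apply] at h2
      exact h2.symm
    · intro hc
      show f g * f x = f x * f g
      rw [← map_mul, ← map_mul]
      refine heq _ _ fun w => ?_
      rw [Subgroup.coe_mul, Subgroup.coe_mul, map_mul, map_mul]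
      exact hexact g hg x hx hc w w.2.1
  · intro g hg hall
    rw [← map_one f]
    refine heq _ _ fun w => ?_
    rw [OneMemClass.coe_one, map_one, Module.End.one_apply]
    refine w.2.2 g ⟨hg, fun x hx => ?_⟩
    have hq : ⁅(g : H), x⁆ ∈ Q := by
      rw [commutatorElement_def]
      exact mul_mem (hQn g hg x hx) (inv_mem hx)
    refine hmemK _ hq fun w' => ?_
    have h1 := (map_commutatorElement f g ⟨x, mem_sup_left hx⟩).trans
      (commutatorElement_eq_one_iff_commute.2 (hall ⟨x, mem_sup_left hx⟩ hx))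
    have h2 := hval ⁅g, ⟨x, mem_sup_left hx⟩⁆ w'
    rw [h1, map_one, Module.End.one_apply] at h2
    exact h2.symm

end CfsgLib.PGroup.DerivedTwo
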