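import Cfsg.Agent.Lib.PGroup.DerivedTwo.CaseTwo
import Cfsg.Agent.Lib.PGroup.DerivedTwo.Reduce
import Cfsg.Agent.Lib.PGroup.DerivedTwo.GroupFacts
import Cfsg.Agent.Lib.PGroup.DerivedTwo.Chain

/-!
# A `2`-group fixing a weight two levels above its derived term

If a `2`-group `D` normalizes a frame, `B = D' ` or `B = D''`, `(a - 1)(b - 1)(b' - 1) = 0` for
`a ∈ ⁅B, B⁆` and `b, b' ∈ B`, and in the first case also `(a - 1)(b - 1)(c - 1) = 0` for `c ∈ D`, then
`⁅B, B⁆` centralizes `R`.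
-/

set_option autoImplicit false
set_option linter.style.haveILetI false
set_option linter.unusedSectionVars false

open Subgroup
open scoped commutatorElement

namespace CfsgLib.PGroup.DerivedTwo

universe u v w

variable {k : Type v} [Field k] [IsAlgClosed k] [CharP k 2]

section

variable {H : Type u} [Group H] [Finite H] {W : Type w} [AddCommGroup W] [Module k W] [Nontrivial W]
  [FiniteDimensional k W]

namespace Frame

variable {ρ : H →* Module.End k W} {r : ℕ} {R K : Subgroup H} (hF : Frame ρ r R K)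
include hF

theorem mem_of_sq_mem {x : H} (hx : x ∈ R) (h : x * x ∈ K) : x ∈ K := by
  obtain ⟨t, ht⟩ := hF.prime.odd_of_ne_two hF.odd
  have h3 := hF.pow x hx
  rw [ht, pow_succ, pow_mul, pow_two] at h3
  have := mul_mem (inv_mem (pow_mem h t)) h3
  rwa [inv_mul_cancel_left] at this

theorem commute_of_comm_mem {g x : H} {i : ℕ} (hg : g ^ 2 ^ i = 1) (h : ⁅g, x⁆ ∈ K) : Commute g x := by
  refine hF.commute_of_trivial hg ?_
  show x⁻¹ * (g * x * g⁻¹) ∈ K
  rw [show x⁻¹ * (g * x * g⁻¹) = x⁻¹ * ⁅g, x⁆ * x by rw [commutatorElement_def]; group,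
    (hF.central h x⁻¹).eq, inv_mul_cancel_right]
  exact h

/-- The elements inverted by `e` modulo `K`. -/
def invSub (e : H) : Subgroup H where
  carrier := {x | x ∈ R ∧ Eqv K x⁻¹ (e * x * e⁻¹)}
  one_mem' := ⟨one_mem _, by rw [inv_one, mul_one, mul_inv_cancel]; exact Eqv.refl K 1⟩
  mul_mem' := fun {a b} ha hb => ⟨mul_mem ha.1 hb.1, by
    rw [show e * (a * b) * e⁻¹ = e * a * e⁻¹ * (e * b * e⁻¹) by group, mul_inv_rev]
    refine Eqv.trans ?_ (hF.eqv_mul ha.2 hb.2)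
    show (b⁻¹ * a⁻¹)⁻¹ * (a⁻¹ * b⁻¹) ∈ K
    rw [show (b⁻¹ * a⁻¹)⁻¹ * (a⁻¹ * b⁻¹) = ⁅a, b⁆ by rw [commutatorElement_def]; group]
    exact hF.comm _ ha.1 _ hb.1⟩
  inv_mem' := fun {a} ha => ⟨inv_mem ha.1, by
    rw [show e * a⁻¹ * e⁻¹ = (e * a * e⁻¹)⁻¹ by group]
    exact hF.eqv_inv ha.2⟩

theorem mem_invSub {e x : H} : x ∈ hF.invSub e ↔ x ∈ R ∧ Eqv K x⁻¹ (e * x * e⁻¹) := Iff.rfl

theorem invSub_exact {e y : H} (hy : y ∈ R) (h : e * y * e⁻¹ = y⁻¹) : y ∈ hF.invSub e :=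
  ⟨hy, by rw [h]; exact Eqv.refl K _⟩

theorem frame_fixed {e : H} (hee : e * e = 1) (heR : e ∈ normalizer (R : Set H)) :
    Frame ρ r (R ⊓ centralizer ({e} : Set H)) K where
  inj := hF.inj
  le := le_inf hF.le fun m hm => mem_centralizer_singleton_iff.2 (hF.central hm e).symm
  scalar := hF.scalar
  comm x hx y hy := hF.comm x hx.1 y hy.1
  pow x hx := hF.pow x hx.1
  nondeg x hx h := hF.nondeg x hx.1 fun y hy =>
    (mem_centralizer_singleton_iff.1 (hF.split hee heR (centralizer ({x} : Set H))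
      (fun m hm => mem_centralizer_singleton_iff.2 (hF.central hm x).symm)
      (fun y hy hey => mem_centralizer_singleton_iff.2
        (h y ⟨hy, mem_centralizer_singleton_iff.2 hey.symm⟩).symm)
      (fun y hy hey => mem_centralizer_singleton_iff.2
        (hF.commute_fixed_inverted hy hx.1 hey (mem_centralizer_singleton_iff.1 hx.2).symm).eq) hy)).symm
  prime := hF.prime
  odd := hF.odd

theorem frame_inverted {e : H} (hee : e * e = 1) (heR : e ∈ normalizer (R : Set H)) :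
    Frame ρ r (hF.invSub e) K where
  inj := hF.inj
  le m hm := by
    refine ⟨hF.le hm, ?_⟩
    rw [(hF.central hm e).eq, mul_inv_cancel_right]
    show m⁻¹⁻¹ * m ∈ K
    rw [inv_inv]
    exact mul_mem hm hm
  scalar := hF.scalar
  comm x hx y hy := hF.comm x hx.1 y hy.1
  pow x hx := hF.pow x hx.1
  nondeg x hx h := hF.nondeg x hx.1 fun y hy =>
    (mem_centralizer_singleton_iff.1 (hF.split hee heR (centralizer ({x} : Set H))
      (fun m hm => mem_centralizer_singleton_iff.2 (hF.central hm x).symm)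
      (fun y hy hey => by
        obtain ⟨m, hm, hxm⟩ := hF.exists_inverted hx.2
        have h1 := hF.commute_fixed_inverted (mul_mem hx.1 (hF.le hm)) hy hxm hey
        exact mem_centralizer_singleton_iff.2 (hF.commute_of_eqv (eqv_mul_right x hm).symm h1.symm).eq)
      (fun y hy hey => mem_centralizer_singleton_iff.2
        (h y (hF.invSub_exact hy hey)).symm) hy)).symm
  prime := hF.prime
  odd := hF.odd

/-- An operator killed on the image of `e - 1` and commuting with the inverted elements is zero. -/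
theorem eq_zero_of_kill_inverted {e : H} (hee : e * e = 1) (heR : e ∈ normalizer (R : Set H))
    (hne : ∃ x ∈ hF.invSub e, x ∉ K) {X : Module.End k W} (hXe : Commute X (ρ e))
    (hX : ∀ y ∈ hF.invSub e, Commute X (ρ y)) (hkill : X * (ρ e - 1) = 0) : X = 0 := by
  obtain ⟨x, hx, hxK⟩ := hne
  obtain ⟨m, hm, hxm⟩ := hF.exists_inverted hx.2
  set y := x * m
  have hy : y ∈ hF.invSub e := hF.invSub_exact (mul_mem hx.1 (hF.le hm)) hxm
  have hyK : y ∉ K := fun h => hxK ((mul_mem_cancel_right hm).1 h)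
  -- `X` is killed by `y - y⁻¹`
  have hflip : ρ e * ρ y⁻¹ = ρ y * ρ e := by
    rw [← map_mul, ← map_mul]
    congr 1
    refine mul_inv_eq_iff_eq_mul.1 ?_
    rw [show e * y⁻¹ * e⁻¹ = (e * y * e⁻¹)⁻¹ by group, hxm, inv_inv]
  have hXe' : X * ρ e = X := by rwa [mul_sub, mul_one, sub_eq_zero] at hkill
  have h1 : X * ρ y⁻¹ = X * ρ y :=
    calc X * ρ y⁻¹ = X * ρ e * ρ y⁻¹ := by rw [hXe']
      _ = X * ρ y * ρ e := by rw [mul_assoc, hflip, ← mul_assoc]
      _ = ρ y * X := by rw [(hX y hy).eq, mul_assoc, hXe']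
      _ = X * ρ y := ((hX y hy).eq).symm
  have h2 : X * (ρ (y * y) - 1) = 0 := by
    rw [mul_sub, mul_one, sub_eq_zero, map_mul, ← mul_assoc, ← h1, mul_assoc, ← map_mul, inv_mul_cancel,
      map_one, mul_one]
  have hyy : y * y ∈ hF.invSub e := mul_mem hy hy
  obtain ⟨w, hw, hyw⟩ : ∃ w ∈ hF.invSub e, ¬ Commute (y * y) w := by
    by_contra h
    push Not at h
    exact hyK ((hF.frame_inverted hee heR).mem_of_sq_mem hy ((hF.frame_inverted hee heR).nondeg _ hyy h))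
  exact (hF.frame_inverted hee heR).eq_zero_of_kill hyy hw hyw h2 (hX w hw)

end Frame

/-- The faithful case. -/
theorem derived_eq_one {ρ : H →* Module.End k W} {r : ℕ} {R K : Subgroup H} (hF : Frame ρ r R K)
    (D : Subgroup H) (hD : IsPGroup 2 D) (hDR : D ≤ normalizer (R : Set H))
    (hfaith : ∀ g ∈ D, (∀ x ∈ R, Commute g x) → g = 1) (m : ℕ) (hm : m ≤ 1)
    (htri : m = 0 → ∀ a ∈ dser D 2, ∀ b ∈ dser D 1, ∀ c ∈ D, (ρ a - 1) * (ρ b - 1) * (ρ c - 1) = 0)
    (hbba : ∀ a ∈ dser D (m + 2), ∀ b ∈ dser D (m + 1), ∀ b' ∈ dser D (m + 1),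
      (ρ a - 1) * (ρ b - 1) * (ρ b' - 1) = 0)
    (hIH : ∀ R' : Subgroup H, Frame ρ r R' K → Nat.card R' < Nat.card R → D ≤ normalizer (R' : Set H) →
      ∀ a ∈ dser D (m + 2), ∀ x ∈ R', Commute a x) :
    dser D (m + 2) = ⊥ := by
  classical
  haveI : Fact (Nat.Prime 2) := ⟨Nat.prime_two⟩
  haveI : Group.IsNilpotent D := hD.isNilpotent
  by_contra hA
  set A := dser D (m + 2) with hAdef
  have hAD : A ≤ D := dser_le D _
  haveI hAn : (A.subgroupOf D).Normal := ⟨fun x hx g =>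
    mem_subgroupOf.2 (conj_mem_dser_self g.2 _ (mem_subgroupOf.1 hx))⟩
  have h2pow : ∀ g ∈ D, ∃ i : ℕ, g ^ 2 ^ i = 1 := fun g hg =>
    (hD ⟨g, hg⟩).imp fun i hi => congrArg Subtype.val hi
  -- a central involution in `A`
  obtain ⟨z, hzA, hzz, hz1, hzc⟩ : ∃ z ∈ A, z * z = 1 ∧ z ≠ 1 ∧ ∀ d ∈ D, Commute d z := by
    have hne : A.subgroupOf D ≠ ⊥ := fun e => hA (by
      rw [← map_subgroupOf_eq_of_le hAD, e, Subgroup.map_bot])
    have hne2 := CfsgLib.Coprime.nilpotent_inf_center_ne_bot _ hne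
    obtain ⟨i, hi⟩ := IsPGroup.iff_card.1 (hD.to_subgroup (A.subgroupOf D ⊓ center D))
    obtain ⟨⟨v, hv⟩, hord⟩ := exists_prime_orderOf_dvd_card' (G := (A.subgroupOf D ⊓ center D : Subgroup D)) 2
      (by rw [hi]; exact dvd_pow_self 2 fun e0 => hne2 (card_eq_one.1 (by rw [hi, e0, pow_zero])))
    rw [Subgroup.orderOf_mk] at hord
    refine ⟨v, mem_subgroupOf.1 hv.1, ?_, fun e => ?_, fun d hd => ?_⟩
    · have h1 : v * v = 1 := by rw [← pow_two, ← hord, pow_orderOf_eq_one]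
      exact congrArg Subtype.val h1
    · rw [show v = 1 from Subtype.ext e, orderOf_one] at hord
      omega
    · exact congrArg Subtype.val (mem_center_iff.1 hv.2 ⟨d, hd⟩)
  have hzD : z ∈ D := hAD hzA
  have hzR := hDR hzD
  -- `z` inverts everything
  have hzinv : ∀ x ∈ R, Eqv K x⁻¹ (z * x * z⁻¹) := by
    by_contra hcon
    push Not at hcon
    obtain ⟨x₁, hx₁, hx₁n⟩ := hcon
    have hlt : Nat.card (hF.invSub z) < Nat.card R := by
      refine lt_of_le_of_ne (Subgroup.card_le_of_le fun x hx => hx.1) fun e => hx₁n ?_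
      have := eq_of_le_of_card_ge (H := hF.invSub z) (K := R) (fun x hx => hx.1) e.ge
      exact ((this.ge hx₁ : x₁ ∈ hF.invSub z)).2
    have hDn : D ≤ normalizer ((hF.invSub z : Subgroup H) : Set H) := fun d hd => by
      refine mem_normalizer_fintype ?_
      rintro x ⟨hx, hxi⟩
      refine ⟨(mem_normalizer_iff.1 (hDR hd) x).1 hx, ?_⟩
      have h1 := hF.eqv_conj d hxi
      rwa [show d * x⁻¹ * d⁻¹ = (d * x * d⁻¹)⁻¹ by group,
        show d * (z * x * z⁻¹) * d⁻¹ = (d * z) * x * (d * z)⁻¹ by group, (hzc d hd).eq,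
        show z * d * x * (z * d)⁻¹ = z * (d * x * d⁻¹) * z⁻¹ by group] at h1
    have hcz := hIH _ (hF.frame_inverted hzz hzR) hlt hDn z hzA
    refine hz1 (hfaith z hzD fun x hx => (mem_centralizer_singleton_iff.1
      (hF.split hzz hzR (centralizer ({z} : Set H)) ?_ ?_ ?_ hx)).symm)
    · exact fun m hm => mem_centralizer_singleton_iff.2 (hF.central hm z).symm
    · exact fun y _ hyz => mem_centralizer_singleton_iff.2 hyz.symm
    · exact fun y hy hyz => mem_centralizer_singleton_iff.2 (hcz y (hF.invSub_exact hy hyz)).symm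
  -- an involution `e` central in `B`
  set B := dser D (m + 1) with hBdef
  have hBD : B ≤ D := dser_le D _
  haveI hBn : (B.subgroupOf D).Normal := ⟨fun x hx g =>
    mem_subgroupOf.2 (conj_mem_dser_self g.2 _ (mem_subgroupOf.1 hx))⟩
  have hBB : A = ⁅B, B⁆ := dser_succ D (m + 1)
  have hzB : z ∈ B := dser_succ_le D _ hzA
  have hcommD : (commutator D).map D.subtype = dser D 1 := by
    rw [map_subtype_commutator]; rfl
  have hBcomm : B.subgroupOf D ≤ commutator D := by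
    intro x hx
    have h1 : (x : H) ∈ dser D 1 := dser_anti D (Nat.le_add_left 1 m) (mem_subgroupOf.1 hx)
    rw [← hcommD] at h1
    obtain ⟨y, hy, e⟩ := h1
    rwa [← (Subtype.ext e : y = x)]
  have hBne : ∃ x ∈ B.subgroupOf D, ∃ y ∈ B.subgroupOf D, ¬ Commute x y := by
    by_contra h
    push Not at h
    refine hA ?_
    rw [hBB, commutator_eq_bot_iff_le_centralizer]
    exact fun a ha => mem_centralizer_iff.2 fun b hb =>
      (congrArg Subtype.val (h ⟨a, hBD ha⟩ (mem_subgroupOf.2 ha) ⟨b, hBD hb⟩ (mem_subgroupOf.2 hb)).eq).symm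
  obtain ⟨⟨e, heD⟩, heB, hec, hee, he1, hez, hed⟩ := exists_central_involution hD (B.subgroupOf D) hBcomm hBne
    (z := ⟨z, hzD⟩) (mem_center_iff.2 fun d => Subtype.ext (hzc d d.2)) (mem_subgroupOf.2 hzB) (Subtype.ext hzz)
  replace hec : ∀ b ∈ B, Commute b e := fun b hb =>
    congrArg Subtype.val (hec ⟨b, hBD hb⟩ (mem_subgroupOf.2 hb)).eq
  replace hee : e * e = 1 := congrArg Subtype.val hee
  replace he1 : e ≠ 1 := fun h => he1 (Subtype.ext h)
  replace hez : e ≠ z := fun h => hez (Subtype.ext h)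
  have hed' : ∀ d ∈ D, d * e * d⁻¹ = e ∨ d * e * d⁻¹ = e * z := fun d hd =>
    (hed ⟨d, hd⟩).imp (congrArg Subtype.val) (congrArg Subtype.val)
  have heB' : e ∈ B := mem_subgroupOf.1 heB
  have heR := hDR heD
  have hze : Commute e z := hzc e heD
  have hei : e⁻¹ = e := inv_eq_of_mul_eq_one_left hee
  set Rp := R ⊓ centralizer ({e} : Set H) with hRp
  have hFp := hF.frame_fixed hee heR
  have hRpe : ∀ x ∈ Rp, Commute e x := fun x hx => (mem_centralizer_singleton_iff.1 hx.2).symm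
  have hfaith2 : ∀ g ∈ D, (∀ x ∈ Rp, Commute g x) → (∀ x ∈ hF.invSub e, Commute g x) → g = 1 :=
    fun g hg h1 h2 => hfaith g hg fun x hx => (mem_centralizer_singleton_iff.1
      (hF.split hee heR (centralizer ({g} : Set H))
        (fun m hm => mem_centralizer_singleton_iff.2 (hF.central hm g).symm)
        (fun y hy hey => mem_centralizer_singleton_iff.2
          (h1 y ⟨hy, mem_centralizer_singleton_iff.2 hey.symm⟩).symm)
        (fun y hy hey => mem_centralizer_singleton_iff.2 (h2 y (hF.invSub_exact hy hey)).symm) hx)).symm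
  have hRpne : ∃ x ∈ Rp, x ∉ K := by
    by_contra h
    push Not at h
    -- then `e = z`
    refine hez ?_
    have h1 : e * z = 1 := hfaith2 _ (mul_mem heD hzD)
      (fun x hx => (hF.central (h x hx) (e * z))) fun x hx => by
        refine hF.commute_of_trivial (i := 1) (g := e * z) ?_ ?_
        · rw [pow_one, pow_two, hze.symm.mul_mul_mul_comm, hee, hzz, one_mul]
        · have h1 := hF.eqv_conj e (hzinv x hx.1)
          have h2 := hF.eqv_inv hx.2
          rw [inv_inv, show (e * x * e⁻¹)⁻¹ = e * x⁻¹ * e⁻¹ by group] at h2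
          rw [show e * z * x * (e * z)⁻¹ = e * (z * x * z⁻¹) * e⁻¹ by group]
          exact h2.trans h1
    rw [eq_inv_of_mul_eq_one_left h1, inv_eq_of_mul_eq_one_left hzz]
  -- `e` is not central in `D`
  obtain ⟨c₀, hc₀, hc₀e⟩ : ∃ c₀ ∈ D, c₀ * e * c₀⁻¹ = e * z := by
    by_contra h
    push Not at h
    have hcen : ∀ d ∈ D, Commute d e := fun d hd =>
      mul_inv_eq_iff_eq_mul.1 ((hed' d hd).resolve_right (h d hd))
    have hlt : Nat.card Rp < Nat.card R := by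
      refine lt_of_le_of_ne (Subgroup.card_le_of_le inf_le_left) fun e' => he1 ?_
      have := eq_of_le_of_card_ge (H := Rp) (K := R) inf_le_left e'.ge
      exact hfaith e heD fun x hx => hRpe x (this.ge hx)
    have hDn : D ≤ normalizer ((Rp : Subgroup H) : Set H) := fun d hd => by
      refine mem_normalizer_fintype ?_
      rintro x ⟨hx, hxe⟩
      refine ⟨(mem_normalizer_iff.1 (hDR hd) x).1 hx, mem_centralizer_singleton_iff.2 ?_⟩
      exact (((hcen d hd).symm.mul_right (mem_centralizer_singleton_iff.1 hxe).symm).mul_right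
        (hcen d hd).symm.inv_right).symm.eq
    obtain ⟨x, hx, hxK⟩ := hRpne
    refine hxK (hFp.mem_of_sq_mem hx ?_)
    have h1 := hzinv x hx.1
    rw [(hIH Rp hFp hlt hDn z hzA x hx).eq, mul_inv_cancel_right] at h1
    rwa [Eqv, inv_inv] at h1
  have hc₀' : c₀⁻¹ * e * c₀ = e * z := by
    have h1 : c₀⁻¹ * (e * z) * c₀ = e := by rw [← hc₀e]; group
    calc c₀⁻¹ * e * c₀ = c₀⁻¹ * (e * z) * c₀ * (c₀⁻¹ * z * c₀)⁻¹ := by group
      _ = e * z := by
        rw [h1, (hzc c₀⁻¹ (inv_mem hc₀)).eq, inv_mul_cancel_right, inv_eq_of_mul_eq_one_left hzz]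
  -- conjugation by `c₀` exchanges the two parts
  have hswap1 : ∀ x ∈ Rp, c₀ * x * c₀⁻¹ ∈ hF.invSub e := by
    intro x hx
    refine ⟨(mem_normalizer_iff.1 (hDR hc₀) x).1 hx.1, ?_⟩
    rw [show e * (c₀ * x * c₀⁻¹) * e⁻¹ = c₀ * ((c₀⁻¹ * e * c₀) * x * (c₀⁻¹ * e * c₀)⁻¹) * c₀⁻¹ by group, hc₀',
      show (c₀ * x * c₀⁻¹)⁻¹ = c₀ * x⁻¹ * c₀⁻¹ by group]
    refine hF.eqv_conj c₀ ?_
    rw [show e * z * x * (e * z)⁻¹ = e * (z * x * z⁻¹) * e⁻¹ by group]
    refine Eqv.trans ?_ (hF.eqv_conj e (hzinv x hx.1))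
    rw [(hRpe x hx).inv_right.eq, mul_inv_cancel_right]
    exact Eqv.refl K _
  have hswap2 : ∀ x ∈ hF.invSub e, c₀ * x * c₀⁻¹ ∈ Rp := by
    intro x hx
    refine ⟨(mem_normalizer_iff.1 (hDR hc₀) x).1 hx.1, mem_centralizer_singleton_iff.2 ?_⟩
    refine (hF.commute_of_trivial (i := 1) (g := e) (by rw [pow_one, pow_two, hee]) ?_).symm.eq
    rw [show e * (c₀ * x * c₀⁻¹) * e⁻¹ = c₀ * ((c₀⁻¹ * e * c₀) * x * (c₀⁻¹ * e * c₀)⁻¹) * c₀⁻¹ by group, hc₀']
    refine hF.eqv_conj c₀ ?_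
    rw [show e * z * x * (e * z)⁻¹ = e * (z * x * z⁻¹) * e⁻¹ by group]
    refine Eqv.trans ?_ (hF.eqv_conj e (hzinv x hx.1))
    have h2 := hF.eqv_inv hx.2
    rwa [inv_inv, show (e * x * e⁻¹)⁻¹ = e * x⁻¹ * e⁻¹ by group] at h2
  -- the frame on the image of `e - 1`
  set D₀ := D ⊓ centralizer ({e} : Set H) with hD₀
  have hmem₀ : ∀ {d : H}, d ∈ D₀ ↔ d ∈ D ∧ Commute d e := fun {d} => by
    rw [hD₀, mem_inf, mem_centralizer_singleton_iff]; rfl
  have hB₀ : B ≤ D₀ := fun b hb => hmem₀.2 ⟨hBD hb, hec b hb⟩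
  have hS : LinearMap.range (ρ e - 1) ≠ ⊥ := fun h =>
    he1 (hF.inj (by rw [map_one]; exact sub_eq_zero.1 (LinearMap.range_eq_bot.1 h)))
  have hinvS : ∀ g, Commute g e → ∀ w ∈ LinearMap.range (ρ e - 1), ρ g w ∈ LinearMap.range (ρ e - 1) := by
    rintro g hg _ ⟨u, rfl⟩
    refine ⟨ρ g u, ?_⟩
    show (ρ e - 1) (ρ g u) = ρ g ((ρ e - 1) u)
    rw [← Module.End.mul_apply, ← Module.End.mul_apply, (rep_sub_one_comm hg.symm).eq]
  have hD₀n : D₀ ≤ normalizer ((Rp : Subgroup H) : Set H) := fun d hd => by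
    refine mem_normalizer_fintype ?_
    rintro x ⟨hx, hxe⟩
    refine ⟨(mem_normalizer_iff.1 (hDR (hmem₀.1 hd).1) x).1 hx, mem_centralizer_singleton_iff.2 ?_⟩
    exact ((((hmem₀.1 hd).2).symm.mul_right (mem_centralizer_singleton_iff.1 hxe).symm).mul_right
      ((hmem₀.1 hd).2).symm.inv_right).symm.eq
  refine of_frame ρ hF.prime hF.odd (Q := Rp) (K := K) (D := D₀) (LinearMap.range (ρ e - 1)) hS hFp.le hFp.comm
    hFp.pow (fun g hg => hinvS g (hRpe g hg).symm) (fun g hg => hinvS g (hmem₀.1 hg).2)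
    (fun x hx => (hF.scalar x hx).imp fun c hc w _ => by rw [hc]; rfl)
    (fun x hx h => hFp.nondeg x hx fun y hy => ?_) (hD.to_le inf_le_left) hD₀n ?_
  · obtain ⟨w, hw, hw0⟩ := Submodule.exists_mem_ne_zero_of_ne_bot hS
    obtain ⟨c, hc⟩ := hF.scalar _ (hFp.comm x hx y hy)
    refine commutatorElement_eq_one_iff_commute.1 (hF.inj ?_)
    have e1 := h y hy w hw
    rw [hc, LinearMap.smul_apply, Module.End.one_apply] at e1
    have e2 : c = 1 := smul_left_injective k hw0 (show c • w = (1 : k) • w by rw [one_smul]; exact e1)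
    rw [map_one, hc, e2, one_smul]
  intro G _ _ W₀ _ Γ f ρ₀ hfsurj hRΓ hDΓ hW₀ hval hF₂ hiff hfaith₂
  haveI : FiniteDimensional k W₀ := inferInstance
  let lift : ∀ {d : H}, d ∈ D₀ → Γ := fun {d} hd => ⟨d, hDΓ hd⟩
  have hzD₀ : z ∈ D₀ := hB₀ hzB
  set ζ : G := f (lift hzD₀) with hζdef
  set P : Subgroup G := (D₀.subgroupOf Γ).map f with hPdef
  set Y : Subgroup G := (B.subgroupOf Γ).map f with hYdef
  set R₂ := (Rp.subgroupOf Γ).map f with hR₂
  set K₂ := (K.subgroupOf Γ).map f with hK₂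
  have hPp : IsPGroup 2 P :=
    ((hD.to_le inf_le_left).comap_of_injective Γ.subtype Γ.subtype_injective).map f
  have hfP : ∀ {d : H} (hd : d ∈ D₀), f (lift hd) ∈ P := fun {d} hd => ⟨lift hd, mem_subgroupOf.2 hd, rfl⟩
  have hPel : ∀ g ∈ P, ∃ d, ∃ hd : d ∈ D₀, f (lift hd) = g := by
    rintro _ ⟨d, hd, rfl⟩; exact ⟨d, mem_subgroupOf.1 hd, rfl⟩
  have hYP : Y ≤ P := map_mono (comap_mono hB₀)
  have hfh : ∀ g g' : Γ, (g : H) = g' → f g = f g' := fun g g' h => congrArg f (Subtype.ext h)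
  have hζc : ∀ g ∈ P, Commute g ζ := by
    intro g hg
    obtain ⟨d, hd, rfl⟩ := hPel g hg
    show f _ * f _ = f _ * f _
    rw [← map_mul, ← map_mul]
    exact hfh _ _ (hzc d (hmem₀.1 hd).1).eq
  have hζζ : ζ * ζ = 1 := by rw [hζdef, ← map_mul, ← map_one f]; exact hfh _ _ hzz
  have hPn : P ≤ normalizer (R₂ : Set G) := by
    intro g hg
    obtain ⟨d, hd, rfl⟩ := hPel g hg
    refine mem_normalizer_fintype ?_
    rintro _ ⟨x, hx, rfl⟩
    exact ⟨lift hd * x * (lift hd)⁻¹, (mem_normalizer_iff.1 (hD₀n hd) _).1 hx,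
      by rw [map_mul, map_mul, map_inv]⟩
  have hζn : ζ ∈ normalizer (R₂ : Set G) := hPn (hfP hzD₀)
  have hzinv₂ : ∀ y ∈ R₂, Eqv K₂ y⁻¹ (ζ * y * ζ⁻¹) := by
    rintro _ ⟨x, hx, rfl⟩
    exact ⟨x⁻¹⁻¹ * (lift hzD₀ * x * (lift hzD₀)⁻¹), hzinv _ hx.1, by simp [hζdef]⟩
  have hfix₂ : ∀ y ∈ R₂, Commute ζ y → y ∈ K₂ := fun y hy hc => hF₂.mem_of_sq_mem hy (by
    have h1 := hzinv₂ y hy
    rwa [hc.eq, mul_inv_cancel_right, Eqv, inv_inv] at h1)
  have hR₂ne : ∃ y ∈ R₂, ¬ Commute ζ y := by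
    obtain ⟨x, hx, hxK⟩ := hRpne
    refine ⟨f ⟨x, hRΓ hx⟩, ⟨⟨x, hRΓ hx⟩, hx, rfl⟩, fun hc => hxK ?_⟩
    have h1 : ⁅z, x⁆ ∈ K := (hiff (lift hzD₀) ⟨x, hRΓ hx⟩ hzD₀ hx).1 hc
    refine hFp.mem_of_sq_mem hx ?_
    have h2 := hzinv x hx.1
    rw [(hF.commute_of_comm_mem (i := 1) (by rw [pow_one, pow_two, hzz]) h1).eq, mul_inv_cancel_right] at h2
    rwa [Eqv, inv_inv] at h2
  have hop : ∀ b ∈ Y, (ρ₀ ζ - 1) * (ρ₀ b - 1) = 0 := by
    rintro _ ⟨b, hb, rfl⟩
    refine LinearMap.ext fun w => Subtype.ext ?_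
    obtain ⟨u, hu⟩ := hW₀ w.2
    have h0 := LinearMap.congr_fun (hbba z hzA b (mem_subgroupOf.1 hb) e heB') u
    rw [Module.End.mul_apply, Module.End.mul_apply, LinearMap.zero_apply, hu] at h0
    rw [LinearMap.zero_apply, Submodule.coe_zero, ← h0, Module.End.mul_apply, LinearMap.sub_apply,
      Module.End.one_apply, Submodule.coe_sub, hval, LinearMap.sub_apply, Module.End.one_apply, Submodule.coe_sub,
      hval]
    rfl
  have hYz : ∀ b ∈ Y, Commute b ζ := fun b hb => hζc b (hYP hb)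
  have hBΓ : B ≤ Γ := hB₀.trans hDΓ
  have hYY_eq : ⁅Y, Y⁆ = (A.subgroupOf Γ).map f := by
    rw [hYdef, ← map_commutator]
    congr 1
    refine map_injective Γ.subtype_injective ?_
    rw [map_commutator, map_subgroupOf_eq_of_le hBΓ, map_subgroupOf_eq_of_le ((commutator_le_self B).trans hBΓ |>.trans' hBB.le),
      hBB]
  have hζY : ζ ∈ ⁅Y, Y⁆ := hYY_eq ▸ ⟨lift hzD₀, hzA, rfl⟩
  have hYp : IsPGroup 2 Y := hPp.to_le hYP
  have hsign := fun {g : G} (hg : g ∈ P) (hgg : g * g = 1) =>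
    hF₂.sign_invol hζζ hζn hR₂ne Y (hYP.trans hPn) hYz hop hζY hYp (hPn hg) (hζc g hg) hgg
  -- the image has one involution
  have hone : ∀ g ∈ P, g * g = 1 → (∀ y ∈ R₂, Eqv K₂ y (g * y * g⁻¹)) → g = 1 := by
    intro g hg hgg h
    obtain ⟨d, hd, rfl⟩ := hPel g hg
    exact hfaith₂ _ hd fun x hx =>
      hF₂.commute_of_trivial (i := 1) (by rw [pow_one, pow_two]; exact hgg) (h _ ⟨x, hx, rfl⟩)
  have huniq : ∀ g ∈ P, g * g = 1 → g = 1 ∨ g = ζ := by
    intro g hg hgg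
    have hexact : ∀ y ∈ R₂, ∃ m ∈ K₂, ζ * (y * m) * ζ⁻¹ = (y * m)⁻¹ := fun y hy =>
      hF₂.exists_inverted (hzinv₂ y hy)
    rcases hsign hg hgg with h | h
    · refine Or.inl (hone g hg hgg fun y hy => ?_)
      obtain ⟨m, hm, e'⟩ := hexact y hy
      exact ((eqv_mul_right y hm).trans (h _ (mul_mem hy (hF₂.le hm)) e')).trans
        (hF₂.eqv_conj g (eqv_mul_right y hm).symm)
    · refine Or.inr ?_
      have h1 : g * ζ = 1 := by
        refine hone _ (mul_mem hg (hfP hzD₀))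
          (by rw [(hζc g hg).symm.mul_mul_mul_comm, hgg, hζζ, one_mul]) fun y hy => ?_
        obtain ⟨m, hm, e'⟩ := hexact y hy
        refine Eqv.trans ?_ (hF₂.eqv_conj (g * ζ) (eqv_mul_right y hm).symm)
        rw [show g * ζ * (y * m) * (g * ζ)⁻¹ = g * (ζ * (y * m) * ζ⁻¹) * g⁻¹ by group, e']
        refine (eqv_mul_right y hm).trans ?_
        have h2 := hF₂.eqv_inv (h _ (mul_mem hy (hF₂.le hm)) e')
        rwa [inv_inv, show (g * (y * m) * g⁻¹)⁻¹ = g * (y * m)⁻¹ * g⁻¹ by group] at h2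
      rw [eq_inv_of_mul_eq_one_left h1, inv_eq_of_mul_eq_one_left hζζ]
  -- transport to the type of `P`
  let ζP : P := ⟨ζ, hfP hzD₀⟩
  have hζP : ζP ∈ center P := mem_center_iff.2 fun g => Subtype.ext (hζc g g.2)
  have hu : ∀ g : P, g * g = 1 → g = 1 ∨ g = ζP := fun g hg =>
    (huniq g g.2 (congrArg Subtype.val hg)).imp Subtype.ext Subtype.ext
  haveI hYn : (Y.subgroupOf P).Normal := by
    refine ⟨fun y hy g => ?_⟩
    obtain ⟨d, hd, hde⟩ := hPel g g.2
    obtain ⟨b, hb, hbe⟩ := mem_subgroupOf.1 hy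
    refine mem_subgroupOf.2 ⟨lift hd * b * (lift hd)⁻¹, ?_, ?_⟩
    · exact conj_mem_dser_self (hmem₀.1 hd).1 _ (mem_subgroupOf.1 hb)
    · rw [map_mul, map_mul, map_inv, hde, hbe]; rfl
  have hYne : ∃ x ∈ Y.subgroupOf P, ∃ y ∈ Y.subgroupOf P, ¬ Commute x y := by
    by_contra h
    push Not at h
    have h1 : ⁅Y, Y⁆ = ⊥ := commutator_eq_bot_iff_le_centralizer.2 fun a ha => mem_centralizer_iff.2 fun b hb =>
      (congrArg Subtype.val (h ⟨a, hYP ha⟩ (mem_subgroupOf.2 ha) ⟨b, hYP hb⟩ (mem_subgroupOf.2 hb)).eq).symm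
    obtain ⟨y, hy, hyc⟩ := hR₂ne
    rw [h1, mem_bot] at hζY
    exact hyc (hζY ▸ Commute.one_left y)
  have hYY : ∀ a ∈ Y.subgroupOf P, ∀ b ∈ Y.subgroupOf P, ⁅a, b⁆ = 1 ∨ ⁅a, b⁆ = ζP := by
    intro a ha b hb
    refine hu _ (Subtype.ext ?_)
    obtain ⟨q, hq, hqe⟩ : ((⁅a, b⁆ : P) : G) ∈ (A.subgroupOf Γ).map f := by
      rw [← hYY_eq, show ((⁅a, b⁆ : P) : G) = ⁅(a : G), (b : G)⁆ from map_commutatorElement P.subtype a b]
      exact commutator_mem_commutator (mem_subgroupOf.1 ha) (mem_subgroupOf.1 hb)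
    show ((⁅a, b⁆ : P) : G) * ((⁅a, b⁆ : P) : G) = 1
    rw [← hqe, ← map_mul]
    refine hF₂.inj (LinearMap.ext fun w => Subtype.ext ?_)
    rw [hval, map_one, Module.End.one_apply, Subgroup.coe_mul, map_mul]
    -- `a - 1` squared kills the image of `e - 1`
    obtain ⟨u, hu'⟩ := hW₀ w.2
    have hqB : (q : H) ∈ B := dser_succ_le D _ (mem_subgroupOf.1 hq)
    have h0 := LinearMap.congr_fun (hbba q (mem_subgroupOf.1 hq) q hqB e heB') u
    rw [Module.End.mul_apply, Module.End.mul_apply, LinearMap.zero_apply, hu', LinearMap.sub_apply,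
      Module.End.one_apply, LinearMap.sub_apply, Module.End.one_apply, map_sub] at h0
    rw [← sub_eq_zero, ← h0, Module.End.mul_apply]
    have hneg : ∀ v : W, -v = v := fun v => by rw [← neg_one_smul k v, CharTwo.neg_eq, one_smul]
    have h2 : ∀ v : W, v + v = 0 := fun v => by nth_rewrite 2 [← hneg v]; exact add_neg_cancel v
    calc ρ (q : H) (ρ (q : H) w) - (w : W)
        = ρ (q : H) (ρ (q : H) w) - (w : W) - ((ρ (q : H) w - w) + (ρ (q : H) w - w)) + ((w : W) - w) := by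
          rw [h2, sub_zero, sub_self, add_zero]
      _ = ρ (q : H) (ρ (q : H) w) - ρ (q : H) w - (ρ (q : H) w - w) := by abel
  rcases Nat.le_one_iff_eq_zero_or_eq_one.1 hm with rfl | rfl
  swap
  · -- length three
    have h1 : dser D 1 ≤ D₀ := fun x hx => by
      rw [← hcommD] at hx
      obtain ⟨y, hy, rfl⟩ := hx
      refine hmem₀.2 ⟨y.2, congrArg Subtype.val (commutator_fixes_of_two_values (f := (⟨e, heD⟩ : D))
        (z := ⟨z, hzD⟩) (mem_center_iff.2 fun d => Subtype.ext (hzc d d.2).eq) hed hy).eq⟩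
    have h2 : z ∈ dser D₀ 2 := by
      have h3 : dser D 3 ≤ dser D₀ 2 := by
        rw [dser_succ D 2, dser_succ D 1, dser_succ D₀ 1, dser_succ D₀ 0, dser_zero]
        exact commutator_mono (commutator_mono h1 h1) (commutator_mono h1 h1)
      exact h3 hzA
    have hmapeq : ((dser (D₀.subgroupOf Γ) 2)).map Γ.subtype = dser D₀ 2 := by
      rw [dser_map, map_subgroupOf_eq_of_le hDΓ]
    rw [← hmapeq] at h2
    obtain ⟨q, hq, hqe⟩ := h2
    have h3 : ζ ∈ dser P 2 := by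
      rw [hPdef, ← dser_map]
      exact ⟨q, hq, hfh _ _ hqe⟩
    have h4 : dser P 2 = ⊥ := by
      rw [dser_succ, dser_succ, dser_zero, commutator_eq_bot_iff_le_centralizer]
      have hmapP : (commutator P).map P.subtype = ⁅P, P⁆ := map_subtype_commutator P
      rw [← hmapP]
      rintro _ ⟨a, ha, rfl⟩
      refine mem_centralizer_iff.2 ?_
      rintro _ ⟨b, hb, rfl⟩
      exact congrArg Subtype.val (commutator_commute hPp hζP (Subtype.ext hζζ) hu (Y.subgroupOf P) hYne hYY b hb a ha).eq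
    obtain ⟨y, hy, hyc⟩ := hR₂ne
    rw [h4, mem_bot] at h3
    exact hyc (h3 ▸ Commute.one_left y)
  -- length two
  have hzmem : ∀ {g : P}, g ∈ zpowers ζP ↔ (g : G) = 1 ∨ (g : G) = ζ := by
    intro g
    refine ⟨fun hg => ?_, ?_⟩
    · have h1 : g * g = 1 := by
        obtain ⟨i, rfl⟩ := mem_zpowers_iff.1 hg
        rw [← (Commute.refl ζP).mul_zpow, show ζP * ζP = 1 from Subtype.ext hζζ, one_zpow]
      exact (hu g h1).imp (congrArg Subtype.val) (congrArg Subtype.val)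
    · rintro (h | h)
      · rw [show g = 1 from Subtype.ext h]; exact one_mem _
      · rw [show g = ζP from Subtype.ext h]; exact mem_zpowers _
  obtain ⟨d, hd, hdRm, hdn⟩ : ∃ d, ∃ hd : d ∈ D₀, (∀ x ∈ hF.invSub e, Commute d x) ∧
      f (lift hd) ≠ 1 ∧ f (lift hd) ≠ ζ := by
    by_contra hcon
    push Not at hcon
    let D₁ : Subgroup D := centralizer ({(⟨e, heD⟩ : D)} : Set D)
    have hD₁ : ∀ {d : D}, d ∈ D₁ → (d : H) ∈ D₀ := fun {d} hd =>
      hmem₀.2 ⟨d.2, congrArg Subtype.val (mem_centralizer_singleton_iff.1 hd)⟩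
    have hD₁' : ∀ {d : H} (h : d ∈ D₀), (⟨d, (hmem₀.1 h).1⟩ : D) ∈ D₁ := fun {d} h =>
      mem_centralizer_singleton_iff.2 (Subtype.ext (hmem₀.1 h).2.eq)
    haveI hD₁n : D₁.Normal := ⟨fun g hg d => mem_centralizer_singleton_iff.2 (Subtype.ext (by
      have hgc : Commute (g : H) e := (hmem₀.1 (hD₁ hg)).2
      rcases hed' (d : H)⁻¹ (inv_mem d.2) with h | h <;> rw [inv_inv] at h
      · show (d : H) * g * (d : H)⁻¹ * e = e * ((d : H) * g * (d : H)⁻¹)
        calc (d : H) * g * (d : H)⁻¹ * e = (d : H) * (g * ((d : H)⁻¹ * e * d)) * (d : H)⁻¹ := by group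
          _ = (d : H) * (e * g) * (d : H)⁻¹ := by rw [h, hgc.eq]
          _ = (d : H) * ((d : H)⁻¹ * e * d * g) * (d : H)⁻¹ := by rw [h]
          _ = e * ((d : H) * g * (d : H)⁻¹) := by group
      · show (d : H) * g * (d : H)⁻¹ * e = e * ((d : H) * g * (d : H)⁻¹)
        calc (d : H) * g * (d : H)⁻¹ * e = (d : H) * (g * ((d : H)⁻¹ * e * d)) * (d : H)⁻¹ := by group
          _ = (d : H) * (e * z * g) * (d : H)⁻¹ := by rw [h, (hgc.mul_right (hzc g g.2)).eq]
          _ = (d : H) * ((d : H)⁻¹ * e * d * g) * (d : H)⁻¹ := by rw [h]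
          _ = e * ((d : H) * g * (d : H)⁻¹) := by group))⟩
    let c₁ : D := ⟨c₀, hc₀⟩
    have htwo : ∀ d : D, d ∈ D₁ ∨ c₁⁻¹ * d ∈ D₁ := by
      intro d
      rcases hed' d d.2 with h | h
      · exact Or.inl (mem_centralizer_singleton_iff.2 (Subtype.ext (mul_inv_eq_iff_eq_mul.1 h)))
      · refine Or.inr (mem_centralizer_singleton_iff.2 (Subtype.ext (mul_inv_eq_iff_eq_mul.1 ?_)))
        show c₀⁻¹ * (d : H) * e * (c₀⁻¹ * (d : H))⁻¹ = e
        calc c₀⁻¹ * (d : H) * e * (c₀⁻¹ * (d : H))⁻¹ = c₀⁻¹ * ((d : H) * e * (d : H)⁻¹) * c₀ := by group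
          _ = c₀⁻¹ * (c₀ * e * c₀⁻¹) * c₀ := by rw [h, hc₀e]
          _ = e := by group
    let f' : D₁ →* P := MonoidHom.mk' (fun d => ⟨f (lift (hD₁ d.2)), hfP (hD₁ d.2)⟩) fun a b => Subtype.ext (by
      show f _ = f _ * f _
      rw [← map_mul]; exact hfh _ _ rfl)
    have hf' : Function.Surjective f' := by
      rintro ⟨g, hg⟩
      obtain ⟨d, hd, rfl⟩ := hPel g hg
      exact ⟨⟨_, hD₁' hd⟩, Subtype.ext (hfh _ _ rfl)⟩
    refine diag_false hPp hζP (Subtype.ext hζζ) hu (Y.subgroupOf P) hYne hYY hD D₁ c₁ htwo f' hf' ?_ ?_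
    · intro d hd
      -- `d` or `d z` centralizes `Rp`
      obtain ⟨d', hd', hd'e, hfd'⟩ : ∃ d', ∃ hd' : d' ∈ D₀, (d' = (d : H) ∨ d' = (d : H) * z) ∧
          f (lift hd') = 1 := by
        rcases hzmem.1 hd with h | h
        · exact ⟨_, hD₁ d.2, Or.inl rfl, h⟩
        · refine ⟨_, mul_mem (hD₁ d.2) hzD₀, Or.inr rfl, ?_⟩
          rw [hfh (lift (mul_mem (hD₁ d.2) hzD₀)) (lift (hD₁ d.2) * lift hzD₀) rfl, map_mul]
          rw [show f (lift (hD₁ d.2)) = ζ from h, ← hζdef, hζζ]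
      have hRp' : ∀ x ∈ Rp, Commute d' x := fun x hx => by
        obtain ⟨i, hi⟩ := h2pow d' (hmem₀.1 hd').1
        refine hF.commute_of_comm_mem hi ((hiff (lift hd') ⟨x, hRΓ hx⟩ hd' hx).1 ?_)
        rw [hfd']; exact Commute.one_left _
      set d'' := c₀ * d' * c₀⁻¹ with hd''
      have hd''0 : d'' ∈ D₀ := hD₁ (hD₁n.conj_mem ⟨d', (hmem₀.1 hd').1⟩ (hD₁' hd') c₁)
      have h2 := hcon d'' hd''0 fun x hx => by
        -- `c₀⁻¹` carries the inverted part into `Rp`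
        have hx' : c₀⁻¹ * x * c₀ ∈ Rp := by
          refine ⟨?_, mem_centralizer_singleton_iff.2 ?_⟩
          · have := (mem_normalizer_iff.1 (hDR (inv_mem hc₀)) x).1 hx.1
            rwa [inv_inv] at this
          · refine (hF.commute_of_trivial (i := 1) (g := e) (by rw [pow_one, pow_two, hee]) ?_).symm.eq
            have h3 := hF.eqv_conj c₀⁻¹ (((hF.eqv_inv hx.2)).trans
              (show Eqv K (e * x * e⁻¹)⁻¹ (e * (z * x * z⁻¹) * e⁻¹) by
                rw [show (e * x * e⁻¹)⁻¹ = e * x⁻¹ * e⁻¹ by group]; exact hF.eqv_conj e (hzinv x hx.1)))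
            rw [inv_inv, inv_inv] at h3
            refine h3.trans ?_
            rw [show c₀⁻¹ * (e * (z * x * z⁻¹) * e⁻¹) * c₀ = (c₀⁻¹ * (e * z) * c₀) * (c₀⁻¹ * x * c₀) *
              (c₀⁻¹ * (e * z) * c₀)⁻¹ by group,
              show c₀⁻¹ * (e * z) * c₀ = e by rw [← hc₀e]; group]
            exact Eqv.refl K _
        have h4 := (hRp' _ hx').map (MulAut.conj c₀).toMonoidHom
        simpa [hd'', mul_assoc] using h4
      show MulAut.conjNormal c₁ d ∈ (zpowers ζP).comap f'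
      rw [mem_comap, hzmem]
      show f (lift (hD₁ (MulAut.conjNormal c₁ d).2)) = 1 ∨ f (lift (hD₁ (MulAut.conjNormal c₁ d).2)) = ζ
      have h2' : f (lift hd''0) = 1 ∨ f (lift hd''0) = ζ := by
        by_cases h : f (lift hd''0) = 1
        · exact Or.inl h
        · exact Or.inr (h2 h)
      rcases hd'e with rfl | rfl
      · exact h2'
      · have he'' : f (lift hd''0) = f (lift (hD₁ (MulAut.conjNormal c₁ d).2)) * ζ := by
          rw [hζdef, ← map_mul]
          refine hfh _ _ ?_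
          show c₀ * ((d : H) * z) * c₀⁻¹ = c₀ * (d : H) * c₀⁻¹ * z
          rw [show c₀ * ((d : H) * z) * c₀⁻¹ = c₀ * (d : H) * c₀⁻¹ * (c₀ * z * c₀⁻¹) by group, (hzc c₀ hc₀).eq,
            mul_inv_cancel_right]
        rw [he''] at h2'
        rcases h2' with h | h
        · exact Or.inr (by rw [eq_inv_of_mul_eq_one_left h, inv_eq_of_mul_eq_one_left hζζ])
        · exact Or.inl (mul_eq_right.1 h)
    · intro y
      constructor
      · intro hy
        obtain ⟨b, hb, hbe⟩ := mem_subgroupOf.1 hy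
        refine ⟨⟨_, hD₁' (hB₀ hb)⟩, hBcomm (mem_subgroupOf.2 hb), Subtype.ext ?_⟩
        rw [← hbe]; exact hfh _ _ rfl
      · rintro ⟨d, hd, rfl⟩
        refine mem_subgroupOf.2 ⟨lift (hD₁ d.2), ?_, rfl⟩
        show ((d : D) : H) ∈ dser D (0 + 1)
        rw [zero_add, ← hcommD]
        exact mem_map_of_mem _ hd
  -- a power of order four on `Rp`
  obtain ⟨n, hn⟩ := IsPGroup.iff_orderOf.1 hPp ⟨f (lift hd), hfP hd⟩
  rw [Subgroup.orderOf_mk] at hn
  rcases n with _ | _ | n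
  · rw [pow_zero, orderOf_eq_one_iff] at hn; exact hdn.1 hn
  · have h1 : f (lift hd) * f (lift hd) = 1 := by
      rw [← pow_two, show (2 : ℕ) = 2 ^ (0 + 1) from rfl, ← hn, pow_orderOf_eq_one]
    exact (huniq _ (hfP hd) h1).elim hdn.1 hdn.2
  set c := d ^ 2 ^ n with hc
  have hcD₀ : c ∈ D₀ := pow_mem hd _
  have hcD : c ∈ D := (hmem₀.1 hcD₀).1
  have hce : Commute c e := (hmem₀.1 hcD₀).2
  have hfc : f (lift hcD₀) = f (lift hd) ^ 2 ^ n := by
    rw [← map_pow]; exact hfh _ _ (by simp [hc, lift])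
  have hfcc : f (lift hcD₀) * f (lift hcD₀) = ζ := by
    rw [hfc, ← pow_two, ← pow_mul, ← pow_succ]
    refine (huniq _ (pow_mem (hfP hd) _) ?_).resolve_left fun h => ?_
    · rw [← pow_add, ← two_mul, ← pow_succ', ← hn, pow_orderOf_eq_one]
    · have := Nat.le_of_dvd (pow_pos two_pos _) (orderOf_dvd_of_pow_eq_one h)
      rw [hn] at this
      have h' : 2 ^ (n + 1) < 2 ^ (n + 1 + 1) := Nat.pow_lt_pow_right (by norm_num) (Nat.lt_succ_self _)
      omega
  have hcRm : ∀ x ∈ hF.invSub e, Commute c x := fun x hx => (hdRm x hx).pow_left _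
  -- `c ^ 2 = z e`
  have hze2 : z * e * (z * e) = 1 := by rw [hze.mul_mul_mul_comm, hzz, hee, one_mul]
  have hcc : c * c = z * e := by
    refine mul_inv_eq_one.1 (hfaith2 _ (mul_mem (mul_mem hcD hcD) (inv_mem (mul_mem hzD heD))) ?_ ?_)
    · intro x hx
      rw [mul_inv_rev, hei, inv_eq_of_mul_eq_one_left hzz, hze.eq, ← mul_assoc]
      refine Commute.mul_left ?_ (hRpe x hx)
      have hm : c * c * z ∈ D₀ := mul_mem (mul_mem hcD₀ hcD₀) hzD₀
      obtain ⟨i, hi⟩ := h2pow _ (hmem₀.1 hm).1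
      refine hF.commute_of_comm_mem hi ((hiff (lift hm) ⟨x, hRΓ hx⟩ hm hx).1 ?_)
      have : f (lift hm) = 1 := by
        rw [hfh (lift hm) (lift hcD₀ * lift hcD₀ * lift hzD₀) rfl, map_mul, map_mul, hfcc, ← hζdef, hζζ]
      rw [this]; exact Commute.one_left _
    · intro x hx
      refine ((hcRm x hx).mul_left (hcRm x hx)).mul_left (Commute.inv_left ?_)
      refine hF.commute_of_trivial (i := 1) (g := z * e) (by rw [pow_one, pow_two, hze2]) ?_
      rw [show z * e * x * (z * e)⁻¹ = z * (e * x * e⁻¹) * z⁻¹ by group]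
      refine Eqv.trans ?_ (hF.eqv_conj z hx.2)
      have h2 := hF.eqv_inv (hzinv x hx.1)
      rwa [inv_inv, show (z * x * z⁻¹)⁻¹ = z * x⁻¹ * z⁻¹ by group] at h2
  set g := c₀ * c * c₀⁻¹ with hg
  have hgD : g ∈ D := mul_mem (mul_mem hc₀ hcD) (inv_mem hc₀)
  have hgg : g * g = e := by
    rw [hg, show c₀ * c * c₀⁻¹ * (c₀ * c * c₀⁻¹) = c₀ * (c * c) * c₀⁻¹ by group, hcc,
      show c₀ * (z * e) * c₀⁻¹ = (c₀ * z * c₀⁻¹) * (c₀ * e * c₀⁻¹) by group, (hzc c₀ hc₀).eq,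
      mul_inv_cancel_right, hc₀e, hze.eq, ← mul_assoc, hzz, one_mul]
  have hgRp : ∀ x ∈ Rp, Commute g x := by
    intro x hx
    have hx' : c₀⁻¹ * x * c₀ ∈ hF.invSub e := by
      have h' : c₀⁻¹ * x * c₀⁻¹⁻¹ ∈ R := (mem_normalizer_iff.1 (hDR (inv_mem hc₀)) x).1 hx.1
      rw [inv_inv] at h'
      refine ⟨h', ?_⟩
      rw [show (c₀⁻¹ * x * c₀)⁻¹ = c₀⁻¹ * x⁻¹ * c₀⁻¹⁻¹ by group,
        show e * (c₀⁻¹ * x * c₀) * e⁻¹ = c₀⁻¹ * ((c₀ * e * c₀⁻¹) * x * (c₀ * e * c₀⁻¹)⁻¹) * c₀⁻¹⁻¹ by group,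
        hc₀e]
      refine hF.eqv_conj _ ?_
      rw [show e * z * x * (e * z)⁻¹ = e * (z * x * z⁻¹) * e⁻¹ by group]
      refine Eqv.trans ?_ (hF.eqv_conj e (hzinv x hx.1))
      rw [(hRpe x hx).inv_right.eq, mul_inv_cancel_right]
      exact Eqv.refl K _
    have h := (hcRm _ hx').map (MulAut.conj c₀).toMonoidHom
    simpa [hg, mul_assoc] using h
  have hge : Commute g e := hgg ▸ (Commute.refl g).mul_right (Commute.refl g)
  have hcg : Commute c g := by
    refine commutatorElement_eq_one_iff_commute.1 (hfaith2 _ ?_ (fun x hx => ?_) fun x hx => ?_)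
    · rw [commutatorElement_def]
      exact mul_mem (mul_mem (mul_mem hcD hgD) (inv_mem hcD)) (inv_mem hgD)
    · have h1 : Commute (c * g * c⁻¹) x := by
        have h2 := (hgRp _ ((mem_normalizer_iff.1 (hD₀n (inv_mem hcD₀)) x).1 hx)).map
          (MulAut.conj c).toMonoidHom
        simpa [mul_assoc] using h2
      rw [commutatorElement_def]
      exact h1.mul_left (hgRp x hx).inv_left
    · have hxg : g * x * g⁻¹ ∈ hF.invSub e := by
        refine ⟨(mem_normalizer_iff.1 (hDR hgD) x).1 hx.1, ?_⟩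
        have h1 := hF.eqv_conj g hx.2
        rwa [show g * x⁻¹ * g⁻¹ = (g * x * g⁻¹)⁻¹ by group,
          show g * (e * x * e⁻¹) * g⁻¹ = (g * e) * x * (g * e)⁻¹ by group, hge.eq,
          show e * g * x * (e * g)⁻¹ = e * (g * x * g⁻¹) * e⁻¹ by group] at h1
      have h1 : Commute (g * c⁻¹ * g⁻¹) x := by
        have hx'' : g⁻¹ * x * g ∈ hF.invSub e := by
          refine ⟨?_, ?_⟩
          · have := (mem_normalizer_iff.1 (hDR (inv_mem hgD)) x).1 hx.1
            rwa [inv_inv] at this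
          · have h1 := hF.eqv_conj g⁻¹ hx.2
            rwa [inv_inv, show g⁻¹ * x⁻¹ * g = (g⁻¹ * x * g)⁻¹ by group,
              show g⁻¹ * (e * x * e⁻¹) * g = (g⁻¹ * e) * x * (g⁻¹ * e)⁻¹ by group, hge.inv_left.eq,
              show e * g⁻¹ * x * (e * g⁻¹)⁻¹ = e * (g⁻¹ * x * g) * e⁻¹ by group] at h1
        have h2 := ((hcRm _ hx'').inv_left).map (MulAut.conj g).toMonoidHom
        simpa [mul_assoc] using h2
      rw [show ⁅c, g⁆ = c * (g * c⁻¹ * g⁻¹) by rw [commutatorElement_def]; group]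
      exact (hcRm x hx).mul_left h1
  -- the identities
  have hb₀ : c * g⁻¹ ∈ B := by
    rw [show c * g⁻¹ = ⁅c, c₀⁆ by rw [hg, commutatorElement_def]; group, hBdef]
    show ⁅c, c₀⁆ ∈ ⁅dser D 0, dser D 0⁆
    exact commutator_mem_commutator hcD hc₀
  have he'B : z * e ∈ B := mul_mem hzB heB'
  set E := ρ e - 1
  set C := ρ c - 1
  set G' := ρ g - 1
  set E' := ρ (z * e) - 1
  have hsq2 : ∀ a : H, (ρ a - 1) * (ρ a - 1) = ρ (a * a) - 1 := fun a => by
    have hneg : ∀ X : Module.End k W, -X = X := fun X => by rw [← neg_one_smul k X, CharTwo.neg_eq, one_smul]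
    have h2 : ∀ X : Module.End k W, X + X = 0 := fun X => by
      nth_rewrite 2 [← hneg X]; exact add_neg_cancel X
    rw [mul_sub, sub_mul, sub_mul, mul_one, one_mul, ← map_mul, one_mul]
    calc ρ (a * a) - ρ a - (ρ a - 1) = ρ (a * a) - (ρ a + ρ a) + 1 := by abel
      _ = ρ (a * a) - 1 := by
        rw [h2, sub_zero, sub_eq_add_neg (ρ (a * a)) 1, hneg]
  have hC2 : C * C = E' := (hsq2 c).trans (by rw [hcc])
  have hG2 : G' * G' = E := (hsq2 g).trans (by rw [hgg])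
  have hE'2 : E' * E' = 0 := (hsq2 _).trans (by rw [hze2, map_one, sub_self])
  have hzdec : ρ z - 1 = E + ρ e * E' := by
    show ρ z - 1 = ρ e - 1 + ρ e * (ρ (z * e) - 1)
    rw [mul_sub, mul_one, ← map_mul, show e * (z * e) = z by
      rw [← mul_assoc, hze.eq, mul_assoc, hee, mul_one]]
    abel
  have htriple : ∀ b ∈ B, ∀ x ∈ D, (ρ z - 1) * (ρ b - 1) * (ρ x - 1) = 0 := fun b hb x hx =>
    htri rfl z hzA b hb x hx
  have hcomm : ∀ {a b : H}, Commute a b → Commute (ρ a - 1) (ρ b - 1) := fun h =>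
    (rep_sub_one_comm h).sub_right (Commute.one_right _)
  have hEC : Commute E C := hcomm hce.symm
  have hEG : Commute E G' := hcomm hge.symm
  -- `(c - 1) ^ 3 = 0`
  have h31 : E * (C * C * C) = 0 := by
    have h := htriple _ he'B c hcD
    rw [hzdec, add_mul, mul_assoc (ρ e) E', show (ρ (z * e) - 1) = E' from rfl, hE'2, mul_zero, add_zero,
      mul_assoc, ← hC2] at h
    exact h
  have hXR : ∀ {a : H}, (∀ y ∈ hF.invSub e, Commute a y) → ∀ y ∈ hF.invSub e, Commute (ρ a - 1) (ρ y) :=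
    fun h y hy => rep_sub_one_comm (h y hy)
  have hRmne : ∃ x ∈ hF.invSub e, x ∉ K := by
    obtain ⟨x, hx, hxK⟩ := hRpne
    refine ⟨_, hswap1 x hx, fun h => hxK ?_⟩
    have := (hF.central h c₀⁻¹).eq
    rw [show c₀⁻¹ * (c₀ * x * c₀⁻¹) = x * c₀⁻¹ by group] at this
    exact (mul_right_cancel this : x = _) ▸ h
  have hC3 : C * C * C = 0 := by
    refine hF.eq_zero_of_kill_inverted hee heR hRmne ?_ ?_ ?_
    · exact ((rep_sub_one_comm hce).mul_left (rep_sub_one_comm hce)).mul_left (rep_sub_one_comm hce)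
    · exact fun y hy => ((hXR hcRm y hy).mul_left (hXR hcRm y hy)).mul_left (hXR hcRm y hy)
    · rw [← ((hEC.mul_right hEC).mul_right hEC).eq]; exact h31
  have hG3 : G' * G' * G' = 0 := by
    have hconj : G' = ρ c₀ * C * ρ c₀⁻¹ := by
      show ρ (c₀ * c * c₀⁻¹) - 1 = ρ c₀ * (ρ c - 1) * ρ c₀⁻¹
      rw [mul_sub, mul_one, sub_mul, map_mul, map_mul, ← map_mul ρ c₀ c₀⁻¹, mul_inv_cancel, map_one]
    have hii : ρ c₀⁻¹ * ρ c₀ = 1 := by rw [← map_mul, inv_mul_cancel, map_one]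
    rw [hconj]
    calc ρ c₀ * C * ρ c₀⁻¹ * (ρ c₀ * C * ρ c₀⁻¹) * (ρ c₀ * C * ρ c₀⁻¹)
        = ρ c₀ * C * (ρ c₀⁻¹ * ρ c₀) * C * (ρ c₀⁻¹ * ρ c₀) * C * ρ c₀⁻¹ := by simp only [mul_assoc]
      _ = ρ c₀ * (C * C * C) * ρ c₀⁻¹ := by rw [hii]; simp only [mul_one, mul_assoc]
      _ = 0 := by rw [hC3, mul_zero, zero_mul]
  have hgE : ρ g⁻¹ * E = E := by
    have h1 : G' * E = 0 := by rw [← hG2, ← mul_assoc, hG3]
    have h2 : ρ g * E = E := by
      rwa [show G' * E = ρ g * E - E by rw [sub_mul, one_mul], sub_eq_zero] at h1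
    conv_lhs => rw [← h2, ← mul_assoc, ← map_mul, inv_mul_cancel, map_one, one_mul]
  have hfin : E' * E = 0 := by
    have hb0c : Commute c (c * g⁻¹) := (Commute.refl c).mul_right hcg.inv_right
    have h := htriple _ hb₀ c hcD
    rw [hzdec, add_mul, add_mul, mul_assoc (ρ e) E', ← hC2, mul_assoc (ρ e), mul_assoc (C * C),
      ← (hcomm hb0c).eq, ← mul_assoc (C * C) C, hC3, zero_mul, mul_zero, add_zero] at h
    have hEb : Commute E (ρ (c * g⁻¹) - 1) := hcomm (hce.mul_left hge.inv_left).symm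
    rw [mul_assoc, (hEb.mul_right hEC).eq, mul_assoc, ← hEC.eq] at h
    -- on the image of `e - 1` the element `c g⁻¹` acts as `c`
    have h5 : (ρ (c * g⁻¹) - 1) * E = C * E := by
      rw [sub_mul, sub_mul, one_mul, map_mul, mul_assoc, hgE]
    rw [← mul_assoc, h5, mul_assoc, hEC.eq, ← mul_assoc, hC2] at h
    exact h
  have hE' : E' = 0 := by
    refine hF.eq_zero_of_kill_inverted hee heR hRmne ?_ ?_ hfin
    · exact rep_sub_one_comm (hze.mul_right (Commute.refl e)).symm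
    · intro y hy
      rw [← hC2]
      exact (hXR hcRm y hy).mul_left (hXR hcRm y hy)
  have hze1 : z * e = 1 := hF.inj (by rw [map_one]; exact sub_eq_zero.1 hE')
  exact hez (by rw [eq_inv_of_mul_eq_one_right hze1, inv_eq_of_mul_eq_one_left hzz])

end

/-- **The derived term centralizes.** -/
theorem commute_derived : ∀ (n : ℕ) {H : Type u} [Group H] [Finite H] {W : Type w} [AddCommGroup W]
    [Module k W] [Nontrivial W] [FiniteDimensional k W] {ρ : H →* Module.End k W} {r : ℕ}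
    {R K : Subgroup H}, Frame ρ r R K → Nat.card R ≤ n → ∀ (D : Subgroup H) (m : ℕ), IsPGroup 2 D →
      D ≤ normalizer (R : Set H) → m ≤ 1 →
      (m = 0 → ∀ a ∈ dser D 2, ∀ b ∈ dser D 1, ∀ c ∈ D, (ρ a - 1) * (ρ b - 1) * (ρ c - 1) = 0) →
      (∀ a ∈ dser D (m + 2), ∀ b ∈ dser D (m + 1), ∀ b' ∈ dser D (m + 1),
        (ρ a - 1) * (ρ b - 1) * (ρ b' - 1) = 0) →
      ∀ a ∈ dser D (m + 2), ∀ x ∈ R, Commute a x := by
  intro n
  induction n with
  | zero => exact fun _ h => absurd h (Nat.not_le.2 Nat.card_pos)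
  | succ n ih =>
  intro H _ _ W _ _ _ _ ρ r R K hF hn D m hD hDR hm htri hbba
  refine of_frame ρ hF.prime hF.odd (Q := R) (K := K) (D := D) ⊤ top_ne_bot hF.le hF.comm hF.pow
    (fun _ _ _ _ => Submodule.mem_top) (fun _ _ _ _ => Submodule.mem_top)
    (fun x hx => (hF.scalar x hx).imp fun c hc w _ => by rw [hc]; rfl)
    (fun x hx h => hF.nondeg x hx fun y hy => commutatorElement_eq_one_iff_commute.1
      (hF.inj (LinearMap.ext fun w => by rw [map_one]; exact h y hy w Submodule.mem_top))) hD hDR ?_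
  intro G _ _ W₀ _ Γ f ρ₀ hfsurj hRΓ hDΓ _ hval hF₂ hiff hfaith₂
  haveI : FiniteDimensional k W₀ := inferInstance
  set D₂ := (D.subgroupOf Γ).map f with hD₂
  have hdser : ∀ i, dser D₂ i = ((dser D i).subgroupOf Γ).map f := fun i => by
    rw [hD₂, ← dser_map]
    congr 1
    refine map_injective Γ.subtype_injective ?_
    rw [dser_map, map_subgroupOf_eq_of_le hDΓ, map_subgroupOf_eq_of_le ((dser_le D i).trans hDΓ)]
  have hD₂n : D₂ ≤ normalizer (((R.subgroupOf Γ).map f : Subgroup G) : Set G) := by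
    rintro _ ⟨d, hd, rfl⟩
    refine mem_normalizer_fintype ?_
    rintro _ ⟨x, hx, rfl⟩
    exact ⟨d * x * d⁻¹, (mem_normalizer_iff.1 (hDR hd) _).1 hx, by rw [map_mul, map_mul, map_inv]⟩
  have hD₂p : IsPGroup 2 D₂ := (hD.comap_of_injective Γ.subtype Γ.subtype_injective).map f
  have htrans : ∀ (a b c : Γ), (ρ (a : H) - 1) * (ρ (b : H) - 1) * (ρ (c : H) - 1) = 0 →
      (ρ₀ (f a) - 1) * (ρ₀ (f b) - 1) * (ρ₀ (f c) - 1) = 0 := by
    intro a b c h
    refine LinearMap.ext fun w => Subtype.ext ?_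
    have h' := LinearMap.congr_fun h (w : W)
    rw [LinearMap.zero_apply, Submodule.coe_zero]
    rw [LinearMap.zero_apply, Module.End.mul_apply, Module.End.mul_apply] at h'
    simp only [Module.End.mul_apply, LinearMap.sub_apply, Module.End.one_apply, Submodule.coe_sub, hval]
    exact h'
  have hcard : Nat.card ((R.subgroupOf Γ).map f : Subgroup G) ≤ n + 1 := by
    refine le_trans (Nat.card_le_card_of_surjective _ (f.subgroupMap_surjective _)) ?_
    rwa [Nat.card_congr (subgroupOfEquivOfLe hRΓ).toEquiv]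
  have hbot : dser D₂ (m + 2) = ⊥ := by
    refine derived_eq_one hF₂ D₂ hD₂p hD₂n (fun g hg h => ?_) m hm ?_ ?_ fun R' hR' hlt hDn => ?_
    · obtain ⟨d, hd, rfl⟩ := hg
      exact hfaith₂ d hd fun x hx => h _ ⟨x, hx, rfl⟩
    · intro h0 a ha b hb c hc
      rw [hdser] at ha hb
      obtain ⟨a, ha', rfl⟩ := ha
      obtain ⟨b, hb', rfl⟩ := hb
      obtain ⟨c, hc', rfl⟩ := hc
      exact htrans a b c (htri h0 _ ha' _ hb' _ hc')
    · intro a ha b hb c hc
      rw [hdser] at ha hb hc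
      obtain ⟨a, ha', rfl⟩ := ha
      obtain ⟨b, hb', rfl⟩ := hb
      obtain ⟨c, hc', rfl⟩ := hc
      exact htrans a b c (hbba _ ha' _ hb' _ hc')
    · refine ih hR' (by omega) D₂ m hD₂p hDn hm ?_ ?_
      · intro h0 a ha b hb c hc
        rw [hdser] at ha hb
        obtain ⟨a, ha', rfl⟩ := ha
        obtain ⟨b, hb', rfl⟩ := hb
        obtain ⟨c, hc', rfl⟩ := hc
        exact htrans a b c (htri h0 _ ha' _ hb' _ hc')
      · intro a ha b hb c hc
        rw [hdser] at ha hb hc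
        obtain ⟨a, ha', rfl⟩ := ha
        obtain ⟨b, hb', rfl⟩ := hb
        obtain ⟨c, hc', rfl⟩ := hc
        exact htrans a b c (hbba _ ha' _ hb' _ hc')
  intro a ha x hx
  have haD : a ∈ D := dser_le D _ ha
  obtain ⟨i, hi⟩ := hD ⟨a, haD⟩
  refine hF.commute_of_comm_mem (congrArg Subtype.val hi : a ^ 2 ^ i = 1) ((hiff ⟨a, hDΓ haD⟩ ⟨x, hRΓ hx⟩ haD hx).1 ?_)
  have h1 : f ⟨a, hDΓ haD⟩ ∈ dser D₂ (m + 2) := by
    rw [hdser]; exact ⟨⟨a, hDΓ haD⟩, ha, rfl⟩
  rw [hbot, mem_bot] at h1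
  rw [h1]
  exact Commute.one_left _

end CfsgLib.PGroup.DerivedTwo
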