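import Cfsg.Agent.Lib.PGroup.DerivedTwo.Frame
import Mathlib.FieldTheory.Finite.Basic

/-!
# An involution killing `(b - 1)` for a group of operators inverts a plane

`(z - 1)(b - 1) = 0` for all `b ∈ B` and `z ∈ ⁅B, B⁆`: then `B` fixes what `z` fixes, the elements
inverted by `z` form a plane, and any involution commuting with `z` is `±1` on that plane.
-/

set_option autoImplicit false
set_option linter.style.haveILetI false
set_option linter.unusedSectionVars false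

open Subgroup
open scoped commutatorElement

namespace CfsgLib.PGroup.DerivedTwo

universe u v w

variable {H : Type u} [Group H] [Finite H] {k : Type v} [Field k] [IsAlgClosed k] [CharP k 2]
  {W : Type w} [AddCommGroup W] [Module k W] [Nontrivial W] [FiniteDimensional k W]

/-- Commutation of images. -/
theorem commute_rep {ρ : H →* Module.End k W} {a b : H} (h : Commute a b) : Commute (ρ a) (ρ b) := by
  show ρ a * ρ b = ρ b * ρ a
  rw [← map_mul, ← map_mul, h.eq]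

theorem rep_sub_one_comm {ρ : H →* Module.End k W} {a b : H} (h : Commute a b) :
    Commute (ρ a - 1) (ρ b) := (commute_rep h).sub_left (Commute.one_left _)

/-- Two commuting operators have a common eigenvector. -/
theorem exists_common_eigenvector (f g : Module.End k W) (h : Commute f g) :
    ∃ v : W, v ≠ 0 ∧ ∃ α β : k, f v = α • v ∧ g v = β • v := by
  obtain ⟨α, hα⟩ := Module.End.exists_eigenvalue f
  set E := Module.End.eigenspace f α with hE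
  have hmaps : ∀ x ∈ E, g x ∈ E := by
    intro x hx
    rw [hE, Module.End.mem_eigenspace_iff] at hx ⊢
    rw [← Module.End.mul_apply, h.eq, Module.End.mul_apply, hx, map_smul]
  haveI : Nontrivial E := Submodule.nontrivial_iff_ne_bot.2 hα
  obtain ⟨β, hβ⟩ := Module.End.exists_eigenvalue (g.restrict hmaps)
  obtain ⟨v, hv, hv0⟩ := hβ.exists_hasEigenvector
  refine ⟨(v : W), fun e => hv0 (Subtype.ext e), α, β, Module.End.mem_eigenspace_iff.1 v.2, ?_⟩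
  exact congrArg Subtype.val (Module.End.mem_eigenspace_iff.1 hv)

namespace Frame

variable {ρ : H →* Module.End k W} {r : ℕ} {R K : Subgroup H} (hF : Frame ρ r R K)
include hF

/-- Congruences pass to powers. -/
theorem eqv_zpow {x y : H} (h : Eqv K x y) (i : ℤ) : Eqv K (x ^ i) (y ^ i) := by
  obtain ⟨m, hm, rfl⟩ : ∃ m, m ∈ K ∧ y = x * m := ⟨_, h, (mul_inv_cancel_left x y).symm⟩
  rw [(hF.central hm x).mul_zpow]
  exact eqv_mul_right _ (zpow_mem hm i)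

/-- An automorphism that is `±1` at each inverted element is one of them everywhere. -/
theorem sign_uniform {z g : H} (hgR : g ∈ normalizer (R : Set H))
    (h : ∀ y ∈ R, z * y * z⁻¹ = y⁻¹ → Eqv K y (g * y * g⁻¹) ∨ Eqv K y⁻¹ (g * y * g⁻¹)) :
    (∀ y ∈ R, z * y * z⁻¹ = y⁻¹ → Eqv K y (g * y * g⁻¹)) ∨
      (∀ y ∈ R, z * y * z⁻¹ = y⁻¹ → Eqv K y⁻¹ (g * y * g⁻¹)) := by
  by_contra hcon
  push Not at hcon
  obtain ⟨⟨y₂, hy₂, hi₂, hn₂⟩, y₁, hy₁, hi₁, hn₁⟩ := hcon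
  have h₁ := (h y₁ hy₁ hi₁).resolve_right hn₁
  have h₂ := (h y₂ hy₂ hi₂).resolve_left hn₂
  obtain ⟨m, hm, e⟩ := hF.exists_inverted (z := z) (x := y₁ * y₂) (by
    rw [show z * (y₁ * y₂) * z⁻¹ = (z * y₁ * z⁻¹) * (z * y₂ * z⁻¹) by group, hi₁, hi₂]
    show (y₁ * y₂)⁻¹⁻¹ * (y₁⁻¹ * y₂⁻¹) ∈ K
    rw [inv_inv, show y₁ * y₂ * (y₁⁻¹ * y₂⁻¹) = ⁅y₁, y₂⁆ by rw [commutatorElement_def]; group]
    exact hF.comm _ hy₁ _ hy₂)
  have hy₃ := mul_mem (mul_mem hy₁ hy₂) (hF.le hm)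
  have hmid : Eqv K (y₁ * y₂⁻¹) (g * (y₁ * y₂ * m) * g⁻¹) := by
    refine (hF.eqv_mul h₁ h₂).trans ?_
    rw [show g * (y₁ * y₂ * m) * g⁻¹ = g * y₁ * g⁻¹ * (g * y₂ * g⁻¹) * (g * m * g⁻¹) by group,
      (hF.central hm g).eq, mul_inv_cancel_right]
    exact eqv_mul_right _ hm
  rcases h _ hy₃ e with h₃ | h₃
  · -- then `y₂ ≡ y₂⁻¹`
    have h4 : Eqv K (y₁ * y₂) (y₁ * y₂⁻¹) := ((eqv_mul_right _ hm).trans h₃).trans hmid.symm
    refine hn₂ (Eqv.trans ?_ h₂)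
    have h5 := hF.eqv_mul (Eqv.refl K y₁⁻¹) h4
    rwa [inv_mul_cancel_left, inv_mul_cancel_left] at h5
  · have h4 : Eqv K (y₂⁻¹ * y₁⁻¹) (y₁ * y₂⁻¹) := by
      refine Eqv.trans ?_ (h₃.trans hmid.symm)
      rw [← mul_inv_rev]
      exact hF.eqv_inv (eqv_mul_right _ hm)
    have h6 : Eqv K (y₁⁻¹ * y₂⁻¹) (y₂⁻¹ * y₁⁻¹) := by
      show (y₁⁻¹ * y₂⁻¹)⁻¹ * (y₂⁻¹ * y₁⁻¹) ∈ K
      rw [show (y₁⁻¹ * y₂⁻¹)⁻¹ * (y₂⁻¹ * y₁⁻¹) = ⁅y₂, y₁⁆ by rw [commutatorElement_def]; group]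
      exact hF.comm _ hy₂ _ hy₁
    have h5 := hF.eqv_mul (h6.trans h4) (Eqv.refl K y₂)
    rw [inv_mul_cancel_right, inv_mul_cancel_right] at h5
    exact hn₁ (h5.trans h₁)

/-- An automorphism whose square is trivial on an element pairs it trivially with its image. -/
theorem commute_image {g y : H} (hgR : g ∈ normalizer (R : Set H)) (hy : y ∈ R)
    (h : Eqv K y (g * g * y * (g * g)⁻¹)) : Commute y (g * y * g⁻¹) := by
  have hx : g * y * g⁻¹ ∈ R := (mem_normalizer_iff.1 hgR y).1 hy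
  have h1 : ⁅g * y * g⁻¹, y⁆ = ⁅y, g * y * g⁻¹⁆ := by
    conv_rhs => rw [← hF.comm_conj g hy hx]
    refine hF.comm_congr (Eqv.refl K _) ?_
    rw [show g * (g * y * g⁻¹) * g⁻¹ = g * g * y * (g * g)⁻¹ by group]
    exact h
  refine commutatorElement_eq_one_iff_commute.1 (hF.mul_self_eq_one (hF.comm y hy _ hx) ?_)
  nth_rewrite 1 [← h1]
  rw [← commutatorElement_inv y, inv_mul_cancel]

section

variable {z : H} (hzz : z * z = 1) (hzR : z ∈ normalizer (R : Set H)) (hz : ∃ x ∈ R, ¬ Commute z x)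
  (B : Subgroup H) (hBR : B ≤ normalizer (R : Set H)) (hBz : ∀ b ∈ B, Commute b z)
  (hop : ∀ b ∈ B, (ρ z - 1) * (ρ b - 1) = 0)
include hzz hzR hz hBR hBz hop

theorem sub_one_mul_rep {b : H} (hb : b ∈ B) : (ρ z - 1) * ρ b = ρ z - 1 := by
  have := hop b hb
  rwa [mul_sub, mul_one, sub_eq_zero] at this

/-- `B` fixes modulo `K` the elements fixed by `z`. -/
theorem fix_of {b : H} (hb : b ∈ B) {y : H} (hy : y ∈ R) (hyz : Commute z y) :
    Eqv K y (b * y * b⁻¹) := by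
  set x := b * y * b⁻¹ with hx
  have hxR : x ∈ R := (mem_normalizer_iff.1 (hBR hb) y).1 hy
  have hzb : Commute z b := (hBz b hb).symm
  have hxz : Commute z x := (hzb.mul_right hyz).mul_right hzb.inv_right
  have hqz : Commute z (y⁻¹ * x) := hyz.inv_right.mul_right hxz
  have hkill : (ρ z - 1) * (ρ (y⁻¹ * x) - 1) = 0 := by
    have h2 : (ρ z - 1) * ρ y⁻¹ = ρ y⁻¹ * (ρ z - 1) := rep_sub_one_comm hyz.inv_right
    have h3 : (ρ z - 1) * ρ y = ρ y * (ρ z - 1) := rep_sub_one_comm hyz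
    have hb' := hF.sub_one_mul_rep hzz hzR hz B hBR hBz hop hb
    have hb'' := hF.sub_one_mul_rep hzz hzR hz B hBR hBz hop (inv_mem hb)
    rw [mul_sub, mul_one, sub_eq_zero, map_mul, ← mul_assoc, h2, mul_assoc, hx, map_mul, map_mul,
      ← mul_assoc (ρ z - 1), ← mul_assoc (ρ z - 1), hb', h3, mul_assoc (ρ y), hb'', ← mul_assoc,
      ← map_mul, inv_mul_cancel, map_one, one_mul]
  by_contra hne
  have hqR : y⁻¹ * x ∈ R := mul_mem (inv_mem hy) hxR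
  obtain ⟨w, hw, hqw⟩ : ∃ w ∈ R, ¬ Commute (y⁻¹ * x) w := by
    by_contra h
    push Not at h
    exact hne (hF.nondeg _ hqR h)
  set w' := z * w * z⁻¹ with hw'
  have hw'R : w' ∈ R := (mem_normalizer_iff.1 hzR w).1 hw
  have hzw : Commute z (w * w') := by
    refine hF.commute_of_trivial (i := 1) (by rw [pow_one, pow_two, hzz]) ?_
    rw [show z * (w * w') * z⁻¹ = w' * (z * z * w * (z * z)⁻¹) by rw [hw']; group, hzz, one_mul, inv_one,
      mul_one]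
    show (w * w')⁻¹ * (w' * w) ∈ K
    rw [show (w * w')⁻¹ * (w' * w) = ⁅w'⁻¹, w⁻¹⁆ by simp only [commutatorElement_def]; group]
    exact hF.comm _ (inv_mem hw'R) _ (inv_mem hw)
  have hne2 : ¬ Commute (y⁻¹ * x) (w * w') := by
    rw [← commutatorElement_eq_one_iff_commute, hF.comm_mul_right hqR hw hw'R]
    have e : ⁅y⁻¹ * x, w'⁆ = ⁅y⁻¹ * x, w⁆ := by
      conv_rhs => rw [← hF.comm_conj z hqR hw, hqz.eq, mul_inv_cancel_right]
    rw [e]
    exact fun h1 => hqw (commutatorElement_eq_one_iff_commute.1 (hF.mul_self_eq_one (hF.comm _ hqR _ hw) h1))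
  have h0 := hF.eq_zero_of_kill hqR (mul_mem hw hw'R) hne2 hkill (rep_sub_one_comm hzw)
  have hz1 : z = 1 := hF.inj (by rw [map_one]; exact sub_eq_zero.1 h0)
  obtain ⟨x', -, hx'⟩ := hz
  exact hx' (hz1 ▸ Commute.one_left x')

/-- An inverted element commuting with its image is sent to itself or to its inverse. -/
theorem pair_of {b : H} (hb : b ∈ B) {y : H} (hy : y ∈ R) (hyz : z * y * z⁻¹ = y⁻¹)
    (hxy : Commute y (b * y * b⁻¹)) :
    Eqv K y (b * y * b⁻¹) ∨ Eqv K y⁻¹ (b * y * b⁻¹) := by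
  set x := b * y * b⁻¹ with hx
  have hxR : x ∈ R := (mem_normalizer_iff.1 (hBR hb) y).1 hy
  have hzi : z⁻¹ = z := inv_eq_of_mul_eq_one_left hzz
  have hzb : Commute z b := (hBz b hb).symm
  have hxz : z * x * z⁻¹ = x⁻¹ := by
    rw [hx, show z * (b * y * b⁻¹) * z⁻¹ = (z * b) * y * (z * b)⁻¹ by group, hzb.eq,
      show b * z * y * (b * z)⁻¹ = b * (z * y * z⁻¹) * b⁻¹ by group, hyz]
    group
  have hflip : ∀ a : H, z * a * z⁻¹ = a⁻¹ → z * a = a⁻¹ * z ∧ z * a⁻¹ = a * z := by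
    intro a ha
    refine ⟨mul_inv_eq_iff_eq_mul.1 ha, mul_inv_eq_iff_eq_mul.1 ?_⟩
    rw [show z * a⁻¹ * z⁻¹ = (z * a * z⁻¹)⁻¹ by group, ha, inv_inv]
  have hsig : ∀ a : H, z * a * z⁻¹ = a⁻¹ → Commute (ρ z - 1) (ρ a + ρ a⁻¹) := by
    intro a ha
    refine Commute.sub_left ?_ (Commute.one_left _)
    show ρ z * (ρ a + ρ a⁻¹) = (ρ a + ρ a⁻¹) * ρ z
    rw [mul_add, add_mul, ← map_mul, ← map_mul, ← map_mul, ← map_mul, (hflip a ha).1, (hflip a ha).2,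
      add_comm]
  have hkill : ((ρ x + ρ x⁻¹) - (ρ y + ρ y⁻¹)) * (ρ z - 1) = 0 := by
    rw [sub_mul, sub_eq_zero, ← (hsig x hxz).eq, ← (hsig y hyz).eq, hx]
    have e : ρ (b * y * b⁻¹) + ρ (b * y * b⁻¹)⁻¹ = ρ b * (ρ y + ρ y⁻¹) * ρ b⁻¹ := by
      rw [show (b * y * b⁻¹)⁻¹ = b * y⁻¹ * b⁻¹ by group, map_mul, map_mul, map_mul ρ (b * y⁻¹), map_mul ρ b,
        mul_add, add_mul]
    rw [e, ← mul_assoc, ← mul_assoc, hF.sub_one_mul_rep hzz hzR hz B hBR hBz hop hb, (hsig y hyz).eq,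
      mul_assoc, hF.sub_one_mul_rep hzz hzR hz B hBR hBz hop (inv_mem hb)]
  set q₁ := x * y⁻¹ with hq₁
  set q₂ := x * y with hq₂
  by_contra hne
  push Not at hne
  have hq₁R : q₁ ∈ R := mul_mem hxR (inv_mem hy)
  have hq₂R : q₂ ∈ R := mul_mem hxR hy
  have hq₁K : q₁ ∉ K := fun h => hne.1 (by
    show y⁻¹ * x ∈ K
    rwa [hxy.inv_left.eq])
  have hq₂K : q₂ ∉ K := fun h => hne.2 (by
    show y⁻¹⁻¹ * x ∈ K
    rwa [inv_inv, hxy.eq])
  have hq12 : Commute q₁ q₂ :=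
    ((Commute.refl x).mul_right hxy.symm).mul_left (hxy.inv_left.mul_right (Commute.refl y).inv_left)
  have hfac : (ρ q₁ - 1) * (ρ q₂ - 1) * (ρ z - 1) = 0 := by
    have e : (ρ q₁ - 1) * (ρ q₂ - 1) = ρ x * ((ρ x + ρ x⁻¹) - (ρ y + ρ y⁻¹)) := by
      have hyx : y⁻¹ * (x * y) = x := by rw [← hxy.eq, inv_mul_cancel_left]
      rw [mul_sub (ρ x), mul_add, mul_add, ← map_mul, ← map_mul, ← map_mul, ← map_mul, mul_inv_cancel,
        map_one, sub_mul, mul_sub, mul_one, one_mul, ← map_mul, hq₁, hq₂, mul_assoc x, hyx]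
      abel
    rw [e, mul_assoc, hkill, mul_zero]
  -- a common eigenvector off the eigenvalue one
  have hc : ∀ q ∈ R, ∀ w ∈ R, ¬ Commute q w → ∃ c : k, c ≠ 1 ∧
      ρ q * ρ w = c • (ρ w * ρ q) := by
    intro q hq w hw hqw
    obtain ⟨c, hc⟩ := hF.scalar _ (hF.comm q hq w hw)
    refine ⟨c, fun e => hqw (commutatorElement_eq_one_iff_commute.1 (hF.inj ?_)), ?_⟩
    · rw [hc, e, one_smul, map_one]
    · rw [← map_mul, ← map_mul, show q * w = ⁅q, w⁆ * (w * q) by rw [commutatorElement_def]; group,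
        map_mul ρ ⁅q, w⁆, hc, smul_mul_assoc, one_mul]
  obtain ⟨w, hw, hw₁, hw₂⟩ : ∃ w ∈ R, ¬ Commute q₁ w ∧ ¬ Commute q₂ w := by
    have h₁ : ∃ w ∈ R, ¬ Commute q₁ w := by
      by_contra h; push Not at h; exact hq₁K (hF.nondeg _ hq₁R h)
    have h₂ : ∃ w ∈ R, ¬ Commute q₂ w := by
      by_contra h; push Not at h; exact hq₂K (hF.nondeg _ hq₂R h)
    obtain ⟨w₁, hw₁, e₁⟩ := h₁
    obtain ⟨w₂, hw₂, e₂⟩ := h₂
    by_cases f₁ : Commute q₂ w₁
    swap; · exact ⟨w₁, hw₁, e₁, f₁⟩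
    by_cases f₂ : Commute q₁ w₂
    swap; · exact ⟨w₂, hw₂, f₂, e₂⟩
    refine ⟨w₁ * w₂, mul_mem hw₁ hw₂, fun h => e₁ ?_, fun h => e₂ ?_⟩
    · rw [← mul_inv_cancel_right w₁ w₂]; exact h.mul_right f₂.inv_right
    · rw [← inv_mul_cancel_left w₁ w₂]; exact f₁.inv_right.mul_right h
  obtain ⟨c₁, hc₁, e₁⟩ := hc q₁ hq₁R w hw hw₁
  obtain ⟨c₂, hc₂, e₂⟩ := hc q₂ hq₂R w hw hw₂
  obtain ⟨v₀, hv₀, α, β, hα, hβ⟩ := exists_common_eigenvector _ _ (commute_rep (ρ := ρ) hq12)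
  have hα0 : α ≠ 0 := fun e => hv₀ (rep_injective ρ q₁ (by rw [hα, e, zero_smul, map_zero]))
  have hβ0 : β ≠ 0 := fun e => hv₀ (rep_injective ρ q₂ (by rw [hβ, e, zero_smul, map_zero]))
  have hshift : ∀ (q : H) (c : k), ρ q * ρ w = c • (ρ w * ρ q) → ∀ (i : ℕ) (γ : k), ρ q v₀ = γ • v₀ →
      ρ q (ρ (w ^ i) v₀) = (c ^ i * γ) • ρ (w ^ i) v₀ := by
    intro q c hcq i γ hγ
    induction i with
    | zero => rw [pow_zero, map_one, Module.End.one_apply, pow_zero, one_mul, hγ]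
    | succ i ih =>
      rw [pow_succ', rep_mul_apply, ← Module.End.mul_apply, hcq, LinearMap.smul_apply, Module.End.mul_apply,
        ih, map_smul, smul_smul, pow_succ', mul_assoc]
  have hsq : ∀ {c : k}, c * c = 1 → c = 1 := fun {c} h => by
    rcases mul_self_eq_one_iff.1 h with e | e
    · exact e
    · rw [e, CharTwo.neg_eq]
  have hpick : ∀ {c γ : k}, c ≠ 1 → γ ≠ 0 →
      ¬ (c ^ 0 * γ = 1 ∧ c ^ 1 * γ = 1) ∧ ¬ (c ^ 0 * γ = 1 ∧ c ^ 2 * γ = 1) ∧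
        ¬ (c ^ 1 * γ = 1 ∧ c ^ 2 * γ = 1) := by
    intro c γ hc hγ
    have hc0 : ∀ {a : k}, a * γ = 1 → a ≠ 0 := fun h e => by rw [e, zero_mul] at h; exact zero_ne_one h
    refine ⟨fun h => hc ?_, fun h => hc (hsq ?_), fun h => hc ?_⟩
    · have := mul_right_cancel₀ hγ (h.2.trans h.1.symm); simpa using this
    · have := mul_right_cancel₀ hγ (h.2.trans h.1.symm); simpa [pow_two] using this
    · have := mul_right_cancel₀ hγ (h.2.trans h.1.symm)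
      rw [pow_one, pow_two] at this
      exact mul_right_eq_self₀.1 this |>.resolve_right (by simpa using hc0 h.1)
  obtain ⟨i, hiα, hiβ⟩ : ∃ i : ℕ, c₁ ^ i * α ≠ 1 ∧ c₂ ^ i * β ≠ 1 := by
    obtain ⟨a1, a2, a3⟩ := hpick hc₁ hα0
    obtain ⟨b1, b2, b3⟩ := hpick hc₂ hβ0
    by_contra h
    push Not at h
    have h0 := h 0; have h1 := h 1; have h2 := h 2
    by_cases p0 : c₁ ^ 0 * α = 1 <;> by_cases p1 : c₁ ^ 1 * α = 1 <;> by_cases p2 : c₁ ^ 2 * α = 1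
    all_goals first
      | exact a1 ⟨p0, p1⟩ | exact a2 ⟨p0, p2⟩ | exact a3 ⟨p1, p2⟩
      | exact b1 ⟨h0 p0, h1 p1⟩ | exact b2 ⟨h0 p0, h2 p2⟩ | exact b3 ⟨h1 p1, h2 p2⟩
  set v := ρ (w ^ i) v₀ with hv
  set a := c₁ ^ i * α
  set b' := c₂ ^ i * β
  have hv0 : v ≠ 0 := fun e => hv₀ (rep_injective ρ (w ^ i) (by rw [map_zero]; exact e))
  have hq₁v : ρ q₁ v = a • v := hshift q₁ c₁ e₁ i α hα
  have hq₂v : ρ q₂ v = b' • v := hshift q₂ c₂ e₂ i β hβ
  have hinvv : ∀ (q : H) (t : k), z * q * z⁻¹ = q⁻¹ → ρ q v = t • v → t ≠ 0 →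
      ρ q (ρ z v) = t⁻¹ • ρ z v := by
    intro q t hq ht ht0
    have hvq : ρ q⁻¹ v = t⁻¹ • v := by
      refine rep_injective ρ q ?_
      rw [← rep_mul_apply, mul_inv_cancel, map_one, Module.End.one_apply, map_smul, ht, smul_smul,
        inv_mul_cancel₀ ht0, one_smul]
    rw [← rep_mul_apply, show q * z = z * q⁻¹ from ((hflip q hq).2).symm, rep_mul_apply, hvq, map_smul]
  have hzq₁ : z * q₁ * z⁻¹ = q₁⁻¹ := by
    rw [hq₁, show z * (x * y⁻¹) * z⁻¹ = (z * x * z⁻¹) * (z * y * z⁻¹)⁻¹ by group, hxz, hyz, inv_inv,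
      show (x * y⁻¹)⁻¹ = y * x⁻¹ by group, hxy.inv_right.eq]
  have hzq₂ : z * q₂ * z⁻¹ = q₂⁻¹ := by
    rw [hq₂, show z * (x * y) * z⁻¹ = (z * x * z⁻¹) * (z * y * z⁻¹) by group, hxz, hyz, ← mul_inv_rev,
      hxy.eq]
  have ha0 : a ≠ 0 := fun e => hv0 (rep_injective ρ q₁ (by rw [hq₁v, e, zero_smul, map_zero]))
  have hb0 : b' ≠ 0 := fun e => hv0 (rep_injective ρ q₂ (by rw [hq₂v, e, zero_smul, map_zero]))
  have hzero := LinearMap.congr_fun hfac v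
  rw [Module.End.mul_apply, Module.End.mul_apply, LinearMap.zero_apply] at hzero
  have hcalc : ∀ (u : W) (s t : k), ρ q₁ u = s • u → ρ q₂ u = t • u →
      (ρ q₁ - 1) ((ρ q₂ - 1) u) = ((t - 1) * (s - 1)) • u := by
    intro u s t hs ht
    rw [LinearMap.sub_apply (ρ q₂), Module.End.one_apply, ht, show t • u - u = (t - 1) • u by rw [sub_smul, one_smul], map_smul,
      LinearMap.sub_apply, Module.End.one_apply, hs, show s • u - u = (s - 1) • u by rw [sub_smul, one_smul], smul_smul]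
  rw [show (ρ z - 1 : Module.End k W) v = ρ z v - v from rfl, map_sub, map_sub,
    hcalc _ _ _ (hinvv q₁ a hzq₁ hq₁v ha0) (hinvv q₂ b' hzq₂ hq₂v hb0), hcalc v a b' hq₁v hq₂v,
    sub_eq_zero] at hzero
  have hne' : (b'⁻¹ - 1) * (a⁻¹ - 1) ≠ 0 := mul_ne_zero
    (sub_ne_zero.2 fun e => hiβ (inv_eq_one.1 e)) (sub_ne_zero.2 fun e => hiα (inv_eq_one.1 e))
  have hdep : ρ z v = (((b'⁻¹ - 1) * (a⁻¹ - 1))⁻¹ * ((b' - 1) * (a - 1))) • v := by
    rw [mul_smul, ← hzero, smul_smul, inv_mul_cancel₀ hne', one_smul]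
  have h6 := hinvv q₁ a hzq₁ hq₁v ha0
  rw [hdep, map_smul, hq₁v, smul_smul, smul_smul] at h6
  have h7 := smul_left_injective k hv0 h6
  rw [mul_comm (a⁻¹)] at h7
  have h8 : a = a⁻¹ := mul_left_cancel₀ (mul_ne_zero (inv_ne_zero hne') (mul_ne_zero
    (sub_ne_zero.2 hiβ) (sub_ne_zero.2 hiα))) h7
  exact hiα (hsq (by nth_rewrite 2 [h8]; exact mul_inv_cancel₀ ha0))

/-- An element of `B` with square trivial on the plane is `±1` there. -/
theorem sign_of_sq {b : H} (hb : b ∈ B)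
    (h : ∀ y ∈ R, z * y * z⁻¹ = y⁻¹ → Eqv K y (b * b * y * (b * b)⁻¹)) :
    (∀ y ∈ R, z * y * z⁻¹ = y⁻¹ → Eqv K y (b * y * b⁻¹)) ∨
      (∀ y ∈ R, z * y * z⁻¹ = y⁻¹ → Eqv K y⁻¹ (b * y * b⁻¹)) :=
  hF.sign_uniform (z := z) (hBR hb) fun y hy hyz =>
    hF.pair_of hzz hzR hz B hBR hBz hop hb hy hyz (hF.commute_image (hBR hb) hy (h y hy hyz))

variable (hzB : z ∈ ⁅B, B⁆) (hB2 : IsPGroup 2 B)
include hzB hB2

theorem exists_minus_square :
    ∃ b ∈ B, ∀ y ∈ R, z * y * z⁻¹ = y⁻¹ → Eqv K y⁻¹ (b * b * y * (b * b)⁻¹) := by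
  classical
  let Sq : H → Prop := fun b => ∀ y ∈ R, z * y * z⁻¹ = y⁻¹ → Eqv K y (b * b * y * (b * b)⁻¹)
  by_cases hall : ∀ b ∈ B, Sq b
  · exfalso
    -- signs
    let Act : H → ℤ → Prop := fun g e => ∀ y ∈ R, z * y * z⁻¹ = y⁻¹ → Eqv K (y ^ e) (g * y * g⁻¹)
    have hmul : ∀ {g h : H} {e e' : ℤ}, (e' = 1 ∨ e' = -1) → Act g e → Act h e' → Act (g * h) (e * e') := by
      intro g h e e' he' hg hh y hy hyz
      rw [show g * h * y * (g * h)⁻¹ = g * (h * y * h⁻¹) * g⁻¹ by group]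
      refine Eqv.trans ?_ (hF.eqv_conj g (hh y hy hyz))
      rw [zpow_mul, ← conj_zpow]
      rcases he' with rfl | rfl
      · rw [zpow_one, zpow_one]; exact hg y hy hyz
      · rw [zpow_neg_one, zpow_neg_one]; exact hF.eqv_inv (hg y hy hyz)
    have hinv : ∀ {g : H} {e : ℤ}, (e = 1 ∨ e = -1) → Act g e → Act g⁻¹ e := by
      intro g e he hg y hy hyz
      have h1 := hF.eqv_conj g⁻¹ (hg y hy hyz)
      rw [show g⁻¹ * (g * y * g⁻¹) * g⁻¹⁻¹ = y by group] at h1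
      rcases he with rfl | rfl
      · rw [zpow_one] at h1 ⊢
        exact h1.symm
      · rw [zpow_neg_one, show g⁻¹ * y⁻¹ * g⁻¹⁻¹ = (g⁻¹ * y * g⁻¹⁻¹)⁻¹ by group] at h1
        rw [zpow_neg_one]
        have h2 := hF.eqv_inv h1
        rw [inv_inv] at h2
        exact h2.symm
    have hsgn : ∀ b ∈ B, ∃ e : ℤ, (e = 1 ∨ e = -1) ∧ Act b e := by
      intro b hb
      rcases hF.sign_of_sq hzz hzR hz B hBR hBz hop hb (hall b hb) with h | h
      · exact ⟨1, Or.inl rfl, fun y hy hyz => by rw [zpow_one]; exact h y hy hyz⟩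
      · exact ⟨-1, Or.inr rfl, fun y hy hyz => by rw [zpow_neg_one]; exact h y hy hyz⟩
    let M : Subgroup H :=
      { carrier := {g | Act g 1}
        one_mem' := fun y _ _ => by rw [zpow_one, one_mul, inv_one, mul_one]; exact Eqv.refl K y
        mul_mem' := fun {g h} hg hh => by
          have := hmul (Or.inl rfl) hg hh
          rwa [one_mul] at this
        inv_mem' := fun {g} hg => hinv (Or.inl rfl) hg }
    have hle : ⁅B, B⁆ ≤ M := by
      rw [commutator_le]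
      intro a ha b hb
      obtain ⟨ea, hea, hAa⟩ := hsgn a ha
      obtain ⟨eb, heb, hAb⟩ := hsgn b hb
      have h4 := hmul heb (hmul hea (hmul heb hAa hAb) (hinv hea hAa)) (hinv heb hAb)
      rw [show ea * eb * ea * eb = 1 by rcases hea with rfl | rfl <;> rcases heb with rfl | rfl <;> rfl] at h4
      rw [commutatorElement_def]
      exact h4
    obtain ⟨x, hx, hxc⟩ := hz
    refine hxc (mem_centralizer_singleton_iff.1 (hF.split hzz hzR (centralizer ({z} : Set H)) ?_ ?_ ?_ hx)).symm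
    · exact fun m hm => mem_centralizer_singleton_iff.2 (hF.central hm z).symm
    · exact fun y _ hyz => mem_centralizer_singleton_iff.2 hyz.symm
    · intro y hy hyz
      have h1 := hle hzB y hy hyz
      rw [zpow_one, hyz] at h1
      have h2 : y * y ∈ K := by
        have := inv_mem (show y⁻¹ * y⁻¹ ∈ K from h1)
        rwa [mul_inv_rev, inv_inv] at this
      refine mem_centralizer_singleton_iff.2 (hF.central ?_ z).symm
      obtain ⟨t, ht⟩ := hF.prime.odd_of_ne_two hF.odd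
      have h3 := hF.pow y hy
      rw [ht, pow_succ, pow_mul, pow_two] at h3
      have := mul_mem (inv_mem (pow_mem h2 t)) h3
      rwa [inv_mul_cancel_left] at this
  · push Not at hall
    obtain ⟨b₀, hb₀, hbad⟩ := hall
    obtain ⟨n, hn⟩ := hB2 ⟨b₀, hb₀⟩
    replace hn : b₀ ^ 2 ^ n = 1 := congrArg Subtype.val hn
    clear hzB
    induction n generalizing b₀ with
    | zero =>
      rw [pow_zero, pow_one] at hn
      refine absurd (fun y _ _ => ?_) hbad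
      rw [hn, one_mul, one_mul, inv_one, mul_one]
      exact Eqv.refl K y
    | succ n ih =>
      by_cases h2 : Sq (b₀ * b₀)
      · rcases hF.sign_of_sq hzz hzR hz B hBR hBz hop (mul_mem hb₀ hb₀) h2 with h | h
        · exact absurd h hbad
        · exact ⟨b₀, hb₀, h⟩
      · exact ih (b₀ * b₀) (mul_mem hb₀ hb₀) h2 (by rw [← pow_two, ← pow_mul, ← pow_succ', hn])

/-- A base for the plane: an inverted element outside `K` and its image. -/
theorem plane {b : H} (hb : b ∈ B) (hmin : ∀ y ∈ R, z * y * z⁻¹ = y⁻¹ → Eqv K y⁻¹ (b * b * y * (b * b)⁻¹))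
    {y : H} (hy : y ∈ R) (hyz : z * y * z⁻¹ = y⁻¹) (hyK : y ∉ K) :
    ∀ u ∈ R, z * u * z⁻¹ = u⁻¹ → Commute u y → ∃ i : ℤ, Eqv K (y ^ i) u := by
  classical
  haveI := Fact.mk hF.prime
  set x := b * y * b⁻¹ with hx
  have hxR : x ∈ R := (mem_normalizer_iff.1 (hBR hb) y).1 hy
  have hzi : ∀ a : H, z * a * z⁻¹ = a⁻¹ → z * (b * a * b⁻¹) * z⁻¹ = (b * a * b⁻¹)⁻¹ := by
    intro a ha
    rw [show z * (b * a * b⁻¹) * z⁻¹ = (z * b) * a * (z * b)⁻¹ by group, ((hBz b hb).symm).eq,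
      show b * z * a * (b * z)⁻¹ = b * (z * a * z⁻¹) * b⁻¹ by group, ha]
    group
  have hxz := hzi y hyz
  have hsqK : ∀ a ∈ R, a * a ∈ K → a ∈ K := by
    intro a ha h2
    obtain ⟨t, ht⟩ := hF.prime.odd_of_ne_two hF.odd
    have h3 := hF.pow a ha
    rw [ht, pow_succ, pow_mul, pow_two] at h3
    have := mul_mem (inv_mem (pow_mem h2 t)) h3
    rwa [inv_mul_cancel_left] at this
  -- elements paired trivially with their image are in `K`
  have hkey : ∀ v ∈ R, z * v * z⁻¹ = v⁻¹ → Commute v (b * v * b⁻¹) → v ∈ K := by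
    intro v hv hvz hc
    refine hsqK v hv ?_
    have hfix : Eqv K v (b * b * v * (b * b)⁻¹) := by
      rw [show b * b * v * (b * b)⁻¹ = b * (b * v * b⁻¹) * b⁻¹ by group]
      rcases hF.pair_of hzz hzR hz B hBR hBz hop hb hv hvz hc with h | h
      · exact h.trans (hF.eqv_conj b h)
      · have h' := hF.eqv_inv h
        rw [inv_inv, show (b * v * b⁻¹)⁻¹ = b * v⁻¹ * b⁻¹ by group] at h'
        exact h'.trans (hF.eqv_conj b h)
    have := hfix.trans (hmin v hv hvz).symm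
    have h2 := inv_mem (show v⁻¹ * v⁻¹ ∈ K from this)
    rwa [mul_inv_rev, inv_inv] at h2
  set c := ⁅y, x⁆ with hc
  have hcK : c ∈ K := hF.comm y hy x hxR
  have hc1 : c ≠ 1 := fun e => hyK (hkey y hy hyz (commutatorElement_eq_one_iff_commute.1 e))
  have hcr : c ^ r = 1 := hF.comm_pow_eq_one hy hxR
  have hroot : ∀ u ∈ R, ∀ v ∈ R, ∃ i : ℤ, ⁅u, v⁆ = c ^ i := fun u hu v hv =>
    (mem_zpowers_iff.1 (hF.mem_zpowers_of_root hcK (hF.comm u hu v hv) hc1 hcr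
      (hF.comm_pow_eq_one hu hv))).imp fun _ h => h.symm
  have hxy : ⁅x, y⁆ = c⁻¹ := (commutatorElement_inv y x).symm
  have hbx : Eqv K y⁻¹ (b * x * b⁻¹) := by
    rw [hx, show b * (b * y * b⁻¹) * b⁻¹ = b * b * y * (b * b)⁻¹ by group]
    exact hmin y hy hyz
  intro u hu huz huy
  obtain ⟨j, hj⟩ := hroot u hu x hxR
  -- make `u` commute with both
  obtain ⟨m, hm, hmz⟩ := hF.exists_inverted (z := z) (x := u * y ^ (-j)) (by
    rw [show z * (u * y ^ (-j)) * z⁻¹ = (z * u * z⁻¹) * (z * y * z⁻¹) ^ (-j) by rw [conj_zpow]; group, huz, hyz,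
      inv_zpow, mul_inv_rev, ((huy.zpow_right (-j)).inv_inv).eq]
    exact Eqv.refl K _)
  set u' := u * y ^ (-j) * m with hu'
  have hu₀R : u * y ^ (-j) ∈ R := mul_mem hu (zpow_mem hy _)
  have hu'R : u' ∈ R := mul_mem hu₀R (hF.le hm)
  have hu'y : Commute u' y := (huy.mul_left ((Commute.refl y).zpow_left _)).mul_left (hF.central hm y).symm
  have hu'x : ⁅u', x⁆ = 1 := by
    rw [hu', hF.comm_congr (eqv_mul_right (u * y ^ (-j)) hm).symm (Eqv.refl K x), hF.comm_mul_left hu (zpow_mem hy _) hxR,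
      hF.comm_zpow_left hy hxR, hj, ← zpow_add, add_neg_cancel, zpow_zero]
  by_cases hu'K : u' ∈ K
  · refine ⟨j, ?_⟩
    have h1 : Eqv K (u * y ^ (-j)) 1 := (eqv_mul_right _ hm).trans (eqv_one_iff.2 hu'K)
    have h2 := hF.eqv_mul h1 (Eqv.refl K (y ^ j))
    rw [zpow_neg, inv_mul_cancel_right, one_mul] at h2
    exact h2.symm
  exfalso
  set x' := b * u' * b⁻¹ with hx'
  have hx'R : x' ∈ R := (mem_normalizer_iff.1 (hBR hb) u').1 hu'R
  have hux : Commute u' x := commutatorElement_eq_one_iff_commute.1 hu'x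
  have hx'x : Commute x' x := hu'y.map (MulAut.conj b).toMonoidHom
  have hx'y : Commute x' y := by
    have h1 : Commute x' (b * x * b⁻¹) := hux.map (MulAut.conj b).toMonoidHom
    have h2 := hF.commute_of_eqv hbx.symm h1
    simpa using h2.inv_right
  obtain ⟨t, ht⟩ := hroot u' hu'R x' hx'R
  obtain ⟨p, q, hpq⟩ := ZMod.sq_add_sq r (-(t : ZMod r))
  set α : ℤ := (p.val : ℤ) with hα
  set β : ℤ := (q.val : ℤ) with hβ
  have hdiv : (r : ℤ) ∣ α * α + β * β + t := by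
    rw [← ZMod.intCast_zmod_eq_zero_iff_dvd]
    push_cast
    rw [hα, hβ, Int.cast_natCast, Int.cast_natCast, ZMod.natCast_zmod_val, ZMod.natCast_zmod_val]
    rw [← pow_two, ← pow_two, hpq, neg_add_cancel]
  have hcz : ∀ n : ℤ, (r : ℤ) ∣ n → c ^ n = 1 := fun n ⟨s, hs⟩ => by
    rw [hs, zpow_mul, zpow_natCast, hcr, one_zpow]
  have hyb : ∀ i : ℤ, b * y ^ i * b⁻¹ = x ^ i := fun i => by rw [hx, conj_zpow]
  obtain ⟨n, hn, hnz⟩ := hF.exists_inverted (z := z) (x := y ^ α * x ^ β * u') (by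
    rw [show z * (y ^ α * x ^ β * u') * z⁻¹ = (z * y * z⁻¹) ^ α * (z * x * z⁻¹) ^ β * (z * u' * z⁻¹) by
      rw [(conj_zpow : (z * y * z⁻¹) ^ α = _), (conj_zpow : (z * x * z⁻¹) ^ β = _)]; group, hyz, hxz, hmz,
      inv_zpow, inv_zpow]
    show (y ^ α * x ^ β * u')⁻¹⁻¹ * ((y ^ α)⁻¹ * (x ^ β)⁻¹ * u'⁻¹) ∈ K
    rw [inv_inv, show y ^ α * x ^ β * u' * ((y ^ α)⁻¹ * (x ^ β)⁻¹ * u'⁻¹) =
      y ^ α * x ^ β * (u' * (y ^ α)⁻¹ * (x ^ β)⁻¹ * u'⁻¹) by group,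
      show u' * (y ^ α)⁻¹ * (x ^ β)⁻¹ = (y ^ α)⁻¹ * (x ^ β)⁻¹ * u' from
        (((hu'y.zpow_right α).inv_right.mul_right (hux.zpow_right β).inv_right).eq ▸ (mul_assoc _ _ _)),
      mul_inv_cancel_right,
      show y ^ α * x ^ β * ((y ^ α)⁻¹ * (x ^ β)⁻¹) = ⁅y ^ α, x ^ β⁆ by rw [commutatorElement_def]; group]
    exact hF.comm _ (zpow_mem hy _) _ (zpow_mem hxR _))
  set v := y ^ α * x ^ β * u' * n
  have hv₀ : y ^ α * x ^ β * u' ∈ R := mul_mem (mul_mem (zpow_mem hy _) (zpow_mem hxR _)) hu'R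
  have hvR : v ∈ R := mul_mem hv₀ (hF.le hn)
  have hbv : Eqv K (x ^ α * (y⁻¹) ^ β * x') (b * v * b⁻¹) := by
    refine Eqv.trans ?_ (hF.eqv_conj b (eqv_mul_right _ hn))
    rw [show b * (y ^ α * x ^ β * u') * b⁻¹ = b * y ^ α * b⁻¹ * (b * x ^ β * b⁻¹) * (b * u' * b⁻¹) by group,
      hyb]
    refine hF.eqv_mul (hF.eqv_mul (Eqv.refl K _) ?_) (Eqv.refl K _)
    rw [← conj_zpow]
    exact hF.eqv_zpow hbx β
  have hvv : Commute v (b * v * b⁻¹) := by
    rw [← commutatorElement_eq_one_iff_commute, hF.comm_congr (eqv_mul_right _ hn).symm hbv.symm]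
    have c1 : ∀ {a d : H}, Commute a d → ⁅a, d⁆ = 1 := fun h => commutatorElement_eq_one_iff_commute.2 h
    have hyiR : y⁻¹ ∈ R := inv_mem hy
    have hA : x ^ α * (y⁻¹) ^ β ∈ R := mul_mem (zpow_mem hxR _) (zpow_mem hyiR _)
    have hP : y ^ α * x ^ β ∈ R := mul_mem (zpow_mem hy _) (zpow_mem hxR _)
    rw [hF.comm_mul_left hP hu'R (mul_mem hA hx'R), hF.comm_mul_right hP hA hx'R,
      hF.comm_mul_right hu'R hA hx'R,
      c1 (((hx'y.zpow_right α).mul_right (hx'x.zpow_right β)).symm),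
      c1 ((hux.zpow_right α).mul_right (hu'y.inv_right.zpow_right β)), one_mul, mul_one, ht,
      hF.comm_mul_left (zpow_mem hy _) (zpow_mem hxR _) hA,
      hF.comm_mul_right (zpow_mem hy _) (zpow_mem hxR _) (zpow_mem hyiR _),
      hF.comm_mul_right (zpow_mem hxR _) (zpow_mem hxR _) (zpow_mem hyiR _),
      c1 (((Commute.refl y).inv_right.zpow_right β).zpow_left α), c1 (((Commute.refl x).zpow_right α).zpow_left β),
      mul_one, one_mul, hF.comm_zpow_left hy (zpow_mem hxR _), hF.comm_zpow_right hy hxR, inv_zpow', hF.comm_zpow_left hxR (zpow_mem hy _),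
      hF.comm_zpow_right hxR hy, hxy, ← hc, inv_zpow', ← zpow_mul, ← zpow_mul, ← zpow_add, ← zpow_add]
    exact hcz _ (by convert hdiv using 1; ring)
  have hvK := hkey v hvR hnz hvv
  -- so `u'` commutes with its image
  refine hu'K (hkey u' hu'R hmz ?_)
  rw [← commutatorElement_eq_one_iff_commute]
  have h1 : ⁅y ^ α * x ^ β * u', x'⁆ = 1 := by
    rw [hF.comm_congr (eqv_mul_right _ hn) (Eqv.refl K x'), commutatorElement_eq_one_iff_commute]
    exact (hF.central hvK x').symm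
  rwa [hF.comm_mul_left (mul_mem (zpow_mem hy _) (zpow_mem hxR _)) hu'R hx'R,
    commutatorElement_eq_one_iff_commute.2 ((hx'y.zpow_right α).mul_right (hx'x.zpow_right β)).symm,
    one_mul] at h1

/-- An involution commuting with `z` is `±1` on the elements inverted by `z`. -/
theorem sign_invol {u : H} (huR : u ∈ normalizer (R : Set H)) (huz : Commute u z) (huu : u * u = 1) :
    (∀ y ∈ R, z * y * z⁻¹ = y⁻¹ → Eqv K y (u * y * u⁻¹)) ∨
      (∀ y ∈ R, z * y * z⁻¹ = y⁻¹ → Eqv K y⁻¹ (u * y * u⁻¹)) := by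
  haveI := Fact.mk hF.prime
  refine hF.sign_uniform huR fun y hy hyz => ?_
  by_cases hyK : y ∈ K
  · refine Or.inl ?_
    rw [(hF.central hyK u).eq, mul_inv_cancel_right]
    exact Eqv.refl K y
  obtain ⟨b, hb, hmin⟩ := hF.exists_minus_square hzz hzR hz B hBR hBz hop hzB hB2
  have huyz : z * (u * y * u⁻¹) * z⁻¹ = (u * y * u⁻¹)⁻¹ := by
    rw [show z * (u * y * u⁻¹) * z⁻¹ = (z * u) * y * (z * u)⁻¹ by group, huz.symm.eq,
      show u * z * y * (u * z)⁻¹ = u * (z * y * z⁻¹) * u⁻¹ by group, hyz]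
    group
  have hc := hF.commute_image huR hy (by rw [huu, one_mul, inv_one, mul_one]; exact Eqv.refl K y)
  obtain ⟨i, hi⟩ := hF.plane hzz hzR hz B hBR hBz hop hzB hB2 hb hmin hy hyz hyK _
    ((mem_normalizer_iff.1 huR y).1 hy) huyz hc.symm
  -- apply `u` again
  have h2 : Eqv K (y ^ (i * i)) y := by
    have h := hF.eqv_conj u hi
    rw [show u * (u * y * u⁻¹) * u⁻¹ = u * u * y * (u * u)⁻¹ by group, huu, one_mul, inv_one, mul_one,
      ← conj_zpow] at h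
    rw [zpow_mul]
    exact (hF.eqv_zpow hi i).trans h
  have hdiv : (r : ℤ) ∣ i * i - 1 := by
    by_contra hnd
    refine hyK ?_
    have h3 : y ^ (i * i - 1) ∈ K := by
      have h4 := hF.eqv_mul h2 (Eqv.refl K y⁻¹)
      rw [mul_inv_cancel, ← zpow_neg_one y, ← zpow_add] at h4
      exact eqv_one_iff.1 h4
    obtain ⟨a, b', hab⟩ : IsCoprime (i * i - 1) (r : ℤ) :=
      ((Nat.prime_iff_prime_int.1 hF.prime).coprime_iff_not_dvd.2 hnd).symm
    rw [← zpow_one y, ← hab, zpow_add, mul_comm a, zpow_mul, mul_comm b', zpow_mul, zpow_natCast]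
    exact mul_mem (zpow_mem h3 a) (zpow_mem (hF.pow y hy) b')
  have hred : ∀ {j : ℤ}, (r : ℤ) ∣ j → y ^ j ∈ K := fun {j} ⟨s, hs⟩ => by
    rw [hs, zpow_mul, zpow_natCast]; exact zpow_mem (hF.pow y hy) s
  rw [show i * i - 1 = (i - 1) * (i + 1) by ring] at hdiv
  rcases (Nat.prime_iff_prime_int.1 hF.prime).dvd_or_dvd hdiv with h | h
  · left
    refine Eqv.trans ?_ hi
    show y⁻¹ * y ^ i ∈ K
    rw [← zpow_neg_one, ← zpow_add, show -1 + i = i - 1 by ring]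
    exact hred h
  · right
    refine Eqv.trans ?_ hi
    show y⁻¹⁻¹ * y ^ i ∈ K
    rw [inv_inv, ← zpow_one_add, add_comm]
    exact hred h

/-- An involution commuting with `z` commutes with `B` on `R`. -/
theorem commutator_trivial {u : H} (huR : u ∈ normalizer (R : Set H)) (huz : Commute u z) (huu : u * u = 1)
    {b : H} (hb : b ∈ B) {x : H} (hx : x ∈ R) : Eqv K x (⁅u, b⁆ * x * ⁅u, b⁆⁻¹) := by
  let S : Subgroup H :=
    { carrier := {x | Eqv K x (⁅u, b⁆ * x * ⁅u, b⁆⁻¹)}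
      one_mem' := by
        show Eqv K 1 (⁅u, b⁆ * 1 * ⁅u, b⁆⁻¹)
        rw [mul_one, mul_inv_cancel]; exact Eqv.refl K 1
      mul_mem' := fun {x y} hx hy => by
        show Eqv K (x * y) (⁅u, b⁆ * (x * y) * ⁅u, b⁆⁻¹)
        rw [show ⁅u, b⁆ * (x * y) * ⁅u, b⁆⁻¹ = ⁅u, b⁆ * x * ⁅u, b⁆⁻¹ * (⁅u, b⁆ * y * ⁅u, b⁆⁻¹) by group]
        exact hF.eqv_mul hx hy
      inv_mem' := fun {x} hx => by
        show Eqv K x⁻¹ (⁅u, b⁆ * x⁻¹ * ⁅u, b⁆⁻¹)
        rw [show ⁅u, b⁆ * x⁻¹ * ⁅u, b⁆⁻¹ = (⁅u, b⁆ * x * ⁅u, b⁆⁻¹)⁻¹ by group]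
        exact hF.eqv_inv hx }
  have huR' := mem_normalizer_iff.1 huR
  have hui : u⁻¹ = u := inv_eq_of_mul_eq_one_left huu
  have hfix : ∀ g ∈ B, ∀ y ∈ R, Commute z y → Eqv K y (g * y * g⁻¹) :=
    fun g hg y hy hyz => hF.fix_of hzz hzR hz B hBR hBz hop hg hy hyz
  have hexp : ∀ x : H, ⁅u, b⁆ * x * ⁅u, b⁆⁻¹ = u * (b * (u * (b⁻¹ * x * b⁻¹⁻¹) * u⁻¹) * b⁻¹) * u⁻¹ :=
    fun x => by
      rw [show ⁅u, b⁆ * x * ⁅u, b⁆⁻¹ = u * (b * (u⁻¹ * (b⁻¹ * x * b⁻¹⁻¹) * u⁻¹⁻¹) * b⁻¹) * u⁻¹ by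
        simp only [commutatorElement_def]; group]
      simp only [hui]
  have huinv : ∀ x : H, u * (u * x * u⁻¹) * u⁻¹ = x := fun x => by
    rw [show u * (u * x * u⁻¹) * u⁻¹ = u * u * x * (u * u)⁻¹ by group, huu, one_mul, inv_one, mul_one]
  refine hF.split hzz hzR S ?_ ?_ ?_ hx
  · intro m hm
    show Eqv K m _
    rw [(hF.central hm ⁅u, b⁆).eq, mul_inv_cancel_right]
    exact Eqv.refl K m
  · intro y hy hyz
    show Eqv K y _
    rw [hexp]
    have h1 := hfix b⁻¹ (inv_mem hb) y hy hyz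
    have h2 := hfix b hb (u * y * u⁻¹) ((huR' y).1 hy)
      ((huz.symm.mul_right hyz).mul_right huz.symm.inv_right)
    have h3 := hF.eqv_conj u (h2.trans (hF.eqv_conj b (hF.eqv_conj u h1)))
    rwa [huinv] at h3
  · intro y hy hyz
    show Eqv K y _
    rw [hexp]
    have hy1 : b⁻¹ * y * b⁻¹⁻¹ ∈ R := (mem_normalizer_iff.1 (hBR (inv_mem hb)) y).1 hy
    have hy1z : z * (b⁻¹ * y * b⁻¹⁻¹) * z⁻¹ = (b⁻¹ * y * b⁻¹⁻¹)⁻¹ := by
      rw [show z * (b⁻¹ * y * b⁻¹⁻¹) * z⁻¹ = (z * b⁻¹) * y * (z * b⁻¹)⁻¹ by group,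
        ((hBz b⁻¹ (inv_mem hb)).symm).eq,
        show b⁻¹ * z * y * (b⁻¹ * z)⁻¹ = b⁻¹ * (z * y * z⁻¹) * b⁻¹⁻¹ by group, hyz]
      group
    rcases hF.sign_invol hzz hzR hz B hBR hBz hop hzB hB2 huR huz huu with h | h
    · have h1 := hF.eqv_conj u (hF.eqv_conj b (h _ hy1 hy1z))
      rw [show b * (b⁻¹ * y * b⁻¹⁻¹) * b⁻¹ = y by group] at h1
      exact (h y hy hyz).trans h1
    · have h1 := hF.eqv_conj u (hF.eqv_conj b (h _ hy1 hy1z))
      rw [show b * (b⁻¹ * y * b⁻¹⁻¹)⁻¹ * b⁻¹ = y⁻¹ by group] at h1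
      refine Eqv.trans ?_ h1
      have h2 := hF.eqv_inv (h y hy hyz)
      rw [inv_inv, show (u * y * u⁻¹)⁻¹ = u * y⁻¹ * u⁻¹ by group] at h2
      exact h2

end

end Frame

end CfsgLib.PGroup.DerivedTwo
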