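import Cfsg.Agent.Lib.PGroup.RepWeights
import Mathlib.Tactic.Group

/-!
# The decomposition belonging to a normal class two subgroup

`mem ρ Z Q χ μ` is the part of the `χ`-eigenspace of `Z` on which `Kof ρ Q` of that eigenspace (the
elements pairing trivially with `Q` there) acts by `μ`.  These spaces are permuted and independent.
-/

set_option autoImplicit false
set_option linter.style.haveILetI false
set_option linter.unusedSectionVars false

open Subgroup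
open scoped commutatorElement

namespace CfsgLib.PGroup.DerivedTwo

universe u v w

variable {H : Type u} [Group H] {k : Type v} [Field k] {W : Type w} [AddCommGroup W] [Module k W]
  (ρ : H →* Module.End k W)

/-- The vectors on which `Y` acts by `μ`. -/
def eigF (Y : Subgroup H) (μ : H → k) : Submodule k W where
  carrier := {w | ∀ y ∈ Y, ρ y w = μ y • w}
  add_mem' := fun {a b} ha hb y hy => by rw [map_add, ha y hy, hb y hy, smul_add]
  zero_mem' := fun y _ => by rw [map_zero, smul_zero]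
  smul_mem' := fun c {a} ha y hy => by rw [map_smul, ha y hy, smul_comm]

theorem mem_eigF {Y : Subgroup H} {μ : H → k} {w : W} :
    w ∈ eigF ρ Y μ ↔ ∀ y ∈ Y, ρ y w = μ y • w := Iff.rfl

/-- The elements of `Q` pairing trivially with `Q` on `U`. -/
def Kof (Q : Subgroup H) (U : Submodule k W) : Subgroup H where
  carrier := {x | x ∈ Q ∧ (∀ w, w ∈ U ↔ ρ x w ∈ U) ∧ ∀ y ∈ Q, ∀ w ∈ U, ρ ⁅x, y⁆ w = w}
  one_mem' := ⟨one_mem _, fun w => by rw [map_one, Module.End.one_apply],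
    fun y _ w _ => by rw [commutatorElement_one_left, map_one, Module.End.one_apply]⟩
  mul_mem' := fun {a b} ha hb => ⟨mul_mem ha.1 hb.1,
    fun w => by rw [map_mul, Module.End.mul_apply, hb.2.1 w]; exact ha.2.1 _,
    fun y hy w hw => by
      have hinv : ρ a⁻¹ w ∈ U := (ha.2.1 _).2 (by rw [rep_apply_inv]; exact hw)
      rw [show ⁅a * b, y⁆ = a * ⁅b, y⁆ * a⁻¹ * ⁅a, y⁆ by simp only [commutatorElement_def]; group,
        rep_mul_apply, ha.2.2 y hy w hw, rep_mul_apply, rep_mul_apply, hb.2.2 y hy _ hinv, rep_apply_inv]⟩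
  inv_mem' := fun {a} ha => ⟨inv_mem ha.1,
    fun w => by rw [ha.2.1 (ρ a⁻¹ w), rep_apply_inv],
    fun y hy w hw => by
      have hv : ρ ⁅a, y⁆⁻¹ (ρ a w) = ρ a w := by
        conv_lhs => arg 2; rw [← ha.2.2 y hy _ ((ha.2.1 w).1 hw)]
        exact rep_inv_apply ρ _ _
      rw [show ⁅a⁻¹, y⁆ = a⁻¹ * ⁅a, y⁆⁻¹ * a by simp only [commutatorElement_def]; group,
        rep_mul_apply, rep_mul_apply, hv, rep_inv_apply]⟩

theorem mem_Kof {Q : Subgroup H} {U : Submodule k W} {x : H} :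
    x ∈ Kof ρ Q U ↔ x ∈ Q ∧ (∀ w, w ∈ U ↔ ρ x w ∈ U) ∧ ∀ y ∈ Q, ∀ w ∈ U, ρ ⁅x, y⁆ w = w := Iff.rfl

theorem map_eigF (Y : Subgroup H) (μ : H → k) (h : H) :
    (eigF ρ Y μ).map (ρ h) = eigF ρ (Y.map (MulAut.conj h).toMonoidHom) fun g => μ (h⁻¹ * g * h) := by
  ext w
  constructor
  · rintro ⟨v, hv, rfl⟩ _ ⟨y, hy, rfl⟩
    show ρ (h * y * h⁻¹) (ρ h v) = μ (h⁻¹ * (h * y * h⁻¹) * h) • ρ h v
    rw [show h⁻¹ * (h * y * h⁻¹) * h = y by group, ← rep_mul_apply, show h * y * h⁻¹ * h = h * y by group,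
      rep_mul_apply, hv y hy, map_smul]
  · intro hw
    refine ⟨ρ h⁻¹ w, fun y hy => ?_, rep_apply_inv ρ h w⟩
    have h1 : ρ (h * y * h⁻¹) w = μ (h⁻¹ * (h * y * h⁻¹) * h) • w := hw _ ⟨y, hy, rfl⟩
    rw [show h⁻¹ * (h * y * h⁻¹) * h = y by group] at h1
    have h2 := congrArg (ρ h⁻¹) h1
    rwa [map_smul, ← rep_mul_apply, show h⁻¹ * (h * y * h⁻¹) = y * h⁻¹ by group, rep_mul_apply] at h2

theorem conj_mem_Kof {Q : Subgroup H} [Q.Normal] {U : Submodule k W} (h : H) {x : H}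
    (hx : x ∈ Kof ρ Q U) : h * x * h⁻¹ ∈ Kof ρ Q (U.map (ρ h)) := by
  have hmem : ∀ v, v ∈ U.map (ρ h) ↔ ρ h⁻¹ v ∈ U := fun v =>
    ⟨fun ⟨u, hu, e⟩ => by rw [← e, rep_inv_apply]; exact hu, fun hv => ⟨_, hv, rep_apply_inv ρ h v⟩⟩
  refine ⟨(inferInstance : Q.Normal).conj_mem x hx.1 h, fun w => ?_, fun y hy w hw => ?_⟩
  · rw [hmem, hmem, hx.2.1, ← rep_mul_apply ρ h⁻¹, show h⁻¹ * (h * x * h⁻¹) = x * h⁻¹ by group, rep_mul_apply]
  · rw [hmem] at hw
    rw [show ⁅h * x * h⁻¹, y⁆ = h * ⁅x, h⁻¹ * y * h⁻¹⁻¹⁆ * h⁻¹ by simp only [commutatorElement_def]; group,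
      rep_mul_apply, rep_mul_apply, hx.2.2 _ ((inferInstance : Q.Normal).conj_mem y hy h⁻¹) _ hw, rep_apply_inv]

theorem map_Kof (Q : Subgroup H) [Q.Normal] (U : Submodule k W) (h : H) :
    (Kof ρ Q U).map (MulAut.conj h).toMonoidHom = Kof ρ Q (U.map (ρ h)) := by
  refine le_antisymm ?_ fun x hx => ⟨h⁻¹ * x * h, ?_, show h * (h⁻¹ * x * h) * h⁻¹ = x by group⟩
  · rintro _ ⟨x, hx, rfl⟩
    exact conj_mem_Kof ρ h hx
  · have h1 := conj_mem_Kof ρ h⁻¹ hx
    rwa [inv_inv, show (U.map (ρ h)).map (ρ h⁻¹) = U by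
      rw [← Submodule.map_comp, show (ρ h⁻¹).comp (ρ h) = LinearMap.id from LinearMap.ext (rep_inv_apply ρ h),
        Submodule.map_id]] at h1

/-- A member of the decomposition. -/
def wmem (Z Q : Subgroup H) (χ μ : H → k) : Submodule k W :=
  eigF ρ Z χ ⊓ eigF ρ (Kof ρ Q (eigF ρ Z χ)) μ

/-- The decomposition. -/
def weights (Z Q : Subgroup H) : Set (Submodule k W) := {S | S ≠ ⊥ ∧ ∃ χ μ, S = wmem ρ Z Q χ μ}

theorem weights_invariant (Z Q : Subgroup H) [Z.Normal] [Q.Normal] (h : H) {S : Submodule k W}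
    (hS : S ∈ weights ρ Z Q) : S.map (ρ h) ∈ weights ρ Z Q := by
  obtain ⟨hne, χ, μ, rfl⟩ := hS
  refine ⟨fun e => hne ((Submodule.eq_bot_iff _).2 fun v hv => rep_injective ρ h ?_),
    fun g => χ (h⁻¹ * g * h), fun g => μ (h⁻¹ * g * h), ?_⟩
  · rw [map_zero]
    exact (Submodule.eq_bot_iff _).1 e _ (Submodule.mem_map_of_mem hv)
  · have hZ : Z.map (MulAut.conj h).toMonoidHom = Z :=
      mem_normalizer_iff_map_conj_eq.1 (by rw [normalizer_eq_top_iff.2 (inferInstance : Z.Normal)]; exact mem_top _)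
    rw [wmem, wmem, Submodule.map_inf _ (rep_injective ρ h), map_eigF, map_eigF, map_Kof, map_eigF, hZ]

/-- A scalar function with an eigenvector is a character. -/
theorem charOf {Y : Subgroup H} {μ : H → k} {w : W} (hw : w ∈ eigF ρ Y μ) (hw0 : w ≠ 0) :
    ∃ χ : Y →* kˣ, ∀ y : Y, (χ y : k) = μ y := by
  have h1 : ∀ y ∈ Y, μ y ≠ 0 := fun y hy e => hw0 (rep_injective ρ y (by rw [hw y hy, e, zero_smul, map_zero]))
  refine ⟨MonoidHom.mk' (fun y => Units.mk0 (μ y) (h1 y y.2)) fun a b => Units.ext ?_, fun y => rfl⟩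
  refine smul_left_injective k hw0 ?_
  show μ (a * b : Y) • w = (μ a * μ b) • w
  rw [← hw _ (a * b).2, Subgroup.coe_mul, rep_mul_apply, hw _ b.2, map_smul, hw _ a.2, smul_smul, mul_comm]

theorem weights_indep [Finite H] (Z Q : Subgroup H)
    (hk : ∀ Y : Subgroup H, Y ≤ Z ⊔ Q → (Nat.card Y : k) ≠ 0) {S : Submodule k W}
    (hS : S ∈ weights ρ Z Q) : Disjoint S (sSup (weights ρ Z Q \ {S})) := by
  classical
  obtain ⟨hne, χ, μ, rfl⟩ := hS
  obtain ⟨w₀, hw₀, hw₀0⟩ := Submodule.exists_mem_ne_zero_of_ne_bot hne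
  set K := Kof ρ Q (eigF ρ Z χ) with hK
  haveI := Fintype.ofFinite Z
  haveI := Fintype.ofFinite K
  obtain ⟨a, ha⟩ := charOf ρ hw₀.1 hw₀0
  obtain ⟨b, hb⟩ := charOf ρ hw₀.2 hw₀0
  let P : Module.End k W := eigProj ρ b * eigProj ρ a
  have hkZ : (Fintype.card Z : k) ≠ 0 := by rw [← Nat.card_eq_fintype_card]; exact hk Z le_sup_left
  have hkK : (Fintype.card K : k) ≠ 0 := by
    rw [← Nat.card_eq_fintype_card]; exact hk K fun x hx => mem_sup_right hx.1
  have hPS : ∀ w ∈ wmem ρ Z Q χ μ, P w = ((Fintype.card Z : k) * (Fintype.card K : k)) • w := fun w hw => by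
    show eigProj ρ b (eigProj ρ a w) = _
    rw [eigProj_self ρ (χ := a) (fun y => by rw [ha]; exact hw.1 y y.2), map_smul,
      eigProj_self ρ (χ := b) (fun y => by rw [hb]; exact hw.2 y y.2), smul_smul]
  have hP0 : sSup (weights ρ Z Q \ {wmem ρ Z Q χ μ}) ≤ LinearMap.ker P := by
    refine sSup_le ?_
    rintro S' ⟨⟨hne', χ', μ', rfl⟩, hS'⟩ w hw
    rw [LinearMap.mem_ker]
    show eigProj ρ b (eigProj ρ a w) = 0
    by_cases hw0 : w = 0
    · rw [hw0, map_zero, map_zero]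
    obtain ⟨a', ha'⟩ := charOf ρ hw.1 hw0
    by_cases haa : a = a'
    · subst haa
      rw [eigProj_self ρ (χ := a) (fun y => by rw [ha']; exact hw.1 y y.2), map_smul]
      have he : eigF ρ Z χ' = eigF ρ Z χ := by
        ext v
        have e : ∀ y ∈ Z, χ' y = χ y := fun y hy => ((ha' ⟨y, hy⟩).symm.trans (ha ⟨y, hy⟩))
        exact ⟨fun hv y hy => by rw [hv y hy, e y hy], fun hv y hy => by rw [hv y hy, e y hy]⟩
      have hw' : w ∈ eigF ρ K μ' := by
        have := hw.2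
        rwa [he] at this
      obtain ⟨b', hb'⟩ := charOf ρ hw' hw0
      rw [eigProj_ne ρ (χ := b) (ψ := b') (fun y => by rw [hb']; exact hw' y y.2) ?_, smul_zero]
      rintro rfl
      refine hS' ?_
      rw [Set.mem_singleton_iff, wmem, wmem, he]
      congr 1
      ext v
      have e : ∀ y ∈ K, μ' y = μ y := fun y hy => ((hb' ⟨y, hy⟩).symm.trans (hb ⟨y, hy⟩))
      exact ⟨fun hv y hy => by rw [hv y hy, e y hy], fun hv y hy => by rw [hv y hy, e y hy]⟩
    · rw [eigProj_ne ρ (χ := a) (ψ := a') (fun y => by rw [ha']; exact hw.1 y y.2) haa, map_zero]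
  refine Submodule.disjoint_def.2 fun w hw hw' => ?_
  have h0 := LinearMap.mem_ker.1 (hP0 hw')
  rw [hPS w hw] at h0
  exact (smul_eq_zero.1 h0).resolve_left (mul_ne_zero hkZ hkK)

theorem exists_weight [Finite H] [IsAlgClosed k] [FiniteDimensional k W] (Z Q : Subgroup H) (χ : H → k)
    (hne : eigF ρ Z χ ≠ ⊥) : ∃ μ : H → k, wmem ρ Z Q χ μ ∈ weights ρ Z Q := by
  classical
  set U := eigF ρ Z χ with hU
  set K := Kof ρ Q U with hK
  let σ := subRep ρ U K fun x hx w hw => (hx.2.1 w).1 hw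
  haveI := Fintype.ofFinite (⊤ : Subgroup K)
  haveI : Nontrivial U := Submodule.nontrivial_iff_ne_bot.2 hne
  have hY : ImgComm σ (⊤ : Subgroup K) := fun y _ z _ => LinearMap.ext fun w => Subtype.ext (by
    rw [subRep_apply, subRep_apply, Subgroup.coe_mul, Subgroup.coe_mul]
    have h1 : ρ ((z : H) * y) w ∈ U := by
      rw [rep_mul_apply]; exact (z.2.2.1 _).1 ((y.2.2.1 _).1 w.2)
    have h2 := y.2.2.2 z z.2.1 _ h1
    rw [← rep_mul_apply] at h2
    rwa [show ⁅(y : H), (z : H)⁆ * ((z : H) * y) = (y : H) * z by rw [commutatorElement_def]; group] at h2)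
  obtain ⟨ψ, x, -, hx0, hx⟩ := exists_eigen σ hY (U := ⊤) (fun _ _ _ _ => Submodule.mem_top) top_ne_bot
  refine ⟨fun g => if hg : g ∈ K then (ψ ⟨⟨g, hg⟩, mem_top _⟩ : k) else 0, ?_, χ, _, rfl⟩
  intro e
  refine hx0 (Subtype.ext ((Submodule.eq_bot_iff _).1 e (x : W) ⟨x.2, fun g hg => ?_⟩))
  show ρ g x = (if hg : g ∈ K then (ψ ⟨⟨g, hg⟩, mem_top _⟩ : k) else 0) • (x : W)
  rw [dif_pos (show g ∈ K from hg)]
  exact congrArg Subtype.val (hx ⟨⟨g, hg⟩, mem_top _⟩)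

end CfsgLib.PGroup.DerivedTwo
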