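import Cfsg.Agent.Lib.PGroup.DerivedTwo.Member
import Cfsg.Agent.Lib.PGroup.DerivedTwo.Weights
import Cfsg.Agent.Lib.PGroup.GrossTwo.TwoLength

/-!
# A chain of length `e + 2` in a soluble linear group without normal `2`-subgroup

The last derived term `A` of a Sylow `2`-subgroup has exponent two and the elements of `B` generated by
conjugates of `A` centralize `B`.
-/

set_option autoImplicit false
set_option linter.style.haveILetI false
set_option linter.unusedSectionVars false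

open Subgroup
open scoped commutatorElement

namespace CfsgLib.PGroup.DerivedTwo

universe u v w

variable {H : Type u} [Group H] [Finite H] {k : Type v} [Field k] [IsAlgClosed k] [CharP k 2]
  {W : Type w} [AddCommGroup W] [Module k W] [FiniteDimensional k W]

/-- The action on one odd core. -/
theorem pCore_key (ρ : H →* Module.End k W) (hinj : Function.Injective ρ) {r : ℕ} [hr : Fact r.Prime]
    (hr2 : r ≠ 2) {T : Subgroup H} (hT : IsPGroup 2 T) {e : ℕ} (hzero : chain ρ T (e + 2) = ⊥) :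
    (∀ a ∈ dser T (e + 1), ∀ x ∈ Cfsg.pCore r H, Commute (a * a) x) ∧
    ((∀ a ∈ dser T (e + 1), a * a = 1) →
      ∀ n ∈ closure {u | u ∈ T ∧ ∃ h : H, ∃ a ∈ dser T (e + 1), u = h * a * h⁻¹}, n ∈ dser T e →
        ∀ b ∈ dser T e, ∀ x ∈ Cfsg.pCore r H, Commute ⁅n, b⁆ x) := by
  classical
  set O := Cfsg.pCore r H
  haveI : O.Normal := CfsgLib.Coprime.pCore_normal' r
  have hOp : IsPGroup r O := CfsgLib.Coprime.pCore_isPGroup r
  obtain ⟨Q, hQO, hQn, -, hQpow, hQQ, -, -, hfix⟩ := CfsgLib.CFun.exists_critical_in hOp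
  haveI := hQn
  set Z := CfsgLib.CFun.cen Q with hZ
  haveI : Z.Normal := by rw [hZ]; unfold CfsgLib.CFun.cen; infer_instance
  have hZQ : Z ≤ Q := inf_le_left
  have hcen : ∀ x ∈ Q, ∀ z ∈ Z, Commute z x := fun x hx z hz => CfsgLib.CFun.commute_of_mem_cen hz hx
  have hcomm : ∀ x ∈ Q, ∀ y ∈ Q, ⁅x, y⁆ ∈ Z := fun x hx y hy =>
    CfsgLib.CFun.commutator_le_cen_of_classTwo hQQ (commutator_mem_commutator hx hy)
  have hQn' : ∀ g : H, ∀ x ∈ Q, g * x * g⁻¹ ∈ Q := fun g x hx => hQn.conj_mem x hx g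
  have hk : ∀ Y : Subgroup H, Y ≤ Z ⊔ Q → (Nat.card Y : k) ≠ 0 := fun Y hY => by
    haveI := Fintype.ofFinite Y
    rw [Nat.card_eq_fintype_card]
    exact GrossTwo.card_ne_zero_of_odd (k := k) hr2 (hOp.to_le (hY.trans (sup_le (hZQ.trans hQO) hQO)))
  have hQU : ∀ (χ : H → k), ∀ x ∈ Q, ∀ w ∈ eigF ρ Z χ, ρ x w ∈ eigF ρ Z χ := fun χ x hx w hw z hz => by
    rw [← rep_mul_apply, (hcen x hx z hz).eq, rep_mul_apply, hw z hz, map_smul]
  have hQU' : ∀ (χ : H → k), ∀ x ∈ Q, ∀ w, w ∈ eigF ρ Z χ ↔ ρ x w ∈ eigF ρ Z χ := fun χ x hx w =>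
    ⟨hQU χ x hx w, fun h => by
      have := hQU χ _ (inv_mem hx) _ h
      rwa [rep_inv_apply] at this⟩
  have hZK : ∀ χ : H → k, Z ≤ Kof ρ Q (eigF ρ Z χ) := fun χ z hz =>
    ⟨hZQ hz, hQU' χ z (hZQ hz), fun y hy w _ => by
      rw [commutatorElement_eq_one_iff_commute.2 (hcen y hy z hz), map_one, Module.End.one_apply]⟩
  have hmember : ∀ χ μ : H → k, wmem ρ Z Q χ μ ∈ weights ρ Z Q →
      dser T (e + 1) ≤ fixer ρ (wmem ρ Z Q χ μ) ∧
      (∀ a ∈ dser T (e + 1), ∀ x ∈ Q, ⁅a * a, x⁆ ∈ Kof ρ Q (eigF ρ Z χ)) ∧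
      ∀ n ∈ closure {u | u ∈ T ∧ u ∈ fixer ρ (wmem ρ Z Q χ μ) ∧ u * u = 1}, n ∈ dser T e →
        ∀ b ∈ dser T e, ∀ x ∈ Q, ⁅⁅n, b⁆, x⁆ ∈ Kof ρ Q (eigF ρ Z χ) := by
    intro χ μ hS
    refine member ρ hr.out hr2 hT hzero (fun t _ U hU => weights_invariant ρ Z Q t hU) hS hS.1
      (weights_indep ρ Z Q hk hS) (fun x hx => hx.1) (fun x hx y hy => hZK χ (hcomm x hx y hy))
      (fun x hx => hZK χ (hQpow x hx)) (fun x hx w hw => ⟨hQU χ x hx w hw.1, fun y hy => ?_⟩)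
      (fun x hx => ⟨μ x, fun w hw => hw.2 x hx⟩) (fun x hx h => ⟨hx, hQU' χ x hx, fun y hy v hv => ?_⟩)
      fun x hx y hy w hw => hx.2.2 y hy w hw.1
    · have h1 : ρ x (ρ y w) ∈ eigF ρ Z χ := hQU χ x hx _ ((hy.2.1 w).1 hw.1)
      have h2 := hy.2.2 x hx _ h1
      rw [← rep_mul_apply, ← rep_mul_apply,
        show ⁅y, x⁆ * x * y = y * x by rw [commutatorElement_def]; group, rep_mul_apply] at h2
      rw [h2, hw.2 y hy, map_smul]
    · obtain ⟨w, hw, hw0⟩ := Submodule.exists_mem_ne_zero_of_ne_bot hS.1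
      have h1 : χ ⁅x, y⁆ = 1 := smul_left_injective k hw0 (by
        show χ ⁅x, y⁆ • w = (1 : k) • w
        rw [one_smul, ← hw.1 _ (hcomm x hx y hy), h y hy w hw])
      rw [hv _ (hcomm x hx y hy), h1, one_smul]
  -- detection
  have detect : ∀ g ∈ T, (∀ χ μ, wmem ρ Z Q χ μ ∈ weights ρ Z Q → g ∈ fixer ρ (wmem ρ Z Q χ μ) ∧
      ∀ x ∈ Q, ⁅g, x⁆ ∈ Kof ρ Q (eigF ρ Z χ)) → ∀ x ∈ O, Commute g x := by
    intro g hgT hg x hx
    haveI := Fintype.ofFinite Z
    have hkZ : (Fintype.card Z : k) ≠ 0 := by rw [← Nat.card_eq_fintype_card]; exact hk Z le_sup_left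
    have hi : ImgComm ρ Z := fun a ha b hb => by rw [(hcen b (hZQ hb) a ha).eq]
    have heig : ∀ ψ : Z →* kˣ, ∀ f, IsEigen ρ Z ψ f → f ≠ 0 → ∃ χ μ : H → k,
        f ∈ eigF ρ Z χ ∧ wmem ρ Z Q χ μ ∈ weights ρ Z Q := by
      intro ψ f hf hf0
      let χ : H → k := fun z => if hz : z ∈ Z then (ψ ⟨z, hz⟩ : k) else 0
      have hfχ : f ∈ eigF ρ Z χ := fun z hz => by
        show ρ z f = χ z • f
        simp only [χ, dif_pos hz]
        exact hf ⟨z, hz⟩
      obtain ⟨μ, hμ⟩ := exists_weight ρ Z Q χ fun e => hf0 ((Submodule.eq_bot_iff _).1 e f hfχ)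
      exact ⟨χ, μ, hfχ, hμ⟩
    have hgZ : ∀ z ∈ Z, g * z * g⁻¹ = z := by
      intro z hz
      have hzc : g * z * g⁻¹ ∈ Z := (inferInstance : Z.Normal).conj_mem z hz g
      refine hinj (sub_eq_zero.1 (eq_zero_of_forall_eigen ρ hi hkZ _ (fun a ha v => ?_) fun ψ f hf => ?_))
      · rw [LinearMap.sub_apply, LinearMap.sub_apply, map_sub, ← rep_mul_apply, ← rep_mul_apply,
          ← rep_mul_apply, ← rep_mul_apply, (hcen a (hZQ ha) _ hzc).eq, (hcen a (hZQ ha) z hz).eq]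
      by_cases hf0 : f = 0
      · rw [hf0, map_zero]
      obtain ⟨χ, μ, hfχ, hμ⟩ := heig ψ f hf hf0
      obtain ⟨w, hw, hw0⟩ := Submodule.exists_mem_ne_zero_of_ne_bot hμ.1
      have hv : ρ g⁻¹ w ∈ wmem ρ Z Q χ μ := rep_mem_of_fixer ρ (inv_mem (hg χ μ hμ).1) hw
      have h1 : χ (g * z * g⁻¹) • w = χ z • w := by
        rw [← hw.1 _ hzc, rep_mul_apply, rep_mul_apply, hv.1 z hz, map_smul, rep_apply_inv]
      rw [LinearMap.sub_apply, hfχ _ hzc, hfχ z hz, smul_left_injective k hw0 h1, sub_self]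
    have hmod : ∀ c ∈ Q, ⁅g, c⁆ ∈ Z := by
      intro c hc
      have hu : ⁅g, c⁆ ∈ Q := by rw [commutatorElement_def]; exact mul_mem (hQn' g c hc) (inv_mem hc)
      refine Subgroup.mem_inf.2 ⟨hu, mem_centralizer_iff.2 fun w hw => ?_⟩
      have hm : ⁅⁅g, c⁆, w⁆ ∈ Z := hcomm _ hu w hw
      have h0 : ρ ⁅⁅g, c⁆, w⁆ - 1 = 0 := by
        refine eq_zero_of_forall_eigen ρ hi hkZ _ (fun a ha v => ?_) fun ψ f hf => ?_
        · rw [LinearMap.sub_apply, LinearMap.sub_apply, map_sub, Module.End.one_apply, Module.End.one_apply,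
            ← rep_mul_apply, ← rep_mul_apply, (hcen a (hZQ ha) _ hm).eq]
        by_cases hf0 : f = 0
        · rw [hf0, map_zero]
        obtain ⟨χ, μ, hfχ, hμ⟩ := heig ψ f hf hf0
        rw [LinearMap.sub_apply, Module.End.one_apply, ((hg χ μ hμ).2 c hc).2.2 w hw f hfχ, sub_self]
      have h4 := hinj ((sub_eq_zero.1 h0).trans (map_one ρ).symm)
      exact (commutatorElement_eq_one_iff_mul_comm.1 h4).symm
    obtain ⟨i, hgi⟩ := hT ⟨g, hgT⟩
    replace hgi : g ^ 2 ^ i = 1 := congrArg Subtype.val hgi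
    have hfixQ : ∀ c ∈ Q, g * c * g⁻¹ = c := by
      intro c hc
      set z := ⁅g, c⁆ with hz
      have e0 : g * c * g⁻¹ = z * c := by rw [hz, commutatorElement_def, inv_mul_cancel_right]
      have hpow : ∀ n : ℕ, g ^ n * c * (g ^ n)⁻¹ = z ^ n * c := by
        intro n
        induction n with
        | zero => simp
        | succ n ih =>
          rw [pow_succ' g, show g * g ^ n * c * (g * g ^ n)⁻¹ = g * (g ^ n * c * (g ^ n)⁻¹) * g⁻¹ by group, ih,
            show g * (z ^ n * c) * g⁻¹ = g * z ^ n * g⁻¹ * (g * c * g⁻¹) by group,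
            hgZ _ (pow_mem (hmod c hc) n), e0, ← mul_assoc, ← pow_succ]
      have e2 := hpow (2 ^ i)
      rw [hgi, one_mul, inv_one, mul_one, right_eq_mul] at e2
      obtain ⟨j, hj⟩ := hOp ⟨z, hQO (hZQ (hmod c hc))⟩
      have hz1 : z = 1 := orderOf_eq_one_iff.1 (Nat.eq_one_of_dvd_coprimes
        (((Nat.coprime_primes Nat.prime_two hr.out).2 hr2.symm).pow i j)
        (orderOf_dvd_of_pow_eq_one e2) (orderOf_dvd_of_pow_eq_one (congrArg Subtype.val hj)))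
      rw [e0, hz1, one_mul]
    let φ : MulAut O := O.normalizerMonoidHom ⟨g, by rw [normalizer_eq_top]; exact mem_top _⟩
    have hφ : φ = 1 := by
      refine hfix φ ?_ fun a ha => Subtype.ext (hfixQ _ ha)
      refine Nat.Coprime.coprime_dvd_left (orderOf_dvd_of_pow_eq_one ?_)
        (((Nat.coprime_primes Nat.prime_two hr.out).2 hr2.symm).pow_left i)
      rw [← map_pow]
      convert map_one O.normalizerMonoidHom
      exact Subtype.ext hgi
    have e : ((φ (⟨x, hx⟩ : O) : O) : H) = x := by rw [hφ]; rfl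
    exact mul_inv_eq_iff_eq_mul.1 e
  refine ⟨fun a ha x hx => ?_, fun hsq n hn hnB b hb x hx => ?_⟩
  · refine detect _ (dser_le T _ (mul_mem ha ha)) (fun χ μ hS => ?_) x hx
    obtain ⟨h1, h2, -⟩ := hmember χ μ hS
    exact ⟨h1 (mul_mem ha ha), h2 a ha⟩
  · have hc : ⁅n, b⁆ ∈ dser T (e + 1) := by rw [dser_succ]; exact commutator_mem_commutator hnB hb
    refine detect _ (dser_le T _ hc) (fun χ μ hS => ?_) x hx
    obtain ⟨h1, -, h3⟩ := hmember χ μ hS
    refine ⟨h1 hc, h3 n (closure_mono ?_ hn) hnB b hb⟩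
    rintro u ⟨huT, h, a, ha, rfl⟩
    refine ⟨huT, ?_, ?_⟩
    · set S := wmem ρ Z Q χ μ
      obtain ⟨-, χ', μ', hS'⟩ := weights_invariant ρ Z Q h⁻¹ hS
      have hfix' : (S.map (ρ h⁻¹)).map (ρ a) = S.map (ρ h⁻¹) := by
        have h0 := weights_invariant ρ Z Q h⁻¹ hS
        rw [hS'] at h0 ⊢
        exact (hmember χ' μ' h0).1 ha
      rw [mem_fixer, show h * a * h⁻¹ = h * (a * h⁻¹) by group, ← map_map_rep, ← map_map_rep ρ a h⁻¹, hfix',
        map_map_rep, mul_inv_cancel, map_rep_one]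
    · rw [show h * a * h⁻¹ * (h * a * h⁻¹) = h * (a * a) * h⁻¹ by group, hsq a ha, mul_one, mul_inv_cancel]

/-- A `2`-element centralizing the odd cores is trivial. -/
theorem eq_one_of_commute_pCores [Group.IsSolvable H] (hbot : Cfsg.pCore 2 H = ⊥) {g : H} {i : ℕ}
    (hg : g ^ 2 ^ i = 1)
    (h : ∀ (r : ℕ) [Fact r.Prime], r ≠ 2 → ∀ x ∈ Cfsg.pCore r H, Commute g x) : g = 1 := by
  classical
  haveI : Fact (Nat.Prime 2) := ⟨Nat.prime_two⟩
  have hFK : Cfsg.fittingSubgroup H ≤ Cfsg.pPrimeCore 2 H := by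
    rw [CfsgLib.Coprime.fitting_eq_iSup_pCore]
    refine iSup_le fun s => ?_
    haveI : Fact (s : ℕ).Prime := ⟨s.2⟩
    by_cases hs : (s : ℕ) = 2
    · rw [hs, hbot]; exact bot_le
    haveI : (Cfsg.pCore (s : ℕ) H).Normal := CfsgLib.Coprime.pCore_normal' _
    refine CfsgLib.Coprime.le_pPrimeCore ?_
    obtain ⟨e, he⟩ := IsPGroup.iff_card.1 (CfsgLib.Coprime.pCore_isPGroup (G := H) (s : ℕ))
    rw [he]
    exact ((Nat.coprime_primes s.2 Nat.prime_two).2 hs).pow_left e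
  have hgF : Cfsg.fittingSubgroup H ≤ centralizer ({g} : Set H) := by
    rw [CfsgLib.Coprime.fitting_eq_iSup_pCore]
    refine iSup_le fun s x hx => ?_
    haveI : Fact (s : ℕ).Prime := ⟨s.2⟩
    by_cases hs : (s : ℕ) = 2
    · rw [hs, hbot, mem_bot] at hx
      rw [hx]; exact one_mem _
    exact mem_centralizer_singleton_iff.2 (h (s : ℕ) hs x hx).eq.symm
  have hgK : g ∈ Cfsg.pPrimeCore 2 H :=
    hFK (CfsgLib.Coprime.centralizer_fitting_le (mem_centralizer_iff.2 fun x hx =>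
      mem_centralizer_singleton_iff.1 (hgF hx)))
  exact orderOf_eq_one_iff.1 (Nat.eq_one_of_dvd_coprimes
    ((CfsgLib.Coprime.pPrimeCore_coprime (G := H) Nat.prime_two).pow_right i)
    (by rw [← Subgroup.orderOf_mk g hgK]; exact orderOf_dvd_natCard _) (orderOf_dvd_of_pow_eq_one hg))

/-- **The key fact.** -/
theorem key [Group.IsSolvable H] (ρ : H →* Module.End k W) (hinj : Function.Injective ρ)
    (hbot : Cfsg.pCore 2 H = ⊥) {T : Subgroup H} (hT : IsPGroup 2 T) {e : ℕ}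
    (hzero : chain ρ T (e + 2) = ⊥) :
    (∀ a ∈ dser T (e + 1), a * a = 1) ∧
    ∀ n ∈ closure {u | u ∈ T ∧ ∃ h : H, ∃ a ∈ dser T (e + 1), u = h * a * h⁻¹}, n ∈ dser T e →
      ∀ b ∈ dser T e, Commute n b := by
  have h2 : ∀ g ∈ T, ∃ i : ℕ, g ^ 2 ^ i = 1 := fun g hg =>
    (hT ⟨g, hg⟩).imp fun i hi => congrArg Subtype.val hi
  have hsq : ∀ a ∈ dser T (e + 1), a * a = 1 := fun a ha => by
    obtain ⟨i, hi⟩ := h2 _ (dser_le T _ (mul_mem ha ha))
    exact eq_one_of_commute_pCores hbot hi fun r _ hr2 x hx => (pCore_key ρ hinj hr2 hT hzero).1 a ha x hx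
  refine ⟨hsq, fun n hn hnB b hb => ?_⟩
  have hc : ⁅n, b⁆ ∈ T := by
    rw [commutatorElement_def]
    exact mul_mem (mul_mem (mul_mem (dser_le T _ hnB) (dser_le T _ hb)) (inv_mem (dser_le T _ hnB)))
      (inv_mem (dser_le T _ hb))
  obtain ⟨i, hi⟩ := h2 _ hc
  exact commutatorElement_eq_one_iff_commute.1 (eq_one_of_commute_pCores hbot hi
    fun r _ hr2 x hx => (pCore_key ρ hinj hr2 hT hzero).2 hsq n hn hnB b hb x hx)

end CfsgLib.PGroup.DerivedTwo
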