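import Cfsg.Agent.Lib.PGroup.RepWeights
import Mathlib.RingTheory.RootsOfUnity.PrimitiveRoots
import Mathlib.LinearAlgebra.Eigenspace.Triangularizable
import Mathlib.Algebra.CharP.Two

/-!
# A class two group of odd prime exponent modulo scalars, in characteristic two

The basic facts: the scalars have odd order, commutators pair `R` with itself, an involution
normalizing `R` splits it into fixed and inverted elements.
-/

set_option autoImplicit false
set_option linter.style.haveILetI false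
set_option linter.unusedSectionVars false

open Subgroup
open scoped commutatorElement

namespace CfsgLib.PGroup.DerivedTwo

universe u v w

variable {H : Type u} [Group H] {k : Type v} [Field k] {W : Type w} [AddCommGroup W] [Module k W]

/-- `R` has class two over the scalars `K` and `K` is its centre. -/
structure Frame (ρ : H →* Module.End k W) (r : ℕ) (R K : Subgroup H) : Prop where
  inj : Function.Injective ρ
  le : K ≤ R
  scalar : ∀ x ∈ K, ∃ c : k, ρ x = c • 1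
  comm : ∀ x ∈ R, ∀ y ∈ R, ⁅x, y⁆ ∈ K
  pow : ∀ x ∈ R, x ^ r ∈ K
  nondeg : ∀ x ∈ R, (∀ y ∈ R, Commute x y) → x ∈ K
  prime : r.Prime
  odd : r ≠ 2

/-- Congruence modulo `K`. -/
def Eqv (K : Subgroup H) (x y : H) : Prop := x⁻¹ * y ∈ K

theorem Eqv.refl (K : Subgroup H) (x : H) : Eqv K x x := by
  show x⁻¹ * x ∈ K
  rw [inv_mul_cancel]; exact one_mem K

theorem Eqv.symm {K : Subgroup H} {x y : H} (h : Eqv K x y) : Eqv K y x := by
  have := inv_mem (show x⁻¹ * y ∈ K from h)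
  rwa [mul_inv_rev, inv_inv] at this

theorem Eqv.trans {K : Subgroup H} {x y z : H} (h : Eqv K x y) (h' : Eqv K y z) : Eqv K x z := by
  have := mul_mem (show x⁻¹ * y ∈ K from h) (show y⁻¹ * z ∈ K from h')
  rwa [mul_assoc, mul_inv_cancel_left] at this

theorem eqv_one_iff {K : Subgroup H} {x : H} : Eqv K x 1 ↔ x ∈ K := by
  rw [Eqv, mul_one, inv_mem_iff]

theorem eqv_mul_right {K : Subgroup H} (x : H) {m : H} (hm : m ∈ K) : Eqv K x (x * m) := by
  show x⁻¹ * (x * m) ∈ K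
  rwa [inv_mul_cancel_left]

namespace Frame

variable {ρ : H →* Module.End k W} {r : ℕ} {R K : Subgroup H} (hF : Frame ρ r R K)
include hF

theorem central {x : H} (hx : x ∈ K) (g : H) : Commute g x := by
  obtain ⟨c, hc⟩ := hF.scalar x hx
  refine hF.inj ?_
  rw [map_mul, map_mul, hc, mul_smul_comm, smul_mul_assoc, mul_one, one_mul]

theorem eqv_conj (g : H) {x y : H} (h : Eqv K x y) : Eqv K (g * x * g⁻¹) (g * y * g⁻¹) := by
  show (g * x * g⁻¹)⁻¹ * (g * y * g⁻¹) ∈ K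
  rw [show (g * x * g⁻¹)⁻¹ * (g * y * g⁻¹) = g * (x⁻¹ * y) * g⁻¹ by group, (hF.central h g).eq,
    mul_inv_cancel_right]
  exact h

theorem eqv_mul {x y x' y' : H} (h : Eqv K x y) (h' : Eqv K x' y') : Eqv K (x * x') (y * y') := by
  show (x * x')⁻¹ * (y * y') ∈ K
  rw [show (x * x')⁻¹ * (y * y') = x'⁻¹ * (x⁻¹ * y) * x' * (x'⁻¹ * y') by group,
    (hF.central h x'⁻¹).eq, inv_mul_cancel_right]
  exact mul_mem h h'

theorem eqv_inv {x y : H} (h : Eqv K x y) : Eqv K x⁻¹ y⁻¹ := by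
  show x⁻¹⁻¹ * y⁻¹ ∈ K
  rw [inv_inv, show x * y⁻¹ = x * (x⁻¹ * y)⁻¹ * x⁻¹ by group, (hF.central (inv_mem h) x).eq,
    mul_inv_cancel_right]
  exact inv_mem h

theorem commute_of_eqv {g x y : H} (h : Eqv K x y) (hc : Commute g x) : Commute g y := by
  rw [← mul_inv_cancel_left x y]
  exact hc.mul_right (hF.central h g)

theorem comm_mul_left {x x' y : H} (hx : x ∈ R) (hx' : x' ∈ R) (hy : y ∈ R) :
    ⁅x * x', y⁆ = ⁅x, y⁆ * ⁅x', y⁆ := by
  calc ⁅x * x', y⁆ = x * ⁅x', y⁆ * x⁻¹ * ⁅x, y⁆ := by simp only [commutatorElement_def]; group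
    _ = ⁅x', y⁆ * ⁅x, y⁆ := by rw [(hF.central (hF.comm x' hx' y hy) x).eq, mul_inv_cancel_right]
    _ = ⁅x, y⁆ * ⁅x', y⁆ := (hF.central (hF.comm x' hx' y hy) _).symm.eq

theorem comm_mul_right {x y y' : H} (hx : x ∈ R) (hy : y ∈ R) (hy' : y' ∈ R) :
    ⁅x, y * y'⁆ = ⁅x, y⁆ * ⁅x, y'⁆ := by
  calc ⁅x, y * y'⁆ = ⁅x, y⁆ * (y * ⁅x, y'⁆ * y⁻¹) := by simp only [commutatorElement_def]; group
    _ = ⁅x, y⁆ * ⁅x, y'⁆ := by rw [(hF.central (hF.comm x hx y' hy') y).eq, mul_inv_cancel_right]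

theorem comm_conj (g : H) {x y : H} (hx : x ∈ R) (hy : y ∈ R) :
    ⁅g * x * g⁻¹, g * y * g⁻¹⁆ = ⁅x, y⁆ := by
  rw [show ⁅g * x * g⁻¹, g * y * g⁻¹⁆ = g * ⁅x, y⁆ * g⁻¹ by simp only [commutatorElement_def]; group,
    (hF.central (hF.comm x hx y hy) g).eq, mul_inv_cancel_right]

theorem comm_congr {x y x' y' : H} (h : Eqv K x x') (h' : Eqv K y y') : ⁅x, y⁆ = ⁅x', y'⁆ := by
  obtain ⟨m, hm, rfl⟩ : ∃ m, m ∈ K ∧ x' = x * m := ⟨_, h, (mul_inv_cancel_left x x').symm⟩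
  obtain ⟨n, hn, rfl⟩ : ∃ n, n ∈ K ∧ y' = y * n := ⟨_, h', (mul_inv_cancel_left y y').symm⟩
  have e : ∀ a b c : H, (∀ g, Commute g c) → ⁅a * c, b⁆ = ⁅a, b⁆ := fun a b c hc => by
    rw [commutatorElement_def, commutatorElement_def, mul_inv_rev, mul_assoc a c b, ← (hc b).eq]
    group
  symm
  rw [e x (y * n) m (hF.central hm), ← commutatorElement_inv, e y x n (hF.central hn), commutatorElement_inv]

theorem mul_self_eq_one [CharP k 2] [Nontrivial W] {x : H} (hx : x ∈ K) (h : x * x = 1) : x = 1 := by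
  obtain ⟨c, hc⟩ := hF.scalar x hx
  have h1 : (c * c) • (1 : Module.End k W) = (1 : k) • 1 := by
    have h0 := congrArg ρ h
    rw [map_mul, hc, smul_mul_smul_comm, one_mul, map_one] at h0
    rw [h0, one_smul]
  have h2 : c * c = 1 := smul_left_injective k (one_ne_zero (α := Module.End k W)) h1
  have h3 : c = 1 := by
    rcases mul_self_eq_one_iff.1 h2 with e | e
    · exact e
    · rw [e, CharTwo.neg_eq]
  exact hF.inj (by rw [map_one, hc, h3, one_smul])

variable [CharP k 2] [Nontrivial W]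

theorem two_pow_eq_one : ∀ (i : ℕ) {x : H}, x ∈ K → x ^ 2 ^ i = 1 → x = 1
  | 0, x, _, h => by rwa [pow_zero, pow_one] at h
  | i + 1, x, hx, h => two_pow_eq_one i hx (hF.mul_self_eq_one (pow_mem hx _) (by
      rw [← pow_two, ← pow_mul, ← pow_succ, h]))

theorem ne_two : 3 ≤ r := by
  have := hF.prime.two_le
  have := hF.odd
  omega

theorem comm_pow_eq_one {x y : H} (hx : x ∈ R) (hy : y ∈ R) : ⁅x, y⁆ ^ r = 1 := by
  have h : ∀ n : ℕ, ⁅x ^ n, y⁆ = ⁅x, y⁆ ^ n := by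
    intro n
    induction n with
    | zero => rw [pow_zero, pow_zero, commutatorElement_one_left]
    | succ n ih => rw [pow_succ, pow_succ, hF.comm_mul_left (pow_mem hx n) hx hy, ih]
  rw [← h, commutatorElement_eq_one_iff_commute]
  exact (hF.central (hF.pow x hx) y).symm

/-- A `2`-element trivial on `R` modulo `K` centralizes `R`. -/
theorem commute_of_trivial {g x : H} {i : ℕ} (hg : g ^ 2 ^ i = 1) (h : Eqv K x (g * x * g⁻¹)) :
    Commute g x := by
  set m := x⁻¹ * (g * x * g⁻¹) with hm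
  have hgx : g * x * g⁻¹ = x * m := (mul_inv_cancel_left x _).symm
  have hpow : ∀ n : ℕ, g ^ n * x * (g ^ n)⁻¹ = x * m ^ n := by
    intro n
    induction n with
    | zero => simp
    | succ n ih =>
      rw [show g ^ (n + 1) * x * (g ^ (n + 1))⁻¹ = g * (g ^ n * x * (g ^ n)⁻¹) * g⁻¹ by rw [pow_succ']; group,
        ih, show g * (x * m ^ n) * g⁻¹ = (g * x * g⁻¹) * (g * m ^ n * g⁻¹) by group, hgx,
        (hF.central (pow_mem h n) g).eq, mul_inv_cancel_right, mul_assoc, ← pow_succ']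
  have e := hpow (2 ^ i)
  rw [hg, one_mul, inv_one, mul_one, left_eq_mul] at e
  refine mul_inv_eq_iff_eq_mul.1 ?_
  rw [hgx, hF.two_pow_eq_one i (x := m) h e, mul_one]

variable [Finite H]

theorem exists_sqrt {x : H} (hx : x ∈ K) : ∃ y ∈ K, y * y = x := by
  obtain ⟨s, hs⟩ | ⟨s, hs⟩ := Nat.even_or_odd (orderOf x)
  · exfalso
    have h0 : 0 < orderOf x := orderOf_pos x
    have h1 : x ^ s = 1 := hF.mul_self_eq_one (pow_mem hx s) (by rw [← pow_add, ← hs, pow_orderOf_eq_one])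
    have := Nat.le_of_dvd (by omega) (orderOf_dvd_of_pow_eq_one h1)
    omega
  · refine ⟨x ^ (s + 1), pow_mem hx _, ?_⟩
    rw [← pow_add, show s + 1 + (s + 1) = orderOf x + 1 by omega, pow_succ, pow_orderOf_eq_one, one_mul]

/-- An element inverted modulo `K` is congruent to an inverted one. -/
theorem exists_inverted {z x : H} (h : Eqv K x⁻¹ (z * x * z⁻¹)) :
    ∃ m ∈ K, z * (x * m) * z⁻¹ = (x * m)⁻¹ := by
  obtain ⟨m, hm, e⟩ := hF.exists_sqrt (inv_mem h)
  refine ⟨m, hm, ?_⟩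
  rw [show z * (x * m) * z⁻¹ = z * x * z⁻¹ * (z * m * z⁻¹) by group, (hF.central hm z).eq, mul_inv_cancel_right,
    ← mul_inv_cancel_left x⁻¹ (z * x * z⁻¹), mul_inv_rev, (hF.central (inv_mem hm) x⁻¹).symm.eq, mul_assoc]
  congr 1
  rw [← inv_inv (x⁻¹⁻¹ * (z * x * z⁻¹)), ← e]
  group

/-- A subgroup over `K` containing the elements fixed and inverted by an involution contains `R`. -/
theorem split {z : H} (hz : z * z = 1) (hzR : z ∈ normalizer (R : Set H)) (S : Subgroup H) (hKS : K ≤ S)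
    (hfix : ∀ y ∈ R, Commute z y → y ∈ S) (hinv : ∀ y ∈ R, z * y * z⁻¹ = y⁻¹ → y ∈ S) : R ≤ S := by
  intro x hx
  have hx' : z * x * z⁻¹ ∈ R := (mem_normalizer_iff.1 hzR x).1 hx
  have hzz : z * (z * x * z⁻¹) * z⁻¹ = x := by
    rw [show z * (z * x * z⁻¹) * z⁻¹ = (z * z) * x * (z * z)⁻¹ by group, hz, one_mul, inv_one, mul_one]
  have hswap : ∀ a ∈ R, ∀ b ∈ R, Eqv K (a * b) (b * a) := fun a ha b hb => by
    show (a * b)⁻¹ * (b * a) ∈ K
    rw [show (a * b)⁻¹ * (b * a) = ⁅b⁻¹, a⁻¹⁆ by simp only [commutatorElement_def]; group]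
    exact hF.comm _ (inv_mem hb) _ (inv_mem ha)
  set p := x * (z * x * z⁻¹) with hp
  have hpS : p ∈ S := by
    refine hfix p (mul_mem hx hx') (hF.commute_of_trivial (i := 1) (by rw [pow_one, pow_two, hz]) ?_)
    rw [hp, show z * (x * (z * x * z⁻¹)) * z⁻¹ = z * x * z⁻¹ * (z * (z * x * z⁻¹) * z⁻¹) by group, hzz]
    exact hswap _ hx _ hx'
  set q := x * (z * x * z⁻¹)⁻¹ with hq
  have hqS : q ∈ S := by
    obtain ⟨m, hm, e⟩ := hF.exists_inverted (z := z) (x := q) (by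
      rw [hq, mul_inv_rev, inv_inv,
        show z * (x * (z * x * z⁻¹)⁻¹) * z⁻¹ = z * x * z⁻¹ * (z * (z * x * z⁻¹) * z⁻¹)⁻¹ by group, hzz]
      exact Eqv.refl K _)
    have := mul_mem (hinv _ (mul_mem (mul_mem hx (inv_mem hx')) (hF.le hm)) e) (inv_mem (hKS hm))
    rwa [mul_inv_cancel_right] at this
  have hxx : x * x ∈ S := by
    have h1 : Eqv K (q * p) (x * x) := by
      have h2 : Eqv K ((z * x * z⁻¹)⁻¹ * x) (x * (z * x * z⁻¹)⁻¹) := hswap _ (inv_mem hx') _ hx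
      have h3 := hF.eqv_mul (hF.eqv_mul (Eqv.refl K x) h2) (Eqv.refl K (z * x * z⁻¹))
      rw [show x * ((z * x * z⁻¹)⁻¹ * x) * (z * x * z⁻¹) = q * p by rw [hp, hq]; group,
        show x * (x * (z * x * z⁻¹)⁻¹) * (z * x * z⁻¹) = x * x by group] at h3
      exact h3
    rw [← mul_inv_cancel_left (q * p) (x * x)]
    exact mul_mem (mul_mem hqS hpS) (hKS h1)
  obtain ⟨s, hs⟩ := hF.prime.odd_of_ne_two hF.odd
  rw [show x = (x * x) ^ (s + 1) * (x ^ r)⁻¹ by
    rw [← pow_two, ← pow_mul, show 2 * (s + 1) = 1 + r by omega, pow_add, pow_one, mul_inv_cancel_right]]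
  exact mul_mem (pow_mem hxx _) (inv_mem (hKS (hF.pow x hx)))

theorem commute_fixed_inverted {z x y : H} (hx : x ∈ R) (hy : y ∈ R) (hxi : z * x * z⁻¹ = x⁻¹)
    (hyf : Commute z y) : Commute x y := by
  have h1 : ⁅x⁻¹, y⁆ = ⁅x, y⁆ := by
    conv_rhs => rw [← hF.comm_conj z hx hy, hxi, hyf.eq, mul_inv_cancel_right]
  have h2 := hF.comm_mul_left (inv_mem hx) hx hy
  rw [inv_mul_cancel, commutatorElement_one_left, h1] at h2
  exact commutatorElement_eq_one_iff_commute.1 (hF.mul_self_eq_one (hF.comm x hx y hy) h2.symm)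

/-- Commutation with a fixed element of `R`, as a homomorphism. -/
def commHom {y : H} (hy : y ∈ R) : R →* H :=
  MonoidHom.mk' (fun x => ⁅(x : H), y⁆) fun a b => hF.comm_mul_left a.2 b.2 hy

theorem comm_zpow_left {x y : H} (hx : x ∈ R) (hy : y ∈ R) (i : ℤ) : ⁅x ^ i, y⁆ = ⁅x, y⁆ ^ i :=
  map_zpow (hF.commHom hy) ⟨x, hx⟩ i

theorem comm_zpow_right {x y : H} (hx : x ∈ R) (hy : y ∈ R) (i : ℤ) : ⁅x, y ^ i⁆ = ⁅x, y⁆ ^ i := by
  rw [← commutatorElement_inv, hF.comm_zpow_left hy hx, ← inv_zpow, commutatorElement_inv]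

theorem mem_zpowers_of_root {c e : H} (hc : c ∈ K) (he : e ∈ K) (hc1 : c ≠ 1) (hcr : c ^ r = 1)
    (her : e ^ r = 1) : e ∈ zpowers c := by
  obtain ⟨a, ha⟩ := hF.scalar c hc
  obtain ⟨b, hb⟩ := hF.scalar e he
  have hval : ∀ (x : H) (t : k), ρ x = t • 1 → ∀ n : ℕ, ρ (x ^ n) = t ^ n • 1 := fun x t h n => by
    rw [map_pow, h, smul_pow, one_pow]
  have hinj : ∀ (x : H) (t : k), ρ x = t • 1 → t = 1 → x = 1 := fun x t h ht =>
    hF.inj (by rw [map_one, h, ht, one_smul])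
  have h1 : ∀ (x : H) (t : k), ρ x = t • 1 → ∀ n : ℕ, x ^ n = 1 → t ^ n = 1 := fun x t h n hn =>
    smul_left_injective k (one_ne_zero (α := Module.End k W))
      (show t ^ n • (1 : Module.End k W) = (1 : k) • 1 by rw [← hval x t h, hn, map_one, one_smul])
  haveI : NeZero r := ⟨hF.prime.ne_zero⟩
  have hprim : IsPrimitiveRoot a r := by
    refine IsPrimitiveRoot.iff_orderOf.2 ?_
    haveI := Fact.mk hF.prime
    exact orderOf_eq_prime (h1 c a ha r hcr) fun e => hc1 (hinj c a ha e)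
  obtain ⟨i, -, hi⟩ := hprim.eq_pow_of_pow_eq_one (h1 e b hb r her)
  refine mem_zpowers_iff.2 ⟨i, hF.inj ?_⟩
  rw [zpow_natCast, hval c a ha, hi, hb]

/-- An operator commuting with `w` and killed by `q - 1`, where `q` and `w` do not commute, is zero. -/
theorem eq_zero_of_kill {X : Module.End k W} {q w : H} (hq : q ∈ R) (hw : w ∈ R) (hne : ¬ Commute q w)
    (hX : X * (ρ q - 1) = 0) (hcomm : Commute X (ρ w)) : X = 0 := by
  obtain ⟨c, hc⟩ := hF.scalar _ (hF.comm w hw q hq)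
  have hwq : ρ w * ρ q = c • (ρ q * ρ w) := by
    rw [← map_mul, ← map_mul, show w * q = ⁅w, q⁆ * (q * w) by rw [commutatorElement_def]; group, map_mul ρ ⁅w, q⁆,
      hc, smul_mul_assoc, one_mul]
  have hXq : X * ρ q = X := by rwa [mul_sub, mul_one, sub_eq_zero] at hX
  have hw' : ρ w * ρ w⁻¹ = 1 := by rw [← map_mul, mul_inv_cancel, map_one]
  have h2 : (c - 1) • X = 0 := by
    have h3 : X * ρ w = c • (X * ρ w) :=
      calc X * ρ w = ρ w * (X * ρ q) := by rw [hXq, hcomm.eq]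
        _ = X * (ρ w * ρ q) := by rw [← mul_assoc, ← hcomm.eq, mul_assoc]
        _ = c • (X * ρ w) := by rw [hwq, mul_smul_comm, ← mul_assoc, hXq]
    have h4 := congrArg (· * ρ w⁻¹) h3
    simp only [smul_mul_assoc, mul_assoc, hw', mul_one] at h4
    rw [sub_smul, one_smul, ← h4, sub_self]
  refine (smul_eq_zero.1 h2).resolve_left fun e => hne ?_
  rw [sub_eq_zero] at e
  rw [e, one_smul, ← map_one ρ] at hc
  exact (commutatorElement_eq_one_iff_commute.1 (hF.inj hc)).symm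

end Frame

end CfsgLib.PGroup.DerivedTwo
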