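import Cfsg.Agent.Lib.PGroup.DerivedTwo.Series
import Cfsg.Agent.Lib.PGroup.DerivedTwo.Chain
import Cfsg.Agent.Lib.PGroup.ModularB.DoubleLength
import Cfsg.Agent.Lib.PGroup.ModularB.PLength
import Cfsg.Agent.Lib.LocalStructure.Basic
import Cfsg.Agent.Lib.PGroup.MaxPNilpotent

/-!
# The second layer as a linear group

For a finite soluble group `H` with `L = O_{2',2}(H)`, the Frattini quotient of `L / O_{2'}(H)`, made a
vector space over the algebraic closure of `𝔽₂`, is a faithful module of `H / L`.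
-/

set_option autoImplicit false
set_option linter.style.haveILetI false
set_option linter.unusedSectionVars false

open Subgroup
open scoped commutatorElement

namespace CfsgLib.PGroup.DerivedTwo

universe u v w

/-- The field. -/
abbrev kk : Type := AlgebraicClosure (ZMod 2)

instance : Fact (Nat.Prime 2) := ⟨Nat.prime_two⟩

instance : CharP kk 2 := charP_of_injective_algebraMap (algebraMap (ZMod 2) kk).injective 2

section Chains

variable {H : Type u} [Group H] {k : Type v} [Field k] {W : Type w} [AddCommGroup W] [Module k W]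

/-- An equivariant map carries the chain into the chain. -/
theorem map_chain_le {H' : Type*} [Group H'] {W' : Type*} [AddCommGroup W'] [Module k W'] (π : H →* H')
    (ρ : H →* Module.End k W) (ρ' : H' →* Module.End k W') (φ : W →ₗ[k] W')
    (hφ : ∀ g w, φ (ρ g w) = ρ' (π g) (φ w)) (T : Subgroup H) :
    ∀ i, (chain ρ T i).map φ ≤ chain ρ' (T.map π) i
  | 0 => le_top
  | i + 1 => by
    rw [Submodule.map_le_iff_le_comap]
    refine aug_le ρ fun g hg u hu => ?_
    rw [Submodule.mem_comap, map_sub, hφ]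
    refine mem_chain_succ ρ' ?_ (map_chain_le π ρ ρ' φ hφ T i (Submodule.mem_map_of_mem hu))
    rw [← dser_map]
    exact mem_map_of_mem π hg

/-- A surjective one carries it onto the chain. -/
theorem chain_le_map {H' : Type*} [Group H'] {W' : Type*} [AddCommGroup W'] [Module k W'] (π : H →* H')
    (ρ : H →* Module.End k W) (ρ' : H' →* Module.End k W') (φ : W →ₗ[k] W') (hs : Function.Surjective φ)
    (hφ : ∀ g w, φ (ρ g w) = ρ' (π g) (φ w)) (T : Subgroup H) :
    ∀ i, chain ρ' (T.map π) i ≤ (chain ρ T i).map φ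
  | 0 => by
    show (⊤ : Submodule k W') ≤ (⊤ : Submodule k W).map φ
    rw [Submodule.map_top, LinearMap.range_eq_top.2 hs]
  | i + 1 => by
    refine aug_le ρ' fun g hg u hu => ?_
    rw [← dser_map] at hg
    obtain ⟨g, hg', rfl⟩ := hg
    obtain ⟨v, hv, rfl⟩ := chain_le_map π ρ ρ' φ hs hφ T i hu
    exact ⟨ρ g v - v, mem_chain_succ ρ hg' hv, by rw [map_sub, hφ]⟩

/-- A series of spanning sets bounds the chain. -/
theorem chain_le_span (ρ : H →* Module.End k W) (T : Subgroup H) (C : ℕ → Set W)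
    (h0 : Submodule.span k (C 0) = ⊤) : ∀ n,
    (∀ i < n, ∀ g ∈ dser T i, ∀ x ∈ C i, ρ g x - x ∈ C (i + 1)) → chain ρ T n ≤ Submodule.span k (C n)
  | 0, _ => h0.ge
  | n + 1, hstep => by
    refine aug_le ρ fun g hg u hu => ?_
    have h1 := chain_le_span ρ T C h0 n (fun i hi => hstep i (hi.trans (Nat.lt_succ_self n))) hu
    have hle : Submodule.span k (C n) ≤ (Submodule.span k (C (n + 1))).comap (ρ g - 1) :=
      Submodule.span_le.2 fun x hx => Submodule.subset_span (hstep n (Nat.lt_succ_self n) g hg x hx)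
    exact hle h1

end Chains

variable {H : Type u} [Group H] [Finite H]

/-- The second layer as a module. -/
theorem layer [Group.IsSolvable H] (T : Sylow 2 H) :
    ∃ (L : Subgroup H) (_ : L.Normal) (W : Type u) (_ : AddCommGroup W) (_ : Module kk W)
      (_ : FiniteDimensional kk W) (ρ : H ⧸ L →* Module.End kk W) (ι : H → W),
      Function.Injective ρ ∧ Cfsg.pCore 2 (H ⧸ L) = ⊥ ∧
      CfsgLib.PGroup.PLengthSeries.Ser 2 1 (⊥ : Subgroup H) L ∧
      Submodule.span kk (ι '' ((T : Subgroup H) ⊓ L : Subgroup H)) = ⊤ ∧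
      (∀ x ∈ L, ∀ y ∈ L, ι (x * y) = ι x + ι y) ∧
      (∀ h, ∀ x ∈ L, ρ (QuotientGroup.mk' L h) (ι x) = ι (h * x * h⁻¹)) ∧
      L = (Cfsg.upperPSeries 2 H 2).1 ∧
      ∀ u ∈ L, IsPGroup 2 (zpowers u) →
        ∃ g : H, g * u * g⁻¹ ∈ (T : Subgroup H) ∧ ι (g * u * g⁻¹) = ι u := by
  classical
  have hG : Cfsg.IsPSolvable 2 H := MaxPNilpotent.isPSolvable_of_solvable Nat.prime_two _ H rfl inferInstance
  set U₁ := (Cfsg.upperPSeries 2 H 1).1 with hU₁
  set U₂ := (Cfsg.upperPSeries 2 H 2).1 with hU₂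
  haveI : U₁.Normal := (Cfsg.upperPSeries 2 H 1).2
  haveI : U₂.Normal := (Cfsg.upperPSeries 2 H 2).2
  have hU₂eq : U₂ = stepP 2 U₁ := CfsgLib.PGroup.upperPSeries_succ_odd (n := 1) (by simp)
  have hbot : Cfsg.pPrimeCore 2 (H ⧸ U₁) = ⊥ :=
    CfsgLib.PGroup.pPrimeCore_stepPrime_eq_bot _ U₁ (CfsgLib.PGroup.upperPSeries_succ_even Even.zero)
  obtain ⟨Φ, hΦ, V, hV, hVel, hCV, -, hmap, hback⟩ :=
    ModularB.exists_reduced (CfsgLib.PGroup.isPSolvable_quotient Nat.prime_two hG U₁) hbot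
  haveI : IsMulCommutative V := hVel.1
  letI : CommGroup V :=
    { (inferInstance : Group V) with mul_comm := fun a b => isMulCommutative_iff.1 hVel.1 a b }
  have hVpow : ∀ v : V, v ^ 2 = 1 := fun v => Subtype.ext (by simpa using hVel.2 v v.2)
  have hVp : IsPGroup 2 V := fun w => ⟨1, by simpa using hVpow w⟩
  let f : H →* (H ⧸ U₁) ⧸ Φ := (QuotientGroup.mk' Φ).comp (QuotientGroup.mk' U₁)
  have hfs : Function.Surjective f :=
    (QuotientGroup.mk'_surjective Φ).comp (QuotientGroup.mk'_surjective U₁)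
  have hmemU : ∀ g : H, f g ∈ V ↔ g ∈ U₂ := fun g => by
    rw [hU₂eq, stepP, mem_comap]
    exact ⟨hback _, fun h => hmap (mem_map_of_mem _ h)⟩
  let cG : H →* MulAut V := (MulAut.conjNormal : (H ⧸ U₁) ⧸ Φ →* MulAut V).comp f
  have hcker : cG.ker = U₂ := by
    ext g
    rw [MonoidHom.mem_ker, ← hmemU]
    constructor
    · intro hg
      refine hCV (mem_centralizer_iff.2 fun w hw => ?_)
      have e1 := congrArg (fun e : MulAut V => ((e ⟨w, hw⟩ : V) : (H ⧸ U₁) ⧸ Φ)) hg
      change f g * w * (f g)⁻¹ = w at e1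
      exact (mul_inv_eq_iff_eq_mul.1 e1).symm
    · intro hg
      refine MulEquiv.ext fun w => Subtype.ext ?_
      show f g * w * (f g)⁻¹ = w
      rw [mul_inv_eq_iff_eq_mul]
      exact congrArg Subtype.val (isMulCommutative_iff.1 hVel.1 ⟨f g, hg⟩ w)
  let c : H ⧸ U₂ →* MulAut V := QuotientGroup.lift U₂ cG hcker.ge
  have hc : Function.Injective c := (injective_iff_map_eq_one c).2 fun y hy => by
    obtain ⟨g, rfl⟩ := QuotientGroup.mk_surjective y
    exact (QuotientGroup.eq_one_iff g).2 (hcker ▸ hy)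
  obtain ⟨hfd, -⟩ := CfsgLib.PGroup.finrank_addHom (V := V) hVpow kk
  let W := Module.Dual kk (Additive V →+ kk)
  let ρ : H ⧸ U₂ →* Module.End kk W :=
    { toFun := fun g => (dRep kk c g⁻¹).dualMap
      map_one' := by rw [inv_one, map_one]; exact LinearMap.dualMap_id
      map_mul' := fun a b => by
        rw [mul_inv_rev, map_mul]
        exact (LinearMap.dualMap_comp_dualMap _ _).symm }
  let ev : V → W := fun v =>
    { toFun := fun φ => φ (Additive.ofMul v)
      map_add' := fun _ _ => rfl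
      map_smul' := fun _ _ => rfl }
  let ι : H → W := fun x => if hx : f x ∈ V then ev ⟨f x, hx⟩ else 0
  have hι : ∀ (x : H) (hx : f x ∈ V), ι x = ev ⟨f x, hx⟩ := fun x hx => dif_pos hx
  have hinj : Function.Injective ρ := by
    refine (injective_iff_map_eq_one ρ).2 fun g hg => ?_
    have h1 : dRep kk c g⁻¹ = 1 := by
      refine LinearMap.ext fun φ => ?_
      refine (Module.forall_dual_apply_eq_zero_iff kk (dRep kk c g⁻¹ φ - φ)).1 (fun ψ => ?_) |> sub_eq_zero.1
      rw [map_sub, sub_eq_zero]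
      exact LinearMap.congr_fun (LinearMap.congr_fun hg ψ) φ
    have h2 := eq_one_of_dRep hVpow c h1
    exact inv_eq_one.1 (hc (h2.trans (map_one c).symm))
  obtain ⟨R, hR⟩ := CfsgLib.LS.sylow_inf_normal T U₂
  have hlift : ∀ v : V, ∃ x ∈ (T : Subgroup H) ⊓ U₂, f x = v := by
    intro v
    have h1 : (v : (H ⧸ U₁) ⧸ Φ) ∈ (T.mapSurjective hfs : Subgroup _) :=
      ModularB.le_sylow_of_normal hVp _ v.2
    rw [Sylow.coe_mapSurjective] at h1
    obtain ⟨x, hx, e⟩ := h1
    exact ⟨x, ⟨hx, (hmemU x).1 (e ▸ v.2)⟩, e⟩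
  refine ⟨U₂, inferInstance, W, inferInstance, inferInstance, inferInstance, ρ, ι, hinj,
    ModularB.pCore_stepP_eq_bot U₁ U₂ hU₂eq, ser_one, ?_, ?_, ?_, rfl, ?_⟩
  · by_contra hne
    obtain ⟨Ψ, hΨ, hle⟩ := Submodule.exists_le_ker_of_lt_top _ (lt_top_iff_ne_top.2 hne)
    refine hΨ ?_
    set φ := (Module.evalEquiv kk (Additive V →+ kk)).symm Ψ with hφ
    have hΨφ : ∀ w : W, Ψ w = w φ := fun w => by
      rw [hφ, Module.apply_evalEquiv_symm_apply]
    have hφ0 : φ = 0 := by
      refine AddMonoidHom.ext fun a => ?_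
      obtain ⟨x, hx, e⟩ := hlift a.toMul
      have hxV : f x ∈ V := e ▸ a.toMul.2
      have h1 := LinearMap.mem_ker.1 (hle (Submodule.subset_span ⟨x, hx, rfl⟩))
      rw [hΨφ, hι x hxV] at h1
      rw [AddMonoidHom.zero_apply, ← h1]
      show φ a = φ (Additive.ofMul (⟨f x, hxV⟩ : V))
      rw [show (⟨f x, hxV⟩ : V) = a.toMul from Subtype.ext e]
      rfl
    exact LinearMap.ext fun w => by rw [hΨφ, hφ0, map_zero, LinearMap.zero_apply]
  · intro x hx y hy
    have hx' := (hmemU x).2 hx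
    have hy' := (hmemU y).2 hy
    rw [hι _ ((hmemU _).2 (mul_mem hx hy)), hι x hx', hι y hy']
    refine LinearMap.ext fun φ => ?_
    show φ (Additive.ofMul (⟨f (x * y), _⟩ : V)) = φ (Additive.ofMul (⟨f x, hx'⟩ : V)) + φ (Additive.ofMul (⟨f y, hy'⟩ : V))
    rw [← map_add, ← ofMul_mul]
    congr 2
  · intro h x hx
    have hx' := (hmemU x).2 hx
    rw [hι x hx', hι _ ((hmemU _).2 ((inferInstance : U₂.Normal).conj_mem x hx h))]
    refine LinearMap.ext fun φ => ?_
    show dRep kk c (QuotientGroup.mk' U₂ h)⁻¹ φ (Additive.ofMul (⟨f x, hx'⟩ : V)) = φ (Additive.ofMul _)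
    rw [dRep_apply, inv_inv]
    congr 2
  · intro u hu hup
    have huR : IsPGroup 2 (zpowers (⟨u, hu⟩ : U₂)) :=
      (hup.comap_of_injective U₂.subtype U₂.subtype_injective).to_le
        (zpowers_le.2 (mem_comap.2 (mem_zpowers u)))
    obtain ⟨R', hR'⟩ := huR.exists_le_sylow
    obtain ⟨m, hm⟩ := MulAction.exists_smul_eq U₂ R' R
    have hconj : (m : H) * u * (m : H)⁻¹ ∈ (T : Subgroup H) := by
      have h1 : m * ⟨u, hu⟩ * m⁻¹ ∈ (R : Subgroup U₂) := by
        rw [← hm, Sylow.coe_subgroup_smul]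
        exact smul_mem_pointwise_smul _ (MulAut.conj m) _ (hR' (mem_zpowers _))
      have h2 := mem_map_of_mem U₂.subtype h1
      rw [hR] at h2
      exact h2.1
    refine ⟨m, hconj, ?_⟩
    have hu' := (hmemU u).2 hu
    have hm' := (hmemU m).2 m.2
    rw [hι u hu', hι _ ((hmemU _).2 ((inferInstance : U₂.Normal).conj_mem u hu m))]
    congr 1
    refine Subtype.ext ?_
    show f ((m : H) * u * (m : H)⁻¹) = f u
    rw [map_mul, map_mul, map_inv, mul_inv_eq_iff_eq_mul]
    exact congrArg Subtype.val (isMulCommutative_iff.1 hVel.1 ⟨_, hm'⟩ ⟨_, hu'⟩)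

end CfsgLib.PGroup.DerivedTwo
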