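import Cfsg.Agent.Lib.PGroup.DerivedTwo.Layer
import Cfsg.Agent.Lib.PGroup.DerivedTwo.Detect

/-!
# The `2`-length is at most the derived length of a Sylow `2`-subgroup

Proved together with: if the chain of length `d + 1` of a Sylow `2`-subgroup vanishes on a module in
characteristic two, then modulo a normal subgroup acting as a `2`-group the `2`-length is at most `d`.
-/

set_option autoImplicit false
set_option linter.style.haveILetI false
set_option linter.unusedSectionVars false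

open Subgroup
open scoped commutatorElement

namespace CfsgLib.PGroup.DerivedTwo

open CfsgLib.PGroup.PLengthSeries

universe u

/-- The statement on modules. -/
def ModuleBound (d : ℕ) : Prop :=
  ∀ (H : Type u) [Group H] [Finite H] [Group.IsSolvable H] (W : Type u) [AddCommGroup W] [Module kk W]
    [FiniteDimensional kk W] (ρ : H →* Module.End kk W) (T : Sylow 2 H),
    chain ρ (T : Subgroup H) (d + 1) = ⊥ →
      ∃ D : Subgroup H, (∀ x ∈ D, ∃ i : ℕ, ρ (x ^ 2 ^ i) = 1) ∧ Ser 2 d D ⊤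

/-- The statement on linear groups without normal `2`-subgroup. -/
def LinearBound (d : ℕ) : Prop :=
  ∀ (H : Type u) [Group H] [Finite H] [Group.IsSolvable H] (W : Type u) [AddCommGroup W] [Module kk W]
    [FiniteDimensional kk W] (ρ : H →* Module.End kk W), Function.Injective ρ → Cfsg.pCore 2 H = ⊥ →
    ∀ T : Sylow 2 H, chain ρ (T : Subgroup H) (d + 1) = ⊥ → Ser 2 d (⊥ : Subgroup H) ⊤

section Split

variable {H : Type u} [Group H] [Finite H] {W : Type u} [AddCommGroup W] [Module kk W]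
  (ρ : H →* Module.End kk W) (W₁ : Submodule kk W) (hinv : ∀ h, ∀ w ∈ W₁, ρ h w ∈ W₁)

/-- The action on an invariant subspace. -/
noncomputable def subAct : H →* Module.End kk W₁ where
  toFun h := (ρ h).restrict (hinv h)
  map_one' := LinearMap.ext fun x => Subtype.ext (by simp)
  map_mul' g h := LinearMap.ext fun x => Subtype.ext (by simp)

/-- The action on the quotient. -/
noncomputable def quotAct : H →* Module.End kk (W ⧸ W₁) where
  toFun h := W₁.mapQ W₁ (ρ h) (hinv h)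
  map_one' := LinearMap.ext fun x => by
    obtain ⟨x, rfl⟩ := Submodule.Quotient.mk_surjective W₁ x
    rw [Submodule.mapQ_apply, map_one]; rfl
  map_mul' g h := LinearMap.ext fun x => by
    obtain ⟨x, rfl⟩ := Submodule.Quotient.mk_surjective W₁ x
    rw [Submodule.mapQ_apply, map_mul, Module.End.mul_apply, Module.End.mul_apply, Submodule.mapQ_apply,
      Submodule.mapQ_apply]

theorem subAct_apply (h : H) (w : W₁) : ((subAct ρ W₁ hinv h w : W₁) : W) = ρ h w := rfl

theorem quotAct_apply (h : H) (w : W) :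
    quotAct ρ W₁ hinv h (Submodule.Quotient.mk w) = Submodule.Quotient.mk (ρ h w) := rfl

/-- Bounds on an invariant subspace and on the quotient combine. -/
theorem combine {d : ℕ}
    (h1 : ∃ D : Subgroup H, (∀ x ∈ D, ∃ i : ℕ, subAct ρ W₁ hinv (x ^ 2 ^ i) = 1) ∧ Ser 2 d D ⊤)
    (h2 : ∃ D : Subgroup H, (∀ x ∈ D, ∃ i : ℕ, quotAct ρ W₁ hinv (x ^ 2 ^ i) = 1) ∧ Ser 2 d D ⊤) :
    ∃ D : Subgroup H, (∀ x ∈ D, ∃ i : ℕ, ρ (x ^ 2 ^ i) = 1) ∧ Ser 2 d D ⊤ := by
  obtain ⟨D₁, hD₁, hs₁⟩ := h1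
  obtain ⟨D₂, hD₂, hs₂⟩ := h2
  refine ⟨D₁ ⊓ D₂, fun x hx => ?_, by simpa using ser_inf Nat.prime_two hs₁ hs₂⟩
  obtain ⟨i, hi⟩ := hD₁ x hx.1
  obtain ⟨j, hj⟩ := hD₂ x hx.2
  obtain ⟨y, hy⟩ : ∃ y, y = x ^ 2 ^ (i + j) := ⟨_, rfl⟩
  have hy1 : ∀ w ∈ W₁, ρ y w = w := by
    intro w hw
    have h := LinearMap.congr_fun (show subAct ρ W₁ hinv y = 1 by
      rw [hy, pow_add, pow_mul, map_pow, hi, one_pow]) ⟨w, hw⟩
    have h' := congrArg Subtype.val h
    rwa [subAct_apply] at h'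
  have hy2 : ∀ w, ρ y w - w ∈ W₁ := by
    intro w
    have h := LinearMap.congr_fun (show quotAct ρ W₁ hinv y = 1 by
      rw [hy, pow_add, mul_comm, pow_mul, map_pow, hj, one_pow]) (Submodule.Quotient.mk w)
    rw [quotAct_apply, Module.End.one_apply, Submodule.Quotient.eq] at h
    exact h
  refine ⟨i + j + 1, LinearMap.ext fun w => ?_⟩
  rw [pow_succ, pow_mul, ← hy, pow_two, rep_mul_apply, Module.End.one_apply]
  have h := hy1 _ (hy2 w)
  rw [map_sub, sub_eq_iff_eq_add] at h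
  have hneg : ∀ v : W, -v = v := fun v => by rw [← neg_one_smul kk v, CharTwo.neg_eq, one_smul]
  have htwo : ρ y w + ρ y w = 0 := by nth_rewrite 2 [← hneg (ρ y w)]; exact add_neg_cancel _
  rw [h, show ρ y w - w + ρ y w = ρ y w + ρ y w - w by abel, htwo, zero_sub, hneg]

end Split

theorem moduleBound_of_linearBound {d : ℕ} (hcore : LinearBound.{u} d) : ModuleBound.{u} d := by
  suffices key : ∀ (m : ℕ) (H : Type u) [Group H] [Finite H] [Group.IsSolvable H] (W : Type u)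
      [AddCommGroup W] [Module kk W] [FiniteDimensional kk W] (ρ : H →* Module.End kk W) (T : Sylow 2 H),
      Module.finrank kk W < m → chain ρ (T : Subgroup H) (d + 1) = ⊥ →
        ∃ D : Subgroup H, (∀ x ∈ D, ∃ i : ℕ, ρ (x ^ 2 ^ i) = 1) ∧ Ser 2 d D ⊤ by
    intro H _ _ _ W _ _ _ ρ T h
    exact key _ H W ρ T (Nat.lt_succ_self _) h
  intro m
  induction m with
  | zero => exact fun H _ _ _ W _ _ _ ρ T h => absurd h (Nat.not_lt_zero _)
  | succ m ih =>
  intro H _ _ _ W _ _ _ ρ T hm hzero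
  classical
  set π := QuotientGroup.mk' ρ.ker with hπ
  have hπs := QuotientGroup.mk'_surjective ρ.ker
  haveI : Group.IsSolvable (H ⧸ ρ.ker) := Group.isSolvable_of_surjective hπs
  let σ : H ⧸ ρ.ker →* Module.End kk W := QuotientGroup.lift ρ.ker ρ le_rfl
  have hσ : Function.Injective σ := by
    intro a b e
    obtain ⟨a, rfl⟩ := hπs a
    obtain ⟨b, rfl⟩ := hπs b
    refine QuotientGroup.eq.2 (MonoidHom.mem_ker.2 ?_)
    have e' : ρ a = ρ b := e
    rw [map_mul, ← e', ← map_mul, inv_mul_cancel, map_one]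
  have hσv : ∀ h, σ (π h) = ρ h := fun h => rfl
  by_cases hO : Cfsg.pCore 2 (H ⧸ ρ.ker) = ⊥
  · have hT : chain σ ((T.mapSurjective hπs : Subgroup (H ⧸ ρ.ker))) (d + 1) = ⊥ := by
      rw [Sylow.coe_mapSurjective]
      refine le_bot_iff.1 ((chain_le_map π ρ σ LinearMap.id (fun w => ⟨w, rfl⟩) (fun g w => ?_) _ _).trans ?_)
      · show ρ g w = σ (π g) w
        rw [hσv]
      · rw [hzero, Submodule.map_bot]
    have hs := ser_comap π hπs (hcore _ W σ hσ hO _ hT)
    rw [MonoidHom.comap_bot, QuotientGroup.ker_mk', comap_top] at hs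
    exact ⟨ρ.ker, fun x hx => ⟨0, by rw [pow_zero, pow_one]; exact hx⟩, hs⟩
  set O := Cfsg.pCore 2 (H ⧸ ρ.ker) with hOdef
  haveI : O.Normal := CfsgLib.Coprime.pCore_normal' 2
  let W₁ : Submodule kk W :=
    { carrier := {w | ∀ g ∈ O, σ g w = w}
      add_mem' := fun {a b} ha hb g hg => by rw [map_add, ha g hg, hb g hg]
      zero_mem' := fun g _ => map_zero _
      smul_mem' := fun c {a} ha g hg => by rw [map_smul, ha g hg] }
  have hinv : ∀ h, ∀ w ∈ W₁, ρ h w ∈ W₁ := fun h w hw g hg => by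
    rw [← hσv, ← rep_mul_apply, show g * π h = π h * ((π h)⁻¹ * g * (π h)⁻¹⁻¹) by group, rep_mul_apply,
      hw _ ((inferInstance : O.Normal).conj_mem g hg _)]
  obtain ⟨g₀, hg₀, hg₀1⟩ := O.bot_or_exists_ne_one.resolve_left hO
  haveI : Nontrivial W := by
    by_contra hW
    rw [not_nontrivial_iff_subsingleton] at hW
    exact hg₀1 (hσ (LinearMap.ext fun w => Subsingleton.elim _ _))
  obtain ⟨w₀, -, hw₀0, hw₀⟩ := exists_fixed σ (Nat.card O) O le_rfl (CfsgLib.Coprime.pCore_isPGroup 2) ⊤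
    top_ne_bot fun _ _ _ _ => Submodule.mem_top
  have hne : W₁ ≠ ⊥ := fun e => hw₀0 ((Submodule.eq_bot_iff _).1 e w₀ hw₀)
  have htop : W₁ ≠ ⊤ := fun e => hg₀1 (hσ (LinearMap.ext fun w => by
    rw [map_one, Module.End.one_apply]
    exact (e ▸ Submodule.mem_top : w ∈ W₁) g₀ hg₀))
  refine combine ρ W₁ hinv (ih H W₁ (subAct ρ W₁ hinv) T ?_ ?_) (ih H (W ⧸ W₁) (quotAct ρ W₁ hinv) T ?_ ?_)
  · have := Submodule.finrank_lt htop
    omega
  · refine le_bot_iff.1 fun x hx => ?_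
    have h1 := map_chain_le (MonoidHom.id H) (subAct ρ W₁ hinv) ρ W₁.subtype (fun g w => rfl) (T : Subgroup H)
      (d + 1) (Submodule.mem_map_of_mem hx)
    rw [Subgroup.map_id, hzero, Submodule.mem_bot] at h1
    exact (Submodule.mem_bot kk).2 (Subtype.ext h1)
  · have h1 := Submodule.finrank_quotient_add_finrank W₁
    have h2 : Module.finrank kk W₁ ≠ 0 := fun e => hne (Submodule.finrank_eq_zero.1 e)
    omega
  · have h1 := chain_le_map (MonoidHom.id H) ρ (quotAct ρ W₁ hinv) W₁.mkQ (Submodule.mkQ_surjective W₁)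
      (fun g w => rfl) (T : Subgroup H) (d + 1)
    rw [Subgroup.map_id, hzero, Submodule.map_bot] at h1
    exact le_bot_iff.1 h1

theorem linearBound_zero : LinearBound.{u} 0 := by
  intro H _ _ _ W _ _ _ ρ hρ _ T hzero
  have hT : (T : Subgroup H) = ⊥ := (Subgroup.eq_bot_iff_forall _).2 fun t ht => hρ (LinearMap.ext fun w => by
    have h1 := mem_chain_succ ρ (T := (T : Subgroup H)) (i := 0) ht (Submodule.mem_top : w ∈ chain ρ (T : Subgroup H) 0)
    rw [hzero, Submodule.mem_bot, sub_eq_zero] at h1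
    rw [h1, map_one, Module.End.one_apply])
  refine Ser.base inferInstance inferInstance bot_le ?_
  rw [relIndex_bot_left, card_top]
  have := T.not_dvd_index
  rwa [hT, index_bot] at this

section Steps

variable {H : Type u} [Group H] {L : Subgroup H} [L.Normal] {W : Type u} [AddCommGroup W] [Module kk W]
  {ρ : H ⧸ L →* Module.End kk W} {ι : H → W}

theorem commutator_value (hadd : ∀ x ∈ L, ∀ y ∈ L, ι (x * y) = ι x + ι y)
    (hequiv : ∀ h, ∀ x ∈ L, ρ (QuotientGroup.mk' L h) (ι x) = ι (h * x * h⁻¹)) {t n : H} (hn : n ∈ L) :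
    ρ (QuotientGroup.mk' L t) (ι n) - ι n = ι ⁅t, n⁆ := by
  have hc : t * n * t⁻¹ ∈ L := (inferInstance : L.Normal).conj_mem n hn t
  have h1 : ι (1 : H) = 0 := by
    have := hadd 1 (one_mem _) 1 (one_mem _)
    rw [mul_one] at this
    exact left_eq_add.1 this
  have h2 : ι n⁻¹ = - ι n := by
    refine eq_neg_of_add_eq_zero_left ?_
    rw [← hadd _ (inv_mem hn) _ hn, inv_mul_cancel, h1]
  rw [hequiv t n hn, commutatorElement_def, hadd _ hc _ (inv_mem hn), h2, sub_eq_add_neg]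

end Steps

/-- A chain on the layer module. -/
theorem layer_chain {H : Type u} [Group H] [Finite H] {L : Subgroup H} [L.Normal] {W : Type u} [AddCommGroup W]
    [Module kk W] {ρ : H ⧸ L →* Module.End kk W} {ι : H → W}
    (hadd : ∀ x ∈ L, ∀ y ∈ L, ι (x * y) = ι x + ι y)
    (hequiv : ∀ h, ∀ x ∈ L, ρ (QuotientGroup.mk' L h) (ι x) = ι (h * x * h⁻¹)) (T U : Subgroup H)
    (hUT : U ≤ T ⊓ L) (hUn : ∀ t ∈ T, ∀ n ∈ U, t * n * t⁻¹ ∈ U) (hspan : Submodule.span kk (ι '' U) = ⊤)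
    (d : ℕ) : chain ρ (T.map (QuotientGroup.mk' L)) d ≤ Submodule.span kk (ι '' {n | n ∈ U ∧ n ∈ dser T d}) := by
  refine chain_le_span ρ (T.map (QuotientGroup.mk' L)) (fun i => ι '' {n | n ∈ U ∧ n ∈ dser T i}) ?_ d ?_
  · rw [← hspan]
    congr 2
    ext n
    exact ⟨fun h => h.1, fun h => ⟨h, (hUT h).1⟩⟩
  · intro i _ g hg x hx
    rw [← dser_map] at hg
    obtain ⟨t, ht, rfl⟩ := hg
    obtain ⟨n, ⟨hnU, hni⟩, rfl⟩ := hx
    refine ⟨⁅t, n⁆, ⟨?_, ?_⟩, (commutator_value hadd hequiv (hUT hnU).2).symm⟩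
    · rw [commutatorElement_def]
      exact mul_mem (hUn t (dser_le T i ht) n hnU) (inv_mem hnU)
    · rw [dser_succ]
      exact commutator_mem_commutator ht hni

theorem linearBound_succ {d : ℕ} (hmod : ModuleBound.{u} d) : LinearBound.{u} (d + 1) := by
  classical
  intro H _ _ _ W₀ _ _ _ ρ₀ hρ₀ hbot T hzero
  obtain ⟨hsq, hcomm⟩ := key ρ₀ hρ₀ hbot T.2 hzero
  obtain ⟨L, hLn, W, instA, instM, instF, ρ, ι, hρ, hO, hser, hspan, hadd, hequiv, -, hconj⟩ := layer T
  set π := QuotientGroup.mk' L with hπ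
  have hπs := QuotientGroup.mk'_surjective L
  haveI : Group.IsSolvable (H ⧸ L) := Group.isSolvable_of_surjective hπs
  -- the conjugates of the last derived term
  set UT : Set H := {u | u ∈ (T : Subgroup H) ∧ u ∈ L ∧ ∃ h : H, ∃ a ∈ dser (T : Subgroup H) (d + 1),
    u = h * a * h⁻¹} with hUT
  set U := closure UT with hU
  have hUle : U ≤ (T : Subgroup H) ⊓ L := (closure_le _).2 fun u hu => ⟨hu.1, hu.2.1⟩
  set W₁ := Submodule.span kk (ι '' U) with hW₁
  have hUinv : ∀ h : H, ∀ n ∈ U, ι (h * n * h⁻¹) ∈ W₁ := by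
    intro h n hn
    induction hn using Subgroup.closure_induction with
    | mem u hu =>
      obtain ⟨hu1, hu2, h', a, ha, rfl⟩ := hu
      have hcL : h * (h' * a * h'⁻¹) * h⁻¹ ∈ L := hLn.conj_mem _ hu2 h
      have hp : IsPGroup 2 (zpowers (h * (h' * a * h'⁻¹) * h⁻¹)) := by
        have := ((T.2.to_le (zpowers_le.2 (dser_le _ _ ha))) : IsPGroup 2 (zpowers a)).map
          (MulAut.conj (h * h')).toMonoidHom
        rw [MonoidHom.map_zpowers] at this
        rwa [show (MulAut.conj (h * h')).toMonoidHom a = h * (h' * a * h'⁻¹) * h⁻¹ by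
          show h * h' * a * (h * h')⁻¹ = _; group] at this
      obtain ⟨g, hg, he⟩ := hconj _ hcL hp
      rw [← he]
      refine Submodule.subset_span ⟨_, subset_closure ⟨hg, hLn.conj_mem _ hcL g, g * h * h', a, ha, ?_⟩, rfl⟩
      group
    | one => rw [mul_one, mul_inv_cancel]; exact Submodule.subset_span ⟨1, one_mem _, rfl⟩
    | mul x y hx hy hx' hy' =>
      rw [show h * (x * y) * h⁻¹ = (h * x * h⁻¹) * (h * y * h⁻¹) by group,
        hadd _ (hLn.conj_mem x (hUle hx).2 h) _ (hLn.conj_mem y (hUle hy).2 h)]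
      exact add_mem hx' hy'
    | inv x hx hx' =>
      have hc : h * x * h⁻¹ ∈ L := hLn.conj_mem x (hUle hx).2 h
      have h1 := hadd _ (inv_mem hc) _ hc
      rw [inv_mul_cancel] at h1
      rw [show h * x⁻¹ * h⁻¹ = (h * x * h⁻¹)⁻¹ by group, ← add_sub_cancel_right (ι (h * x * h⁻¹)⁻¹) (ι (h * x * h⁻¹)),
        ← h1]
      exact sub_mem (Submodule.subset_span ⟨1, one_mem _, rfl⟩) hx'
  have hinv : ∀ g, ∀ w ∈ W₁, ρ g w ∈ W₁ := by
    intro g w hw
    obtain ⟨h, rfl⟩ := hπs g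
    have hle : W₁ ≤ W₁.comap (ρ (π h)) := Submodule.span_le.2 fun x ⟨n, hn, e⟩ => by
      show ρ (π h) x ∈ W₁
      rw [← e, hequiv h n (hUle hn).2]
      exact hUinv h n hn
    exact hle hw
  have hUn : ∀ t ∈ (T : Subgroup H), ∀ n ∈ U, t * n * t⁻¹ ∈ U := by
    intro t ht n hn
    induction hn using Subgroup.closure_induction with
    | mem u hu =>
      obtain ⟨hu1, hu2, h', a, ha, rfl⟩ := hu
      exact subset_closure ⟨mul_mem (mul_mem ht hu1) (inv_mem ht), hLn.conj_mem _ hu2 t, t * h', a, ha, by group⟩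
    | one => rw [mul_one, mul_inv_cancel]; exact one_mem _
    | mul x y _ _ hx' hy' =>
      rw [show t * (x * y) * t⁻¹ = (t * x * t⁻¹) * (t * y * t⁻¹) by group]; exact mul_mem hx' hy'
    | inv x _ hx' => rw [show t * x⁻¹ * t⁻¹ = (t * x * t⁻¹)⁻¹ by group]; exact inv_mem hx'
  set T' : Sylow 2 (H ⧸ L) := T.mapSurjective hπs with hT'
  have hT'c : (T' : Subgroup (H ⧸ L)) = (T : Subgroup H).map π := Sylow.coe_mapSurjective hπs T
  -- the quotient by the conjugates
  have h2 : chain (quotAct ρ W₁ hinv) (T' : Subgroup (H ⧸ L)) (d + 1) = ⊥ := by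
    have h1 := chain_le_map (MonoidHom.id (H ⧸ L)) ρ (quotAct ρ W₁ hinv) W₁.mkQ (Submodule.mkQ_surjective W₁)
      (fun g w => rfl) (T' : Subgroup (H ⧸ L)) (d + 1)
    rw [Subgroup.map_id] at h1
    refine le_bot_iff.1 (h1.trans ?_)
    rw [Submodule.map_le_iff_le_comap, Submodule.comap_bot, Submodule.ker_mkQ, hT'c]
    refine (layer_chain hadd hequiv (T : Subgroup H) ((T : Subgroup H) ⊓ L) le_rfl
      (fun t ht n hn => mem_inf.2 ⟨mul_mem (mul_mem ht (mem_inf.1 hn).1) (inv_mem ht), hLn.conj_mem n (mem_inf.1 hn).2 t⟩) hspan (d + 1)).trans ?_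
    refine Submodule.span_le.2 ?_
    rintro _ ⟨n, ⟨hnU, hnA⟩, rfl⟩
    exact Submodule.subset_span ⟨n, subset_closure ⟨hnU.1, hnU.2, 1, n, hnA, by group⟩, rfl⟩
  -- the conjugates themselves
  have h1 : chain (subAct ρ W₁ hinv) (T' : Subgroup (H ⧸ L)) (d + 1) = ⊥ := by
    let ι₁ : H → W₁ := fun x => if hx : ι x ∈ W₁ then ⟨ι x, hx⟩ else 0
    have hι₁ : ∀ n ∈ U, ((ι₁ n : W₁) : W) = ι n := fun n hn => by
      show ((if hx : ι n ∈ W₁ then (⟨ι n, hx⟩ : W₁) else 0 : W₁) : W) = ι n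
      have hm : ι n ∈ W₁ := Submodule.subset_span ⟨n, hn, rfl⟩
      rw [dif_pos hm]
    rw [hT'c]
    set σ := subAct ρ W₁ hinv
    let C : ℕ → Set W₁ := fun i => ι₁ '' {n | n ∈ U ∧ n ∈ dser (T : Subgroup H) i}
    have hC0 : Submodule.span kk (C 0) = ⊤ := by
      refine Submodule.map_injective_of_injective W₁.injective_subtype ?_
      rw [Submodule.map_subtype_top, Submodule.map_span]
      refine congrArg (Submodule.span kk) ?_
      ext w
      constructor
      · rintro ⟨_, ⟨n, hn, rfl⟩, rfl⟩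
        exact ⟨n, hn.1, (hι₁ n hn.1).symm⟩
      · rintro ⟨n, hn, rfl⟩
        exact ⟨ι₁ n, ⟨n, ⟨hn, (hUle hn).1⟩, rfl⟩, hι₁ n hn⟩
    have hstep : ∀ i, ∀ g ∈ dser ((T : Subgroup H).map π) i, ∀ n ∈ U, n ∈ dser (T : Subgroup H) i →
        ∃ t ∈ dser (T : Subgroup H) i, π t = g ∧ ⁅t, n⁆ ∈ U ∧
          σ g (ι₁ n) - ι₁ n = ι₁ ⁅t, n⁆ := by
      intro i g hg n hn hni
      rw [← dser_map] at hg
      obtain ⟨t, ht, rfl⟩ := hg
      have hc : ⁅t, n⁆ ∈ U := by
        rw [commutatorElement_def]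
        exact mul_mem (hUn t (dser_le _ i ht) n hn) (inv_mem hn)
      refine ⟨t, ht, rfl, hc, Subtype.ext ?_⟩
      rw [Submodule.coe_sub, subAct_apply, hι₁ n hn, hι₁ _ hc]
      exact commutator_value hadd hequiv (hUle hn).2
    have hd := chain_le_span σ ((T : Subgroup H).map π) C hC0 d fun i _ g hg x hx => by
      obtain ⟨n, ⟨hn, hni⟩, rfl⟩ := hx
      obtain ⟨t, ht, -, hc, e⟩ := hstep i g hg n hn hni
      exact ⟨⁅t, n⁆, ⟨hc, by rw [dser_succ]; exact commutator_mem_commutator ht hni⟩, e.symm⟩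
    refine le_bot_iff.1 (aug_le σ fun g hg u hu => ?_)
    have hle : Submodule.span kk (C d) ≤ (⊥ : Submodule kk W₁).comap (σ g - 1) := Submodule.span_le.2 fun x hx => by
      obtain ⟨n, ⟨hn, hni⟩, rfl⟩ := hx
      obtain ⟨t, ht, -, -, e⟩ := hstep d g hg n hn hni
      show σ g (ι₁ n) - ι₁ n ∈ (⊥ : Submodule kk W₁)
      have hkey : n ∈ closure {u | u ∈ (T : Subgroup H) ∧ ∃ h : H, ∃ a ∈ dser (T : Subgroup H) (d + 1),
          u = h * a * h⁻¹} := by
        refine Subgroup.closure_mono ?_ hn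
        exact fun v hv => ⟨hv.1, hv.2.2⟩
      rw [e, commutatorElement_eq_one_iff_commute.2 (hcomm n hkey hni t ht).symm, Submodule.mem_bot]
      refine Subtype.ext ?_
      rw [hι₁ 1 (one_mem _), Submodule.coe_zero]
      have h1 := hadd 1 (one_mem _) 1 (one_mem _)
      rw [mul_one] at h1
      exact left_eq_add.1 h1
    exact hle (hd hu)
  obtain ⟨D, hD, hs⟩ := combine ρ W₁ hinv (hmod (H ⧸ L) W₁ (subAct ρ W₁ hinv) T' h1)
    (hmod (H ⧸ L) (W ⧸ W₁) (quotAct ρ W₁ hinv) T' h2)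
  have hDbot : D = ⊥ := by
    haveI : D.Normal := hs.normal_le.1
    refine le_bot_iff.1 (le_of_le_of_eq (CfsgLib.Coprime.le_pCore fun ⟨x, hx⟩ => ?_) hO)
    exact (hD x hx).imp fun i hi => Subtype.ext (hρ (hi.trans (map_one ρ).symm))
  have hs' := ser_comap π hπs (hDbot ▸ hs)
  rw [MonoidHom.comap_bot, QuotientGroup.ker_mk', comap_top] at hs'
  have := hser.trans Nat.prime_two hs'
  rwa [add_comm] at this

theorem moduleBound : ∀ d : ℕ, ModuleBound.{u} d
  | 0 => moduleBound_of_linearBound linearBound_zero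
  | d + 1 => moduleBound_of_linearBound (linearBound_succ (moduleBound d))

/-- **The `2`-length is at most the derived length of a Sylow `2`-subgroup.** -/
theorem pLengthLE_of_derived {G : Type u} [Group G] [Finite G] (hG : Cfsg.IsPSolvable 2 G) (d : ℕ)
    (hd : ∀ P : Sylow 2 G, derivedSeries (P : Subgroup G) d = ⊥) : Cfsg.PLengthLE 2 d G := by
  haveI := isSolvable_of_isPSolvable_two _ G le_rfl hG
  obtain ⟨S⟩ : Nonempty (Sylow 2 G) := inferInstance
  have hS : dser (S : Subgroup G) d = ⊥ := by rw [dser_eq, hd S, Subgroup.map_bot]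
  refine pLengthLE_of_ser ?_
  rcases d with _ | d
  · refine Ser.base inferInstance inferInstance bot_le ?_
    rw [relIndex_bot_left, card_top]
    have := S.not_dvd_index
    rwa [show (S : Subgroup G) = ⊥ from hS, index_bot] at this
  obtain ⟨L, hLn, W, instA, instM, instF, ρ, ι, hρ, hO, hser, hspan, hadd, hequiv, -⟩ := layer S
  have hπs := QuotientGroup.mk'_surjective L
  haveI : Group.IsSolvable (G ⧸ L) := Group.isSolvable_of_surjective hπs
  have hzero : chain ρ (S.mapSurjective hπs : Subgroup (G ⧸ L)) (d + 1) = ⊥ := by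
    rw [Sylow.coe_mapSurjective]
    refine le_bot_iff.1 ((layer_chain hadd hequiv (S : Subgroup G) ((S : Subgroup G) ⊓ L) le_rfl
      (fun t ht n hn => mem_inf.2 ⟨mul_mem (mul_mem ht (mem_inf.1 hn).1) (inv_mem ht), hLn.conj_mem n (mem_inf.1 hn).2 t⟩) hspan (d + 1)).trans ?_)
    refine Submodule.span_le.2 ?_
    rintro _ ⟨n, ⟨-, hn⟩, rfl⟩
    rw [hS, mem_bot] at hn
    rw [hn, SetLike.mem_coe, Submodule.mem_bot]
    have h1 := hadd 1 (one_mem _) 1 (one_mem _)
    rw [mul_one] at h1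
    exact left_eq_add.1 h1
  obtain ⟨D, hD, hs⟩ := moduleBound d (G ⧸ L) W ρ _ hzero
  have hDbot : D = ⊥ := by
    haveI : D.Normal := hs.normal_le.1
    refine le_bot_iff.1 (le_of_le_of_eq (CfsgLib.Coprime.le_pCore fun ⟨x, hx⟩ => ?_) hO)
    exact (hD x hx).imp fun i hi => Subtype.ext (hρ (hi.trans (map_one ρ).symm))
  have hs' := ser_comap _ hπs (hDbot ▸ hs)
  rw [MonoidHom.comap_bot, QuotientGroup.ker_mk', comap_top] at hs'
  have := hser.trans Nat.prime_two hs'
  rwa [add_comm] at this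

end CfsgLib.PGroup.DerivedTwo
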