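import Cfsg.Agent.Lib.PGroup.DerivedTwo.CaseThree

/-!
# What a chain of length `e + 2` says on one member of a decomposition

On a member `S` carrying a class two section `Q / K`: the last derived term `A` fixes `S`, its squares
are trivial on `Q / K`, and so are the commutators with `B` of products of involutions fixing `S`.
-/

set_option autoImplicit false
set_option linter.style.haveILetI false
set_option linter.unusedSectionVars false

open Subgroup
open scoped commutatorElement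

namespace CfsgLib.PGroup.DerivedTwo

universe u v w

variable {H : Type u} [Group H]

theorem dser_dser (T : Subgroup H) (i : ℕ) : ∀ j, dser (dser T i) j = dser T (i + j)
  | 0 => rfl
  | j + 1 => by rw [dser_succ, dser_dser T i j, ← dser_succ]; rfl

theorem dser_image {G : Type*} [Group G] {D Γ : Subgroup H} (hDΓ : D ≤ Γ) (f : Γ →* G) (i : ℕ) :
    dser ((D.subgroupOf Γ).map f) i = ((dser D i).subgroupOf Γ).map f := by
  rw [← dser_map]
  congr 1
  refine map_injective Γ.subtype_injective ?_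
  rw [dser_map, map_subgroupOf_eq_of_le hDΓ, map_subgroupOf_eq_of_le ((dser_le D i).trans hDΓ)]

/-- A nontrivial elementary subgroup normalized by a `2`-group meets its centre. -/
theorem exists_central_mem {P A : Subgroup H} [Finite H] (hP : IsPGroup 2 P) (hAP : A ≤ P)
    (hn : ∀ g ∈ P, ∀ a ∈ A, g * a * g⁻¹ ∈ A) (hne : A ≠ ⊥) :
    ∃ z ∈ A, z ≠ 1 ∧ ∀ g ∈ P, Commute g z := by
  haveI : Fact (Nat.Prime 2) := ⟨Nat.prime_two⟩
  haveI : Group.IsNilpotent P := hP.isNilpotent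
  haveI : (A.subgroupOf P).Normal := ⟨fun x hx g => mem_subgroupOf.2 (hn g g.2 x (mem_subgroupOf.1 hx))⟩
  have hne' : A.subgroupOf P ≠ ⊥ := fun e => hne (by
    rw [← map_subgroupOf_eq_of_le hAP, e, Subgroup.map_bot])
  obtain ⟨⟨z, hz⟩, hz1⟩ : ∃ z : (A.subgroupOf P ⊓ center P : Subgroup P), z ≠ 1 := by
    haveI := (nontrivial_iff_ne_bot _).2 (CfsgLib.Coprime.nilpotent_inf_center_ne_bot _ hne')
    exact exists_ne 1
  exact ⟨z, mem_subgroupOf.1 hz.1, fun e => hz1 (Subtype.ext (Subtype.ext e)),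
    fun g hg => congrArg Subtype.val (mem_center_iff.1 hz.2 ⟨g, hg⟩)⟩

variable [Finite H] {k : Type v} [Field k] [IsAlgClosed k] [CharP k 2]
  {W : Type w} [AddCommGroup W] [Module k W] [FiniteDimensional k W]

/-- Squares and commutators are trivial on a member. -/
theorem member (ρ : H →* Module.End k W) {r : ℕ} (hr : r.Prime) (hr2 : r ≠ 2) {T : Subgroup H}
    (hT : IsPGroup 2 T) {e : ℕ} (hzero : chain ρ T (e + 2) = ⊥) {𝒮 : Set (Submodule k W)}
    (h𝒮 : ∀ t ∈ T, ∀ U ∈ 𝒮, U.map (ρ t) ∈ 𝒮) {S : Submodule k W} (hS : S ∈ 𝒮) (hSne : S ≠ ⊥)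
    (hsep : Disjoint S (sSup (𝒮 \ {S}))) {Q K : Subgroup H} [Q.Normal] (hKQ : K ≤ Q)
    (hcomm : ∀ x ∈ Q, ∀ y ∈ Q, ⁅x, y⁆ ∈ K) (hpow : ∀ x ∈ Q, x ^ r ∈ K)
    (hQS : ∀ g ∈ Q, ∀ w ∈ S, ρ g w ∈ S)
    (hscal : ∀ x ∈ K, ∃ c : k, ∀ w ∈ S, ρ x w = c • w)
    (hnd : ∀ x ∈ Q, (∀ y ∈ Q, ∀ w ∈ S, ρ ⁅x, y⁆ w = w) → x ∈ K)
    (hK0 : ∀ x ∈ K, ∀ y ∈ Q, ∀ w ∈ S, ρ ⁅x, y⁆ w = w) :
    dser T (e + 1) ≤ fixer ρ S ∧
    (∀ a ∈ dser T (e + 1), ∀ x ∈ Q, ⁅a * a, x⁆ ∈ K) ∧
    ∀ n ∈ closure {u | u ∈ T ∧ u ∈ fixer ρ S ∧ u * u = 1}, n ∈ dser T e →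
      ∀ b ∈ dser T e, ∀ x ∈ Q, ⁅⁅n, b⁆, x⁆ ∈ K := by
  classical
  have hQn : ∀ g : H, ∀ x ∈ Q, g * x * g⁻¹ ∈ Q := fun g x hx => (inferInstance : Q.Normal).conj_mem x hx g
  -- the last term fixes `S`
  have hAfix : dser T (e + 1) ≤ fixer ρ S := by
    by_contra h
    refine hSne ((Submodule.eq_bot_iff _).2 fun v hv => ?_)
    exact eq_zero_of_chain_sup ρ hzero hsep hv
      (le_chain_sup ρ hT h𝒮 hS (e + 2) (Or.inr ⟨e + 1, rfl, h⟩) hv)
  -- the elements trivial on the section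
  have hKconj : ∀ g ∈ fixer ρ S, ∀ x ∈ K, g * x * g⁻¹ ∈ K := by
    intro g hg x hx
    refine hnd _ (hQn g x (hKQ hx)) fun y hy w hw => ?_
    rw [show ⁅g * x * g⁻¹, y⁆ = g * ⁅x, g⁻¹ * y * g⁻¹⁻¹⁆ * g⁻¹ by simp only [commutatorElement_def]; group,
      map_mul, map_mul, Module.End.mul_apply, Module.End.mul_apply,
      hK0 x hx _ (hQn g⁻¹ y hy) _ (rep_mem_of_fixer ρ (inv_mem hg) hw), ← rep_mul_apply, mul_inv_cancel,
      map_one, Module.End.one_apply]
  let E : Subgroup H :=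
    { carrier := {g | g ∈ fixer ρ S ∧ ∀ x ∈ Q, ⁅g, x⁆ ∈ K}
      one_mem' := ⟨one_mem _, fun x _ => by rw [commutatorElement_one_left]; exact one_mem _⟩
      mul_mem' := fun {a b} ha hb => ⟨mul_mem ha.1 hb.1, fun x hx => by
        rw [show ⁅a * b, x⁆ = ⁅a, b * x * b⁻¹⁆ * ⁅b, x⁆ by simp only [commutatorElement_def]; group]
        exact mul_mem (ha.2 _ (hQn b x hx)) (hb.2 x hx)⟩
      inv_mem' := fun {a} ha => ⟨inv_mem ha.1, fun x hx => by
        rw [show ⁅a⁻¹, x⁆ = (⁅a, a⁻¹ * x * a⁻¹⁻¹⁆)⁻¹ by simp only [commutatorElement_def]; group]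
        exact inv_mem (ha.2 _ (hQn a⁻¹ x hx))⟩ }
  have hEmem : ∀ {g : H}, g ∈ E ↔ g ∈ fixer ρ S ∧ ∀ x ∈ Q, ⁅g, x⁆ ∈ K := fun {g} => Iff.rfl
  have hEconj : ∀ g ∈ fixer ρ S, ∀ c ∈ E, g * c * g⁻¹ ∈ E := by
    intro g hg c hc
    refine ⟨mul_mem (mul_mem hg hc.1) (inv_mem hg), fun x hx => ?_⟩
    rw [show ⁅g * c * g⁻¹, x⁆ = g * ⁅c, g⁻¹ * x * g⁻¹⁻¹⁆ * g⁻¹ by simp only [commutatorElement_def]; group]
    exact hKconj g hg _ (hc.2 _ (hQn g⁻¹ x hx))
  have hnormal : ∀ D : Subgroup H, D ≤ normalizer (Q : Set H) := fun D => by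
    rw [normalizer_eq_top_iff.2 (inferInstance : Q.Normal)]; exact le_top
  -- `D` fixing `S`, with its triple identities
  have hthree : ∀ (i m : ℕ), m ≤ 1 → e + 1 = i + (m + 2) → dser T i ≤ fixer ρ S →
      (m = 0 → ∀ a ∈ dser T (i + 2), ∀ b ∈ dser T (i + 1), ∀ c ∈ dser T i, ∀ w ∈ S,
        (ρ a - 1) ((ρ b - 1) ((ρ c - 1) w)) = 0) → ∀ a ∈ dser T (e + 1), a ∈ E := by
    intro i m hm hi hfix htri a ha
    have hbba : ∀ a ∈ dser T (i + (m + 2)), ∀ b ∈ dser T (i + (m + 1)), ∀ b' ∈ dser T (i + (m + 1)),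
        ∀ w ∈ S, (ρ a - 1) ((ρ b - 1) ((ρ b' - 1) w)) = 0 := by
      intro a ha b hb b' hb' w _
      rw [← hi] at ha
      rw [show i + (m + 1) = e by omega] at hb hb'
      exact LinearMap.congr_fun (chain_triple ρ hzero ha hb hb') w
    refine ⟨hAfix ha, fun x hx => ?_⟩
    refine of_frame ρ hr hr2 (Q := Q) (K := K) (D := dser T i) S hSne hKQ hcomm hpow hQS
      (fun g hg w hw => rep_mem_of_fixer ρ (hfix hg) hw) hscal hnd (hT.to_le (dser_le T i)) (hnormal _) ?_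
    intro G _ _ W₀ _ Γ f ρ₀ _ hQΓ hDΓ hW₀ hval hF hiff _
    have htrans : ∀ (a b c : Γ), (∀ w ∈ S, (ρ (a : H) - 1) ((ρ (b : H) - 1) ((ρ (c : H) - 1) w)) = 0) →
        (ρ₀ (f a) - 1) * (ρ₀ (f b) - 1) * (ρ₀ (f c) - 1) = 0 := by
      intro a b c h
      refine LinearMap.ext fun w => Subtype.ext ?_
      have h' := h (w : W) (hW₀ w.2)
      simp only [Module.End.mul_apply, LinearMap.sub_apply, Module.End.one_apply, Submodule.coe_sub, hval,
        LinearMap.zero_apply, Submodule.coe_zero] at h' ⊢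
      exact h'
    have hDp : IsPGroup 2 (((dser T i).subgroupOf Γ).map f) :=
      ((hT.to_le (dser_le T i)).comap_of_injective Γ.subtype Γ.subtype_injective).map f
    have hDn : ((dser T i).subgroupOf Γ).map f ≤ normalizer (((Q.subgroupOf Γ).map f : Subgroup G) : Set G) := by
      rintro _ ⟨d, hd, rfl⟩
      refine mem_normalizer_fintype ?_
      rintro _ ⟨x, hx, rfl⟩
      exact ⟨d * x * d⁻¹, hQn _ _ hx, by rw [map_mul, map_mul, map_inv]⟩
    haveI : FiniteDimensional k W₀ := inferInstance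
    have hc := commute_derived (Nat.card ((Q.subgroupOf Γ).map f : Subgroup G)) hF le_rfl _ m hDp hDn hm
      (fun h0 a ha b hb c hc => by
        rw [dser_image hDΓ, dser_dser] at ha hb
        obtain ⟨a, ha', rfl⟩ := ha
        obtain ⟨b, hb', rfl⟩ := hb
        obtain ⟨c, hc', rfl⟩ := hc
        exact htrans a b c (htri h0 _ ha' _ hb' _ hc'))
      (fun a ha b hb c hc => by
        rw [dser_image hDΓ, dser_dser] at ha hb hc
        obtain ⟨a, ha', rfl⟩ := ha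
        obtain ⟨b, hb', rfl⟩ := hb
        obtain ⟨c, hc', rfl⟩ := hc
        exact htrans a b c (hbba _ ha' _ hb' _ hc'))
    have haD : a ∈ dser T i := dser_anti T (by omega) ha
    refine (hiff ⟨a, hDΓ haD⟩ ⟨x, hQΓ hx⟩ haD hx).1 (hc _ ?_ _ ⟨_, hx, rfl⟩)
    rw [dser_image hDΓ, dser_dser, ← hi]
    exact ⟨⟨a, hDΓ haD⟩, ha, rfl⟩
  -- the dichotomy
  have hdich : (∀ a ∈ dser T (e + 1), a ∈ E) ∨ (dser T e ≤ fixer ρ S ∧ (∀ a ∈ dser T (e + 1), a * a ∈ E) ∧
      ∀ u ∈ T, u ∈ fixer ρ S → u * u = 1 → ∀ b ∈ dser T e, ⁅u, b⁆ ∈ E) := by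
    by_cases hBfix : dser T e ≤ fixer ρ S
    swap
    · left
      intro a ha
      obtain ⟨-, h1, -⟩ := fixed_levels ρ hT h𝒮 hzero hS hsep (j := e + 1) (by omega) (Or.inr ⟨e, rfl, hBfix⟩) hAfix
      have hinv : ∀ {g : H}, g ∈ fixer ρ S → (∀ w ∈ S, ρ g w = w) → g ∈ E := by
        intro g hg htriv
        have hq : ∀ q ∈ Q, ∀ w ∈ S, ρ ⁅g, q⁆ w = w := by
          intro q hq w hw
          have hgi : ∀ v ∈ S, ρ g⁻¹ v = v := fun v hv => by
            conv_lhs => rw [← htriv v hv]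
            exact rep_inv_apply ρ g v
          rw [commutatorElement_def, map_mul, map_mul, map_mul, Module.End.mul_apply, Module.End.mul_apply,
            Module.End.mul_apply, hgi _ (hQS _ (inv_mem hq) _ hw), ← rep_mul_apply ρ q, mul_inv_cancel, map_one,
            Module.End.one_apply, htriv w hw]
        refine ⟨hg, fun x hx => hnd _ ?_ fun y hy w hw => ?_⟩
        · rw [commutatorElement_def]; exact mul_mem (hQn g x hx) (inv_mem hx)
        · have hc : ∀ v ∈ S, ρ ⁅g, x⁆⁻¹ v = v := fun v hv => by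
            conv_lhs => rw [← hq x hx v hv]
            exact rep_inv_apply ρ _ v
          rw [commutatorElement_def, map_mul, map_mul, map_mul, Module.End.mul_apply, Module.End.mul_apply,
            Module.End.mul_apply, hc _ (hQS _ (inv_mem hy) _ hw), ← rep_mul_apply ρ y, mul_inv_cancel, map_one,
            Module.End.one_apply, hq x hx w hw]
      exact hinv (hAfix ha) (h1 rfl a ha)
    by_cases hC : ∃ f, f + 1 = e ∧ dser T f ≤ fixer ρ S
    · obtain ⟨f, rfl, hCfix⟩ := hC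
      left
      by_cases hC' : ∃ g, g + 1 = f ∧ dser T g ≤ fixer ρ S
      · obtain ⟨g, rfl, hgfix⟩ := hC'
        exact hthree g 1 le_rfl (by omega) hgfix fun h => absurd h one_ne_zero
      · push Not at hC'
        obtain ⟨-, -, -, h3⟩ := fixed_levels ρ hT h𝒮 hzero hS hsep (j := f) (by omega)
          (by rcases f with _ | g
              · exact Or.inl rfl
              · exact Or.inr ⟨g, rfl, hC' g rfl⟩) hCfix
        exact hthree f 0 (by omega) rfl hCfix fun _ => h3 (by omega)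
    push Not at hC
    obtain ⟨-, -, h2, -⟩ := fixed_levels ρ hT h𝒮 hzero hS hsep (j := e) (by omega)
      (by rcases e with _ | f
          · exact Or.inl rfl
          · exact Or.inr ⟨f, rfl, hC f rfl⟩) hBfix
    replace h2 := h2 rfl
    refine of_frame ρ hr hr2 (Q := Q) (K := K) (D := T ⊓ fixer ρ S) S hSne hKQ hcomm hpow hQS
      (fun g hg w hw => rep_mem_of_fixer ρ hg.2 hw) hscal hnd (hT.to_le inf_le_left) (hnormal _) ?_
    intro G _ _ W₀ _ Γ f ρ₀ _ hQΓ hDΓ hW₀ hval hF hiff hfaith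
    haveI : FiniteDimensional k W₀ := inferInstance
    have hBD : dser T e ≤ T ⊓ fixer ρ S := le_inf (dser_le T e) hBfix
    have hAB : dser T (e + 1) ≤ dser T e := dser_succ_le T e
    have hBΓ := hBD.trans hDΓ
    set R := (Q.subgroupOf Γ).map f with hR
    set P := ((T ⊓ fixer ρ S).subgroupOf Γ).map f with hP
    set B' := ((dser T e).subgroupOf Γ).map f with hB'
    set A' := ((dser T (e + 1)).subgroupOf Γ).map f with hA'
    have hPp : IsPGroup 2 P :=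
      ((hT.to_le inf_le_left).comap_of_injective Γ.subtype Γ.subtype_injective).map f
    have hPR : P ≤ normalizer (R : Set G) := by
      rintro _ ⟨d, hd, rfl⟩
      refine mem_normalizer_fintype ?_
      rintro _ ⟨x, hx, rfl⟩
      exact ⟨d * x * d⁻¹, hQn _ _ hx, by rw [map_mul, map_mul, map_inv]⟩
    have hBP : B' ≤ P := map_mono (comap_mono hBD)
    have hAB' : A' ≤ B' := map_mono (comap_mono hAB)
    have hop : ∀ a ∈ A', ∀ b ∈ B', (ρ₀ a - 1) * (ρ₀ b - 1) = 0 := by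
      rintro _ ⟨a, ha, rfl⟩ _ ⟨b, hb, rfl⟩
      refine LinearMap.ext fun w => Subtype.ext ?_
      have h' := h2 _ (mem_subgroupOf.1 ha) _ (mem_subgroupOf.1 hb) (w : W) (hW₀ w.2)
      simp only [Module.End.mul_apply, LinearMap.sub_apply, Module.End.one_apply, Submodule.coe_sub, hval,
        LinearMap.zero_apply, Submodule.coe_zero] at h' ⊢
      exact h'
    have hsq : ∀ a ∈ A', a * a = 1 := by
      intro a ha
      refine hF.inj (LinearMap.ext fun w => ?_)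
      have h := LinearMap.congr_fun (hop a ha a (hAB' ha)) w
      have hneg : ∀ v : W₀, -v = v := fun v => by rw [← neg_one_smul k v, CharTwo.neg_eq, one_smul]
      simp only [Module.End.mul_apply, LinearMap.sub_apply, Module.End.one_apply, map_sub,
        LinearMap.zero_apply] at h
      rw [map_mul, map_one, Module.End.mul_apply, Module.End.one_apply]
      rw [sub_eq_add_neg (ρ₀ a (ρ₀ a w)), hneg, sub_eq_add_neg (ρ₀ a w) w, hneg, sub_eq_add_neg,
        hneg, show ρ₀ a (ρ₀ a w) + ρ₀ a w + (ρ₀ a w + w) = ρ₀ a (ρ₀ a w) + w + (ρ₀ a w + ρ₀ a w) by abel] at h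
      have hz : ρ₀ a w + ρ₀ a w = 0 := by nth_rewrite 2 [← hneg (ρ₀ a w)]; exact add_neg_cancel _
      rw [hz, add_zero, add_eq_zero_iff_eq_neg, hneg] at h
      exact h
    by_cases hAne : A' = ⊥
    · left
      intro a ha
      refine ⟨hAfix ha, fun x hx => (hiff ⟨a, hBΓ (hAB ha)⟩ ⟨x, hQΓ hx⟩ (hBD (hAB ha)) hx).1 ?_⟩
      rw [(Subgroup.eq_bot_iff_forall _).1 hAne _ ⟨⟨a, hBΓ (hAB ha)⟩, ha, rfl⟩]
      exact Commute.one_left _
    obtain ⟨z, hzA, hz1, hzc⟩ := exists_central_mem hPp (hAB'.trans hBP) (by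
      rintro _ ⟨d, hd, rfl⟩ _ ⟨a, ha, rfl⟩
      exact ⟨d * a * d⁻¹, mem_subgroupOf.2 (conj_mem_dser_self (mem_subgroupOf.1 hd).1 _ (mem_subgroupOf.1 ha)), by rw [map_mul, map_mul, map_inv]⟩) hAne
    have hzP : z ∈ P := hBP (hAB' hzA)
    have hzR : z ∈ normalizer (R : Set G) := hPR hzP
    have hz : ∃ x ∈ R, ¬ Commute z x := by
      by_contra h
      push Not at h
      obtain ⟨z', hz', rfl⟩ := hzP
      exact hz1 (hfaith z' hz' fun x hx => h _ ⟨x, hx, rfl⟩)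
    have hzB : z ∈ ⁅B', B'⁆ := by
      rw [hA', dser_succ, ← map_subgroupOf_eq_of_le (H := dser T e) hBΓ] at hzA
      rw [hB', ← map_commutator]
      refine map_mono (fun g hg => ?_) hzA
      rw [mem_subgroupOf, ← map_commutator] at hg
      obtain ⟨g', hg', e'⟩ := hg
      rwa [show g = g' from Subtype.ext e'.symm]
    refine Or.inr ⟨hBfix, fun a ha => ⟨mul_mem (hAfix ha) (hAfix ha), fun x hx => ?_⟩, fun u hu hufix huu b hb => ?_⟩
    · refine (hiff ⟨a * a, hBΓ (mul_mem (hAB ha) (hAB ha))⟩ ⟨x, hQΓ hx⟩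
        (hBD (mul_mem (hAB ha) (hAB ha))) hx).1 ?_
      rw [show (⟨a * a, hBΓ (mul_mem (hAB ha) (hAB ha))⟩ : Γ) = ⟨a, hBΓ (hAB ha)⟩ * ⟨a, hBΓ (hAB ha)⟩ from rfl,
        map_mul, hsq _ ⟨⟨a, hBΓ (hAB ha)⟩, ha, rfl⟩]
      exact Commute.one_left _
    · have hcD : ⁅u, b⁆ ∈ T ⊓ fixer ρ S := by
        rw [commutatorElement_def]
        exact mul_mem (mul_mem (mul_mem ⟨hu, hufix⟩ (hBD hb)) (inv_mem ⟨hu, hufix⟩)) (inv_mem (hBD hb))
      refine ⟨hcD.2, fun x hx => (hiff ⟨⁅u, b⁆, hDΓ hcD⟩ ⟨x, hQΓ hx⟩ hcD hx).1 ?_⟩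
      set u' : Γ := ⟨u, hDΓ ⟨hu, hufix⟩⟩ with hu'
      set b' : Γ := ⟨b, hBΓ hb⟩ with hb'
      have huP : f u' ∈ P := mem_map_of_mem f (mem_subgroupOf.2 ⟨hu, hufix⟩)
      have hbB : f b' ∈ B' := mem_map_of_mem f (mem_subgroupOf.2 hb)
      rw [show (⟨⁅u, b⁆, hDΓ hcD⟩ : Γ) = ⁅u', b'⁆ from rfl, map_commutatorElement]
      obtain ⟨i, hi⟩ := hPp ⟨⁅f u', f b'⁆, by
        rw [commutatorElement_def]
        exact mul_mem (mul_mem (mul_mem huP (hBP hbB)) (inv_mem huP)) (inv_mem (hBP hbB))⟩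
      refine hF.commute_of_trivial (i := i) (congrArg Subtype.val hi) ?_
      exact hF.commutator_trivial (hsq z hzA) hzR hz B' (hBP.trans hPR) (fun y hy => hzc y (hBP hy))
        (hop z hzA) hzB (hPp.to_le hBP) (hPR huP) (hzc _ huP)
        (by rw [← map_mul, show u' * u' = 1 from Subtype.ext huu, map_one]) hbB ⟨_, hx, rfl⟩
  refine ⟨hAfix, ?_, ?_⟩
  · intro a ha
    rcases hdich with h | ⟨-, h, -⟩
    · exact (mul_mem (h a ha) (h a ha) : a * a ∈ E).2
    · exact (h a ha).2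
  · intro n hn hnB b hb
    rcases hdich with h | ⟨hBfix, -, h⟩
    · refine (h _ ?_).2
      rw [dser_succ]
      exact commutator_mem_commutator hnB hb
    · suffices hmem : n ∈ fixer ρ S ∧ ∀ b ∈ dser T e, ⁅n, b⁆ ∈ E from (hmem.2 b hb).2
      clear hb hnB b
      induction hn using Subgroup.closure_induction with
      | mem u hu => exact ⟨hu.2.1, h u hu.1 hu.2.1 hu.2.2⟩
      | one => exact ⟨one_mem _, fun b _ => by rw [commutatorElement_one_left]; exact one_mem _⟩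
      | mul u v _ _ hu hv =>
        refine ⟨mul_mem hu.1 hv.1, fun b hb => ?_⟩
        rw [show ⁅u * v, b⁆ = u * ⁅v, b⁆ * u⁻¹ * ⁅u, b⁆ by simp only [commutatorElement_def]; group]
        exact mul_mem (hEconj u hu.1 _ (hv.2 b hb)) (hu.2 b hb)
      | inv u _ hu =>
        refine ⟨inv_mem hu.1, fun b hb => ?_⟩
        rw [show ⁅u⁻¹, b⁆ = u⁻¹ * ⁅u, b⁆⁻¹ * u⁻¹⁻¹ by simp only [commutatorElement_def]; group]
        exact hEconj u⁻¹ (inv_mem hu.1) _ (inv_mem (hu.2 b hb))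

end CfsgLib.PGroup.DerivedTwo
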