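import Cfsg.Agent.Lib.PGroup.PLengthSeries
import Cfsg.Agent.Lib.PGroup.PSolvable
import Cfsg.Agent.Lib.FT.NoMinSimple
import Cfsg.Agent.Lib.Coprime.Solvable
import Mathlib.GroupTheory.Nilpotent

/-!
# Series with alternating factors: preimages and intersections

Also: a finite `2`-soluble group is soluble (odd order theorem).
-/

set_option autoImplicit false
set_option linter.style.haveILetI false
set_option linter.unusedSectionVars false

open Subgroup

namespace CfsgLib.PGroup.DerivedTwo

open CfsgLib.PGroup.PLengthSeries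

universe u

variable {G : Type u} [Group G] {p : ℕ}

theorem ser_comap {H : Type u} [Group H] {n : ℕ} {A B : Subgroup H} (f : G →* H)
    (hf : Function.Surjective f) (h : Ser p n A B) : Ser p n (A.comap f) (B.comap f) := by
  have hd : ∀ X Y : Subgroup H, (X.comap f).relIndex (Y.comap f) = X.relIndex Y := fun X Y => by
    rw [Subgroup.relIndex_comap, map_comap_eq_self_of_surjective hf]
  induction h with
  | base hA hB hle hn => exact Ser.base (hA.comap f) (hB.comap f) (comap_mono hle) (by rwa [hd])
  | step _ hC hD l1 l2 hm hn ih =>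
    exact Ser.step ih (hC.comap f) (hD.comap f) (comap_mono l1) (comap_mono l2) (by rwa [hd]) (by rwa [hd])

variable [Finite G]

theorem relIndex_inf_dvd {A B A' B' : Subgroup G} [A.Normal] [B.Normal] [A'.Normal] [B'.Normal]
    (hA : A ≤ B) (hA' : A' ≤ B') :
    (A ⊓ A').relIndex (B ⊓ B') ∣ A.relIndex B * A'.relIndex B' := by
  rw [← relIndex_mul_relIndex (A ⊓ A') (A ⊓ B') (B ⊓ B') (inf_le_inf_left _ hA') (inf_le_inf_right _ hA),
    mul_comm (A.relIndex B)]
  have h1 := relIndex_trace_dvd (H := (⊥ : Subgroup G)) (H' := A) hA'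
  have h2 := relIndex_trace_dvd (H := (⊥ : Subgroup G)) (H' := B') hA
  rw [bot_sup_eq, bot_sup_eq] at h1 h2
  rw [inf_comm A' A, inf_comm B' A] at h1
  exact Nat.mul_dvd_mul h1 h2

/-- Two series of the same length intersect in one. -/
theorem ser_inf (hp : p.Prime) {n : ℕ} {A B : Subgroup G} (h : Ser p n A B) :
    ∀ {A' B' : Subgroup G}, Ser p n A' B' → Ser p n (A ⊓ A') (B ⊓ B') := by
  induction h with
  | @base A B hA hB hle hn =>
    intro A' B' h'
    cases h' with
    | base hA' hB' hle' hn' =>
      haveI := hA; haveI := hB; haveI := hA'; haveI := hB'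
      refine Ser.base inferInstance inferInstance (inf_le_inf hle hle') fun hd => ?_
      exact (hp.dvd_mul.1 (hd.trans (relIndex_inf_dvd hle hle'))).elim hn hn'
  | @step n A B C D h hC hD l1 l2 hm hn ih =>
    intro A' D' h'
    cases h' with
    | @step _ _ B' C' _ h'' hC' hD' l1' l2' hm' hn' =>
      haveI := hC; haveI := hD; haveI := hC'; haveI := hD'
      haveI := h.normal_le.2.1; haveI := h''.normal_le.2.1
      refine Ser.step (ih h'') inferInstance inferInstance (inf_le_inf l1 l1') (inf_le_inf l2 l2') ?_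
        fun hd => (hp.dvd_mul.1 (hd.trans (relIndex_inf_dvd l2 l2'))).elim hn hn'
      obtain ⟨m, hm⟩ := hm
      obtain ⟨m', hm'⟩ := hm'
      have hd := relIndex_inf_dvd l1 l1'
      rw [hm, hm', ← pow_add] at hd
      obtain ⟨i, -, hi⟩ := (Nat.dvd_prime_pow hp).1 hd
      exact ⟨i, hi⟩

/-- The first two layers. -/
theorem ser_one [Fact p.Prime] : Ser p 1 (⊥ : Subgroup G) (Cfsg.upperPSeries p G 2).1 := by
  have h0 := ser_upper (G := G) (p := p) 0
  rw [show 2 * 0 + 1 = 1 from rfl] at h0
  refine Ser.step h0 (Cfsg.upperPSeries p G 2).2 (Cfsg.upperPSeries p G 2).2 ?_ le_rfl ?_ ?_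
  · rw [CfsgLib.PGroup.upperPSeries_succ_odd (n := 1) (by simp)]
    exact QuotientGroup.le_comap_mk' _ _
  · rw [CfsgLib.PGroup.upperPSeries_succ_odd (n := 1) (by simp), CfsgLib.PGroup.stepP,
      CfsgLib.PGroup.PLengthSeries.relIndex_comap]
    exact IsPGroup.iff_card.1 (CfsgLib.Coprime.pCore_isPGroup p)
  · rw [relIndex_self]
    exact fun h => (Fact.out : p.Prime).ne_one (Nat.dvd_one.1 h)

theorem pLengthLE_of_ser [Fact p.Prime] {n : ℕ} (h : Ser p n (⊥ : Subgroup G) ⊤) : Cfsg.PLengthLE p n G := by
  have h2 := le_upper h (j := 0) bot_le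
  rw [Nat.zero_add] at h2
  exact top_le_iff.1 h2

/-- A finite `2`-soluble group is soluble. -/
theorem isSolvable_of_isPSolvable_two : ∀ (n : ℕ) (G : Type u) [Group G] [Finite G],
    Nat.card G ≤ n → Cfsg.IsPSolvable 2 G → Group.IsSolvable G := by
  haveI : Fact (Nat.Prime 2) := ⟨Nat.prime_two⟩
  intro n
  induction n with
  | zero => exact fun G _ _ h _ => absurd h (Nat.not_le.2 Nat.card_pos)
  | succ n ih =>
    intro G _ _ hn hG
    rcases subsingleton_or_nontrivial G with _ | _
    · exact Group.isSolvable_of_comm fun a b => Subsingleton.elim _ _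
    have hext : ∀ N : Subgroup G, N.Normal → N ≠ ⊥ → Group.IsSolvable N → Group.IsSolvable G := by
      intro N hN hne hsN
      haveI := hN; haveI := hsN
      have hlt : Nat.card (G ⧸ N) ≤ n := by
        have h1 := N.card_mul_index
        rw [Subgroup.index_eq_card] at h1
        have h2 : 1 < Nat.card N := N.one_lt_card_iff_ne_bot.2 hne
        have h3 : 0 < Nat.card (G ⧸ N) := Nat.card_pos
        nlinarith
      haveI := ih (G ⧸ N) hlt (CfsgLib.PGroup.isPSolvable_quotient Nat.prime_two hG N)
      exact Group.isSolvable_of_ker_le_range N.subtype (QuotientGroup.mk' N)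
        (by rw [QuotientGroup.ker_mk', range_subtype])
    rcases CfsgLib.PGroup.pCore_ne_bot_or_pPrimeCore_ne_bot hG with h | h
    · exact hext _ (CfsgLib.Coprime.pCore_normal' 2) h
        (CfsgLib.Coprime.isSolvable_of_isNilpotent (CfsgLib.Coprime.pCore_isPGroup (G := G) 2).isNilpotent)
    · haveI : (Cfsg.pPrimeCore 2 G).Characteristic := CfsgLib.Coprime.pPrimeCore_characteristic 2
      exact hext _ inferInstance h (CfsgLib.FT.isSolvable_of_odd _
        (Nat.coprime_two_right.1 (CfsgLib.Coprime.pPrimeCore_coprime (G := G) Nat.prime_two)))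

end CfsgLib.PGroup.DerivedTwo
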